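import Cfsg.Agent.ReeF4.Bruhat

/-!
# `N¹/H¹` and the order of ²F₄
-/

set_option autoImplicit false

namespace CfsgLib.ReeF4

open Cfsg.Lie CfsgLib.Chevalley
open scoped MatrixGroups

variable {K : Type*} [Field K] [CharP K 2] (T : Tw K)

/-- The datum of `σ` for a field of `2^(2m+1)` elements. -/
def mkTw {K : Type*} [Field K] [Fintype K] [CharP K 2] {m : ℕ}
    (hK : Fintype.card K = 2 ^ (2 * m + 1)) : Tw K where
  m := m
  per x := by rw [← hK]; exact FiniteField.pow_card x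

theorem charP_of_card {K : Type*} [Field K] [Fintype K] {m : ℕ}
    (hK : Fintype.card K = 2 ^ (2 * m + 1)) : CharP K 2 := by
  obtain ⟨p, hp⟩ := CharP.exists K
  obtain ⟨n, hp', hn⟩ := FiniteField.card K p
  obtain rfl : p = 2 := by
    have h1 : p ∣ 2 ^ (2 * m + 1) := hK ▸ hn ▸ dvd_pow_self p n.ne_zero
    exact (Nat.prime_dvd_prime_iff_eq hp' Nat.prime_two).1 (hp'.dvd_of_dvd_pow h1)
  exact hp

variable [Finite K]

theorem Tw.natCard_U1 : Nat.card ↥T.U1 = Nat.card K ^ 12 := by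
  rw [T.U1_eq, T.natCard_uF allS_ok, allS_card]

theorem Tw.natCard_H1 : Nat.card ↥T.H1 = (Nat.card K - 1) ^ 2 := T.natCard_diag_inf_fix

theorem Tw.pos_inf_G1 : D.posUnipotent K ⊓ T.G1 = T.U1 := by rw [T.G1_eq_fix]; rfl

theorem Tw.diag_inf_G1 : D.diagonalSubgroup K ⊓ T.G1 = T.H1 := by rw [T.G1_eq_fix]; rfl

/-- `N¹/H¹` is dihedral of order 16. -/
theorem Tw.exists_weylHom :
    ∃ φ : ↥(D.monomialSubgroup K ⊓ T.G1) →* DihedralGroup 8, Function.Surjective φ ∧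
      φ.ker = (D.diagonalSubgroup K ⊓ T.G1).subgroupOf (D.monomialSubgroup K ⊓ T.G1) := by
  let ι : ↥(D.monomialSubgroup K ⊓ T.G1) →* ↥(D.monomialSubgroup K) :=
    Subgroup.inclusion inf_le_left
  have hex : ∀ g : ↥(D.monomialSubgroup K ⊓ T.G1), ∃ d, θD d = weylHom hW hR (ι g) := fun g =>
    T.exists_θD (ι g) (T.G1_le_fix (Subgroup.mem_inf.1 g.2).2)
  let φ : ↥(D.monomialSubgroup K ⊓ T.G1) →* DihedralGroup 8 :=
    { toFun := fun g => (hex g).choose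
      map_one' := θD_injective (by rw [(hex 1).choose_spec, map_one, map_one, map_one])
      map_mul' := fun a b => θD_injective (by
        rw [(hex (a * b)).choose_spec, map_mul, map_mul, map_mul, (hex a).choose_spec,
          (hex b).choose_spec]) }
  have hφ : ∀ g, θD (φ g) = weylHom hW hR (ι g) := fun g => (hex g).choose_spec
  refine ⟨φ, fun d => ⟨⟨nD K d, Subgroup.mem_inf.2 ⟨nD_monomial d, T.nD_mem d⟩⟩,
    θD_injective ?_⟩, ?_⟩
  · rw [hφ]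
    exact weylHom_nD d
  · ext g
    rw [MonoidHom.mem_ker, ← θD_injective.eq_iff, hφ, map_one, ← MonoidHom.mem_ker, ker_weylHom,
      Subgroup.mem_subgroupOf, Subgroup.mem_subgroupOf, Subgroup.mem_inf]
    exact ⟨fun h => ⟨h, (Subgroup.mem_inf.1 g.2).2⟩, fun h => h.1⟩

theorem Tw.natCard_fix :
    Nat.card ↥T.fix = Nat.card K ^ 12 * (Nat.card K - 1) ^ 2 *
      ∑ d : DihedralGroup 8, Nat.card K ^ nSlots (invS d) := by
  have hS : ∀ d, chkSet (invS d) = true := fun d => List.all_eq_true.1 invS_ok d (mem_dList d)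
  rw [Finset.sum_congr rfl fun d _ => (T.natCard_uF (hS d)).symm, ← Nat.card_sigma,
    ← T.natCard_U1, ← T.natCard_H1, ← Nat.card_prod, ← Nat.card_prod]
  let φ : (↥T.U1 × ↥T.H1) × (Σ d, ↥(T.uF (invS d) 0)) → ↥T.fix := fun p =>
    ⟨p.1.1 * p.1.2 * nD K p.2.1 * p.2.2, mul_mem (mul_mem (mul_mem (Subgroup.mem_inf.1 p.1.1.2).2
      (Subgroup.mem_inf.1 p.1.2.2).2) (T.nD_fix _)) (Subgroup.mem_inf.1 p.2.2.2).2⟩
  refine (Nat.card_eq_of_bijective φ ⟨?_, ?_⟩).symm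
  · rintro ⟨⟨⟨u, hu⟩, ⟨h, hh⟩⟩, ⟨d, ⟨v, hv⟩⟩⟩ ⟨⟨⟨u', hu'⟩, ⟨h', hh'⟩⟩, ⟨d', ⟨v', hv'⟩⟩⟩ e
    have e' : u * h * nD K d * v = u' * h' * nD K d' * v' := congrArg Subtype.val e
    have hb := mul_mem (T.U1_le_borel hu) (T.H1_le_borel hh)
    have hb' := mul_mem (T.U1_le_borel hu') (T.H1_le_borel hh')
    have hc := mem_cell_nD hb (T.U1_le_borel (T.uF_le_U1 (hS d) 0 hv)) d
    have hc' := mem_cell_nD hb' (T.U1_le_borel (T.uF_le_U1 (hS d') 0 hv')) d'
    rw [← e'] at hc'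
    obtain rfl : d = d' := θD_injective (cell_eq_of_mem hW hR hc hc')
    have hn : weylHom hW hR (⟨nW hW hR K (θD d), nW_mem hW hR _⟩ : ↥(D.monomialSubgroup K)) =
        θD d := cell_eq_of_mem hW hR (mem_cell_self hW hR _)
      ⟨1, one_mem _, 1, one_mem _, by rw [one_mul, mul_one]⟩
    have hπ : MonBy hW (nW hW hR K (θD d)) (dP d) := by
      have h' := monBy_weylHom hW hR
        (⟨nW hW hR K (θD d), nW_mem hW hR _⟩ : ↥(D.monomialSubgroup K))
      rw [hn, rootPerm_θD] at h'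
      exact h'
    have hk := diag_le_borel D (diag_of_monBy (nD_monomial d) (nW_mem hW hR _) (monBy_nD d) hπ)
    set k := nD K d * (nW hW hR K (θD d))⁻¹ with hkdef
    have e2 : u * h * k * nW hW hR K (θD d) * v = u' * h' * k * nW hW hR K (θD d) * v' := by
      rw [mul_assoc (u * h) k, mul_assoc (u' * h') k, hkdef, inv_mul_cancel_right]
      exact e'
    obtain ⟨e3, rfl⟩ := form_unique hW hR (mul_mem hb hk) (mul_mem hb' hk)
      (uW_θD (K := K) d ▸ (Subgroup.mem_inf.1 hv).1) (uW_θD (K := K) d ▸ (Subgroup.mem_inf.1 hv').1)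
      e2
    have e4 := mul_right_cancel e3
    have e5 : u'⁻¹ * u = h' * h⁻¹ := by
      calc u'⁻¹ * u = u'⁻¹ * (u * h) * h⁻¹ := by group
        _ = _ := by rw [e4]; group
    have h1 : u'⁻¹ * u ∈ D.posUnipotent K ⊓ D.diagonalSubgroup K :=
      Subgroup.mem_inf.2 ⟨mul_mem (inv_mem hu'.1) hu.1, e5 ▸ mul_mem hh'.1 (inv_mem hh.1)⟩
    rw [pos_inf_diag hW, Subgroup.mem_bot] at h1
    obtain rfl : u' = u := inv_mul_eq_one.1 h1
    obtain rfl : h = h' := mul_left_cancel e4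
    rfl
  · rintro ⟨g, hg⟩
    obtain ⟨d, u, hu, h, hh, v, hv, rfl⟩ := T.exists_form hg
    exact ⟨((⟨u, hu⟩, ⟨h, hh⟩), ⟨d, ⟨v, hv⟩⟩), rfl⟩

theorem sum_nSlots (q : ℕ) : ∑ d : DihedralGroup 8, q ^ nSlots (invS d) =
    (1 + q + q ^ 2 + q ^ 3) * (1 + q ^ 3 + q ^ 6 + q ^ 9) := by
  have hnd : dList.Nodup := by decide +kernel
  have huniv : dList.toFinset = Finset.univ :=
    Finset.eq_univ_iff_forall.2 fun d => List.mem_toFinset.2 (mem_dList d)
  rw [← huniv, List.sum_toFinset _ hnd,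
    show dList.map (fun d => q ^ nSlots (invS d)) =
      (dList.map fun d => nSlots (invS d)).map fun k => q ^ k by rw [List.map_map]; rfl,
    invS_card]
  simp only [List.map_cons, List.map_nil, List.sum_cons, List.sum_nil]
  ring

/-- The order of ²F₄(q). -/
theorem Tw.natCard_G1 {q : ℕ} (hq : Nat.card K = q) :
    Nat.card ↥T.G1 = q ^ 12 * (q - 1) * (q ^ 3 + 1) * (q ^ 4 - 1) * (q ^ 6 + 1) := by
  rw [T.G1_eq_fix, T.natCard_fix, sum_nSlots, hq]
  obtain ⟨p, rfl⟩ : ∃ p, q = p + 1 := ⟨q - 1, by have : 0 < q := hq ▸ Nat.card_pos; omega⟩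
  have h4 : (p + 1) ^ 4 - 1 = p * (p ^ 3 + 4 * p ^ 2 + 6 * p + 4) := by
    rw [show (p + 1) ^ 4 = p * (p ^ 3 + 4 * p ^ 2 + 6 * p + 4) + 1 by ring, Nat.add_sub_cancel]
  rw [h4, Nat.add_sub_cancel]
  ring

end CfsgLib.ReeF4
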