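import Cfsg.Agent.ReeF4.Gens
import Cfsg.Agent.ChevSimple.Basic

/-!
# The fixed torus
-/

set_option autoImplicit false

namespace CfsgLib.ReeF4

open Cfsg.Lie CfsgLib.Chevalley
open scoped MatrixGroups

variable {K : Type*} [Field K]

/-- A torus parameter from its four entries. -/
def mk4 (a b c d : Kˣ) : Fin D.rank → Kˣ := fun k => [a, b, c, d].getD k 1

theorem nodes : List.finRange D.rank = [nd 0, nd 1, nd 2, nd 3] := by decide +kernel

theorem torC_eq (c : Fin D.rank → Kˣ) :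
    torC D c = hT K (rt 33) (c (nd 0)) * (hT K (rt 27) (c (nd 1)) *
      (hT K (rt 25) (c (nd 2)) * hT K (rt 24) (c (nd 3)))) := by
  rw [torC_eq_prod hW, nodes]
  simp [apart.2.2.2.1, apart.2.2.2.2.1, apart.2.2.2.2.2.1, apart.2.2.2.2.2.2]

theorem nd_vals : ((nd 0 : ℕ) = 0 ∧ (nd 1 : ℕ) = 1 ∧ (nd 2 : ℕ) = 2 ∧ (nd 3 : ℕ) = 3) ∧
    ∀ k : Fin D.rank, k = nd 0 ∨ k = nd 1 ∨ k = nd 2 ∨ k = nd 3 := by
  decide +kernel

theorem mk4_apply (a b c d : Kˣ) :
    mk4 a b c d (nd 0) = a ∧ mk4 a b c d (nd 1) = b ∧ mk4 a b c d (nd 2) = c ∧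
      mk4 a b c d (nd 3) = d := by
  obtain ⟨⟨h0, h1, h2, h3⟩, -⟩ := nd_vals
  simp [mk4, h0, h1, h2, h3]

theorem cartan_simple :
    ((List.range 4).map fun i => (List.range 4).map fun k =>
      D.cartan k (pRoot hW (nd i))) =
      [[2, -1, 0, 0], [-1, 2, -1, 0], [0, -2, 2, -1], [0, 0, -1, 2]] := by
  decide +kernel

theorem prod_nodes (f : Fin D.rank → Kˣ) :
    ∏ k, f k = f (nd 0) * f (nd 1) * f (nd 2) * f (nd 3) := by
  rw [← List.prod_ofFn, List.ofFn_eq_map, nodes]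
  simp [mul_assoc]

theorem cartan_val {i k : ℕ} (hi : i < 4) (hk : k < 4) :
    D.cartan (nd k) (pRoot hW (nd i)) =
      ([[2, -1, 0, 0], [-1, 2, -1, 0], [0, -2, 2, -1], [0, 0, -1, 2]].getD i []).getD k 0 := by
  interval_cases i <;> interval_cases k <;> decide +kernel

theorem eq_one_of_chi {c : Fin D.rank → Kˣ}
    (hχ : ∀ i < 4, ChevSimple.chi c (pRoot hW (nd i)) = 1) : c = 1 := by
  have e : ∀ i < 4, c (nd 0) ^ (([[2, -1, 0, 0], [-1, 2, -1, 0], [0, -2, 2, -1], [0, 0, -1, 2]] :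
      List (List ℤ)).getD i []).getD 0 0 *
      c (nd 1) ^ (([[2, -1, 0, 0], [-1, 2, -1, 0], [0, -2, 2, -1], [0, 0, -1, 2]] :
      List (List ℤ)).getD i []).getD 1 0 *
      c (nd 2) ^ (([[2, -1, 0, 0], [-1, 2, -1, 0], [0, -2, 2, -1], [0, 0, -1, 2]] :
      List (List ℤ)).getD i []).getD 2 0 *
      c (nd 3) ^ (([[2, -1, 0, 0], [-1, 2, -1, 0], [0, -2, 2, -1], [0, 0, -1, 2]] :
      List (List ℤ)).getD i []).getD 3 0 = 1 := by
    intro i hi
    have := hχ i hi
    rw [ChevSimple.chi, prod_nodes] at this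
    rwa [cartan_val hi (by norm_num : 0 < 4), cartan_val hi (by norm_num : 1 < 4),
      cartan_val hi (by norm_num : 2 < 4), cartan_val hi (by norm_num : 3 < 4)] at this
  have e0 := e 0 (by norm_num)
  have e1 := e 1 (by norm_num)
  have e2 := e 2 (by norm_num)
  have e3 := e 3 (by norm_num)
  simp [zpow_ofNat, mul_inv_eq_one] at e0 e1 e2 e3
  have p1 : c (nd 1) = c (nd 0) ^ 2 := e0.symm
  rw [p1] at e1 e2
  have p2 : c (nd 2) = c (nd 0) ^ 3 := by
    rw [← e1]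
    group
  rw [p2] at e2 e3
  have p3 : c (nd 3) = c (nd 0) ^ 2 := by
    rw [← e2]
    group
  rw [p3] at e3
  have p0 : c (nd 0) = 1 := by
    calc c (nd 0) = (c (nd 0) ^ 3)⁻¹ * (c (nd 0) ^ 2) ^ 2 := by group
      _ = 1 := e3
  funext k
  rcases nd_vals.2 k with rfl | rfl | rfl | rfl <;> simp [p1, p2, p3, p0]

theorem torC_injective : Function.Injective (torC D : (Fin D.rank → Kˣ) → GL D.Idx K) := by
  intro c c' h
  suffices H : ∀ c : Fin D.rank → Kˣ, torC D c = 1 → c = 1 by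
    have := H (c * c'⁻¹) (by
      show torHom D K (c * c'⁻¹) = 1
      rw [map_mul, map_inv, show torHom D K c = torHom D K c' from h, mul_inv_cancel])
    exact mul_inv_eq_one.1 this
  intro c hc
  refine eq_one_of_chi fun i _ => ?_
  have h' : (tor fun s : Root D => ∏ k : Fin D.rank, c k ^ D.cartan k s : GL D.Idx K) =
      tor fun _ => 1 := by rw [tor_one]; exact hc
  exact congrFun (tor_injective h') (pRoot hW (nd i))

theorem coroots :
    ((List.range 4).map fun k => ([14, 17, 19, 20, 22, 23, 24, 25, 27, 28, 30, 33].map fun r =>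
      (D.coroot.getD (dp (dJ true) (rt r)) #[]).getD k 0)).map (fun l => (l.getD 11 0, l.getD 6 0)) =
      [(1, 0), (2, 1), (2, 2), (0, 1)] := by
  decide +kernel

variable [CharP K 2] (T : Tw K)

/-- `θ` on units. -/
def Tw.θU : Kˣ →* Kˣ := Units.map T.θ.toMonoidHom

theorem Tw.θU_θU_sq (a : Kˣ) : T.θU (T.θU a) ^ 2 = a := by
  apply Units.ext
  simp [Tw.θU, T.θ_θ_sq]

theorem Tw.parU_two {r : Root D} (h : ex r = 2) (a : Kˣ) : T.parU r a = T.θU a ^ 2 := by
  rw [Tw.parU, h]; rfl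

theorem Tw.parU_one {r : Root D} (h : ex r = 1) (a : Kˣ) : T.parU r a = T.θU a := by
  rw [Tw.parU, h, pow_one]; rfl

/-- The fixed torus element with the given two entries. -/
def Tw.tor2 : Kˣ × Kˣ →* GL D.Idx K :=
  (torHom D K).comp
    { toFun := fun p => mk4 (T.θU p.2) (T.θU p.1) p.1 p.2
      map_one' := by
        funext k
        rcases nd_vals.2 k with rfl | rfl | rfl | rfl <;> simp [mk4_apply]
      map_mul' := fun p q => by
        funext k
        rcases nd_vals.2 k with rfl | rfl | rfl | rfl <;> simp [mk4_apply] }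

theorem Tw.tor2_apply (a b : Kˣ) :
    T.tor2 (a, b) = torC D (mk4 (T.θU b) (T.θU a) a b) := rfl

theorem Tw.tor2_injective : Function.Injective T.tor2 := by
  rintro ⟨a, b⟩ ⟨a', b'⟩ h
  have := torC_injective h
  have h2 := congrFun this (nd 2)
  have h3 := congrFun this (nd 3)
  simp [mk4_apply] at h2 h3
  rw [h2, h3]

theorem Tw.sig_torC (c : Fin D.rank → Kˣ) :
    T.sig (torC D c) = torC D (mk4 (T.θU (c (nd 3))) (T.θU (c (nd 2))) (T.θU (c (nd 1)) ^ 2)
      (T.θU (c (nd 0)) ^ 2)) := by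
  have hm : ∀ r (a : Kˣ), hT K r a ∈ G K := fun r a => ChevSimple.hT_mem_group hW r a
  obtain ⟨-, ⟨r1, -, -, -, r5, -⟩, ⟨e1, e2, -, -⟩, -, ⟨e5, e6, -, -⟩⟩ := cls_data
  have r1' : rho (rt 25) = rt 27 := by rw [← r1, (rho_facts _).1]
  have r5' : rho (rt 24) = rt 33 := by rw [← r5, (rho_facts _).1]
  rw [torC_eq, T.sig_mul (hm _ _) (mul_mem (hm _ _) (mul_mem (hm _ _) (hm _ _))),
    T.sig_mul (hm _ _) (mul_mem (hm _ _) (hm _ _)), T.sig_mul (hm _ _) (hm _ _), T.sig_hT,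
    T.sig_hT, T.sig_hT, T.sig_hT, r1, r1', r5, r5', T.parU_two e1, T.parU_one e2, T.parU_two e5,
    T.parU_one e6, torC_eq]
  simp only [mk4_apply]
  have hd := fun r a r' a' => diag_comm hW (hT_mem_diagonal (F := K) hW r a) (hT_mem_diagonal hW r' a')
  set A := hT K (rt 24) (T.θU (c (nd 0)) ^ 2)
  set B := hT K (rt 25) (T.θU (c (nd 1)) ^ 2)
  set C := hT K (rt 27) (T.θU (c (nd 2)))
  set E := hT K (rt 33) (T.θU (c (nd 3)))
  have hAd : A ∈ D.diagonalSubgroup K := hT_mem_diagonal hW _ _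
  have hBd : B ∈ D.diagonalSubgroup K := hT_mem_diagonal hW _ _
  have hCd : C ∈ D.diagonalSubgroup K := hT_mem_diagonal hW _ _
  have hEd : E ∈ D.diagonalSubgroup K := hT_mem_diagonal hW _ _
  calc A * (B * (C * E)) = (B * (C * E)) * A := diag_comm hW hAd (mul_mem hBd (mul_mem hCd hEd))
    _ = B * ((C * E) * A) := by group
    _ = ((C * E) * A) * B := diag_comm hW hBd (mul_mem (mul_mem hCd hEd) hAd)
    _ = (E * C) * A * B := by rw [diag_comm hW hCd hEd]
    _ = E * C * (B * A) := by rw [mul_assoc, diag_comm hW hAd hBd]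
    _ = E * (C * (B * A)) := by group

theorem Tw.tor2_fix (p : Kˣ × Kˣ) : T.tor2 p ∈ T.fix := by
  obtain ⟨a, b⟩ := p
  refine ⟨diag_le_group hW (?_), ?_⟩
  · rw [diagonalSubgroup_eq_range hW]; exact ⟨_, rfl⟩
  · rw [T.tor2_apply, T.sig_torC]
    simp [mk4_apply, T.θU_θU_sq]

/-- The fixed torus consists of these elements. -/
theorem Tw.diag_inf_fix : D.diagonalSubgroup K ⊓ T.fix = T.tor2.range := by
  refine le_antisymm ?_ ?_
  · intro g hg
    obtain ⟨hd, hf⟩ := Subgroup.mem_inf.1 hg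
    rw [diagonalSubgroup_eq_range hW] at hd
    obtain ⟨c, rfl⟩ := hd
    have h : T.sig (torC D c) = torC D c := hf.2
    rw [T.sig_torC] at h
    have := torC_injective h
    refine ⟨(c (nd 2), c (nd 3)), ?_⟩
    rw [T.tor2_apply]
    show torC D _ = torC D c
    congr 1
    funext k
    have h0 := congrFun this (nd 0)
    have h1 := congrFun this (nd 1)
    simp [mk4_apply] at h0 h1
    rcases nd_vals.2 k with rfl | rfl | rfl | rfl <;> simp [mk4_apply, h0, h1]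
  · rintro _ ⟨p, rfl⟩
    refine Subgroup.mem_inf.2 ⟨?_, T.tor2_fix p⟩
    rw [diagonalSubgroup_eq_range hW]
    exact ⟨_, rfl⟩

theorem Tw.natCard_diag_inf_fix [Finite K] :
    Nat.card ↥(D.diagonalSubgroup K ⊓ T.fix) = (Nat.card K - 1) ^ 2 := by
  rw [T.diag_inf_fix,
    ← Nat.card_congr (MonoidHom.ofInjective T.tor2_injective).toEquiv, Nat.card_prod,
    Nat.card_units, sq]

theorem Tw.tor2_pair_mem (b : Kˣ) : T.tor2 (1, b) ∈ T.G1 := by
  have h := mul_mem (T.nElt_pair_mem b) (T.nElt_pair_mem 1)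
  rw [T.tor2_apply, torC_eq]
  simp only [mk4_apply, map_one, hT_one, one_mul]
  convert h using 1
  rw [← hElt_eq hW, ← hElt_eq hW, Tw.neg_one_units, map_one]
  set A := nElt hW.good (rt 33) (T.θU b)
  set A' := nElt hW.good (rt 33) (1 : Kˣ)
  set C := nElt hW.good (rt 24) b
  set C' := nElt hW.good (rt 24) (1 : Kˣ)
  have hc : Commute C A' := commute_nElt (1 : Kˣ) b
  calc A * A' * (C * C') = A * (A' * C) * C' := by group
    _ = A * (C * A') * C' := by rw [hc.eq]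
    _ = A * C * (A' * C') := by group

omit [CharP K 2] in
theorem Mon.conj_hT {g : GL D.Idx K} {π : Equiv.Perm (Root D)} (hg : Mon g π)
    (hrev : ∀ r, π r.rev = (π r).rev) (r : Root D) (a : Kˣ) :
    g * hT K r a * g⁻¹ = hT K (π r) a := by
  have key : ∀ (r : Root D) (a : Kˣ),
      g * nElt hW.good r a * g⁻¹ = nElt hW.good (π r) a := fun r a => by
    rw [nElt, nElt, show ∀ n x y z : GL D.Idx K,
      n * (x * y * z) * n⁻¹ = (n * x * n⁻¹) * (n * y * n⁻¹) * (n * z * n⁻¹) from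
      fun n x y z => by group, hg, hg, hrev]
  rw [← hElt_eq hW, ← hElt_eq hW, show ∀ p q : GL D.Idx K, g * (p * q) * g⁻¹ =
    g * p * g⁻¹ * (g * q * g⁻¹) from fun p q => by group, key, key]

/-- The torus of the second orbit. -/
theorem Tw.tor2_mem (p : Kˣ × Kˣ) : T.tor2 p ∈ T.G1 := by
  obtain ⟨a, b⟩ := p
  set s : Kˣ := a / T.θU a with hs
  have hrev : ∀ r : Root D, dP (dJ true) r.rev = (dP (dJ true) r).rev := fun r => by
    have := List.all_eq_true.1 (List.all_eq_true.1 dp_rho (dJ true) (mem_dList _)) r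
      (List.mem_finRange r)
    simp only [Bool.and_eq_true, decide_eq_true_eq] at this
    exact this.2
  have hsa : T.θU s ^ 2 * s ^ 2 = a := by
    rw [hs, map_div, div_pow, div_pow, T.θU_θU_sq, div_mul_div_comm, div_eq_iff_eq_mul]
    apply Units.ext
    simp only [Units.val_mul, Units.val_pow_eq_pow_val]
    ring
  have hconj : n₁ K * T.tor2 (1, s) * (n₁ K)⁻¹ =
      torC D (mk4 (T.θU s) (T.θU a) a s) := by
    rw [T.tor2_apply, torC_eq]
    simp only [mk4_apply, map_one, hT_one, one_mul]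
    rw [show ∀ p q : GL D.Idx K, n₁ K * (p * q) * (n₁ K)⁻¹ =
      n₁ K * p * (n₁ K)⁻¹ * (n₁ K * q * (n₁ K)⁻¹) from fun p q => by group,
      Mon.conj_hT mon_n₁ hrev, Mon.conj_hT mon_n₁ hrev, hT_eq_torC, hT_eq_torC, torC_mul]
    congr 1
    funext k
    have hc := coroots
    simp [List.range_succ, dP_apply] at hc ⊢
    obtain ⟨⟨a0, b0⟩, ⟨a1, b1⟩, ⟨a2, b2⟩, a3, b3⟩ := hc
    obtain ⟨v0, v1, v2, v3⟩ := nd_vals.1
    have hθa : T.θU a = T.θU s ^ 2 * s := by
      rw [← hsa, map_mul, map_pow, map_pow, T.θU_θU_sq, mul_comm]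
    rcases nd_vals.2 k with rfl | rfl | rfl | rfl <;>
      simp [mk4_apply, v0, v1, v2, v3, a0, b0, a1, b1, a2, b2, a3, b3, hθa, hsa, zpow_ofNat]
  have e : T.tor2 (a, b) = torC D (mk4 (T.θU s) (T.θU a) a s) * (T.tor2 (1, s))⁻¹ * T.tor2 (1, b) := by
    rw [← T.tor2_apply, ← map_inv, ← map_mul, ← map_mul]
    simp
  rw [e, ← hconj]
  exact mul_mem (mul_mem (mul_mem (mul_mem T.n₁_mem (T.tor2_pair_mem s)) (inv_mem T.n₁_mem))
    (inv_mem (T.tor2_pair_mem s))) (T.tor2_pair_mem b)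

theorem Tw.diag_inf_fix_le : D.diagonalSubgroup K ⊓ T.fix ≤ T.G1 := by
  rw [T.diag_inf_fix]
  rintro _ ⟨p, rfl⟩
  exact T.tor2_mem p

end CfsgLib.ReeF4
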