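import Cfsg.Agent.ReeF4.BN

/-!
# ²F₄(q) is perfect and simple for q > 2
-/

set_option autoImplicit false

namespace CfsgLib.ReeF4

open Cfsg.Lie CfsgLib.Chevalley
open scoped MatrixGroups commutatorElement

variable {K : Type*} [Field K] [CharP K 2] (T : Tw K)

theorem cls_comm : (D.commTerms (rt 27) (rt 28) = [(30, 2, 1, 1)] ∧
    D.commTerms (rt 25) (rt 28) = [] ∧ D.commTerms (rt 27) (rt 30) = [] ∧
    D.commTerms (rt 25) (rt 30) = []) := by
  decide +kernel

omit [CharP K 2] in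
theorem commute_low (s u : K) :
    Commute (x K (rt 25) s) (x K (rt 28) u) ∧ Commute (x K (rt 27) s) (x K (rt 30) u) ∧
      Commute (x K (rt 25) s) (x K (rt 30) u) ∧ Commute (x K (rt 28) s) (x K (rt 30) u) :=
  ⟨commute_x cls_comm.2.1 (by decide) (by decide) s u,
    commute_x cls_comm.2.2.1 (by decide) (by decide) s u,
    commute_x cls_comm.2.2.2 (by decide) (by decide) s u,
    commute_x apart.1.2.2.2.2.1 (by decide) (by decide) s u⟩

theorem commute_27_28 (s u : K) : Commute (x K (rt 27) s) (x K (rt 28) u) := by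
  have h := X_comm hW.toGoodComm (rt 27) (rt 28) (by decide) (by decide) s u
  rw [commRhs, cls_comm.1] at h
  simpa [wgl_cons, wgl_nil, CharTwo.two_eq_zero, x_zero, Commute, SemiconjBy] using h.symm

theorem cls_swap (s u : K) : x K (rt 25) u * x K (rt 27) s =
    x K (rt 27) s * x K (rt 25) u * (x K (rt 28) (s * u) * x K (rt 30) (s ^ 2 * u)) := by
  rw [x, x, X_comm hW.toGoodComm (rt 27) (rt 25) (by decide) (by decide) s u]
  congr 1
  rw [commRhs, cls_data.1.1]
  simp [wgl_cons, wgl_nil, CharTwo.neg_eq]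

theorem Tw.cls_mul (t u t' u' : K) :
    T.clsE false t u * T.clsE false t' u' = T.clsE false (t + t') (u + u' + T.θ t * t') := by
  simp only [Tw.clsE, Tw.clsG, Bool.false_eq_true, if_false]
  set A := x K (rt 27) (T.θ t)
  set B := x K (rt 25) t
  set C := x K (rt 28) (T.θ t * t + u)
  set E := x K (rt 30) (T.θ u ^ 2)
  set A' := x K (rt 27) (T.θ t')
  set B' := x K (rt 25) t'
  set C' := x K (rt 28) (T.θ t' * t' + u')
  set E' := x K (rt 30) (T.θ u' ^ 2)
  have hCA : Commute C A' := (commute_27_28 _ _).symm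
  have hEA : Commute E A' := (commute_low _ _).2.1.symm
  set P := x K (rt 28) (T.θ t' * t)
  set Q := x K (rt 30) (T.θ t' ^ 2 * t)
  have hswap : B * A' = A' * B * (P * Q) := cls_swap _ _
  have hCB : Commute C B' := (commute_low _ _).1.symm
  have hEB : Commute E B' := (commute_low _ _).2.2.1.symm
  have hPB : Commute P B' := (commute_low _ _).1.symm
  have hQB : Commute Q B' := (commute_low _ _).2.2.1.symm
  have hQC : ∀ v, Commute Q (x K (rt 28) v) := fun v => (commute_low _ _).2.2.2.symm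
  have hEC : Commute E C' := (commute_low _ _).2.2.2.symm
  have h1 : A * B * C * E * (A' * B' * C' * E') =
      (A * A') * (B * B') * ((P * C) * C') * ((Q * E) * E') := by
    calc A * B * C * E * (A' * B' * C' * E') = A * B * C * (E * A') * B' * C' * E' := by group
      _ = A * B * (C * A') * E * B' * C' * E' := by rw [hEA.eq]; group
      _ = A * (B * A') * C * E * B' * C' * E' := by rw [hCA.eq]; group
      _ = A * A' * B * P * Q * C * (E * B') * C' * E' := by rw [hswap]; group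
      _ = A * A' * B * P * Q * (C * B') * E * C' * E' := by rw [hEB.eq]; group
      _ = A * A' * B * P * (Q * B') * C * E * C' * E' := by rw [hCB.eq]; group
      _ = A * A' * B * (P * B') * Q * C * E * C' * E' := by rw [hQB.eq]; group
      _ = A * A' * B * B' * P * (Q * C) * (E * C') * E' := by rw [hPB.eq]; group
      _ = A * A' * B * B' * P * C * (Q * C') * E * E' := by
        rw [show Q * C = C * Q from (hQC _).eq, hEC.eq]; group
      _ = _ := by rw [show Q * C' = C' * Q from (hQC _).eq]; group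
  rw [h1]
  simp only [A, A', B, B', C, C', E, E', P, Q, x_mul, map_add, map_mul]
  refine congrArg₂ (· * ·) (congrArg₂ (· * ·) rfl (congrArg _ ?_)) (congrArg _ ?_)
  · linear_combination -(T.θ t * t') * (CharTwo.two_eq_zero (R := K))
  · rw [CharTwo.add_sq, CharTwo.add_sq, mul_pow, T.θ_θ_sq]
    ring

/-- The torus element used for the commutators. -/
def Tw.hs (s : Kˣ) : GL D.Idx K := T.tor2 (1, s)

omit [CharP K 2] in
theorem chi_mk4 (r : Root D) (a b c d : Kˣ) : ChevSimple.chi (mk4 a b c d) r =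
    a ^ D.cartan (nd 0) r * b ^ D.cartan (nd 1) r * c ^ D.cartan (nd 2) r *
      d ^ D.cartan (nd 3) r := by
  rw [ChevSimple.chi, prod_nodes]
  simp [mk4_apply]

theorem cartan_roots :
    ([24, 33, 25, 27, 28, 30].map fun r => (D.cartan (nd 0) (rt r), D.cartan (nd 3) (rt r))) =
      [(0, 2), (2, 0), (0, -1), (-1, 0), (-1, -1), (-2, -1)] := by
  decide +kernel

theorem Tw.hs_conj (s : Kˣ) (r : Root D) (v : K) :
    T.hs s * x K r v * (T.hs s)⁻¹ =
      x K r (((T.θU s ^ D.cartan (nd 0) r * s ^ D.cartan (nd 3) r : Kˣ) : K) * v) := by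
  rw [Tw.hs, T.tor2_apply]
  refine (ChevSimple.torC_conj_X hW.good _ r v).trans ?_
  rw [chi_mk4]
  simp

theorem Tw.hs_conj_pair (s : Kˣ) (t : K) :
    T.hs s * T.pairE false t * (T.hs s)⁻¹ = T.pairE false ((s : K) ^ 2 * t) := by
  have hc := cartan_roots
  simp at hc
  obtain ⟨⟨a, a'⟩, ⟨b, b'⟩, -⟩ := hc
  simp only [Tw.pairE, Bool.false_eq_true, if_false]
  rw [show ∀ p q : GL D.Idx K, T.hs s * (p * q) * (T.hs s)⁻¹ =
    T.hs s * p * (T.hs s)⁻¹ * (T.hs s * q * (T.hs s)⁻¹) from fun p q => by group,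
    T.hs_conj, T.hs_conj, a, a', b, b']
  simp [Tw.θU, map_mul, zpow_ofNat]

theorem Tw.hs_conj_cls (s : Kˣ) (t u : K) :
    T.hs s * T.clsE false t u * (T.hs s)⁻¹ =
      T.clsE false ((s : K)⁻¹ * t) ((T.θ (s : K))⁻¹ * (s : K)⁻¹ * u) := by
  have hc := cartan_roots
  simp at hc
  obtain ⟨-, -, ⟨a, a'⟩, ⟨b, b'⟩, ⟨c, c'⟩, d, d'⟩ := hc
  simp only [Tw.clsE, Tw.clsG, Bool.false_eq_true, if_false]
  rw [show ∀ p q r w : GL D.Idx K, T.hs s * (p * q * r * w) * (T.hs s)⁻¹ =
    T.hs s * p * (T.hs s)⁻¹ * (T.hs s * q * (T.hs s)⁻¹) * (T.hs s * r * (T.hs s)⁻¹) *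
      (T.hs s * w * (T.hs s)⁻¹) from fun p q r w => by group,
    T.hs_conj, T.hs_conj, T.hs_conj, T.hs_conj, a, a', b, b', c, c', d, d']
  simp only [map_mul, map_inv₀, mul_pow, inv_pow, T.θ_θ_sq]
  simp [Tw.θU, zpow_ofNat, mul_assoc, mul_left_comm, mul_comm]
  congr 1
  ring

variable [Finite K]

theorem Tw.hs_mem (s : Kˣ) : T.hs s ∈ T.G1 := T.tor2_mem _

theorem Tw.commutator_mem {g y : GL D.Idx K} (hg : g ∈ T.G1) (hy : y ∈ T.G1) :
    g * y * g⁻¹ * y⁻¹ ∈ ⁅T.G1, T.G1⁆ := by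
  rw [← commutatorElement_def]
  exact Subgroup.commutator_mem_commutator hg hy

theorem Tw.conj_mem_comm {n g : GL D.Idx K} (hn : n ∈ T.G1) (hg : g ∈ ⁅T.G1, T.G1⁆) :
    n * g * n⁻¹ ∈ ⁅T.G1, T.G1⁆ := by
  have hle : ⁅T.G1, T.G1⁆ ≤ T.G1 := Subgroup.commutator_le.2 fun a ha b hb => by
    rw [commutatorElement_def]
    exact mul_mem (mul_mem (mul_mem ha hb) (inv_mem ha)) (inv_mem hb)
  have := mul_mem (T.commutator_mem hn (hle hg)) hg
  rwa [inv_mul_cancel_right] at this

theorem exists_unit_ne_one (h : 3 ≤ Nat.card K) : ∃ s : Kˣ, s ≠ 1 := by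
  by_contra hc
  push Not at hc
  have : Subsingleton Kˣ := ⟨fun a b => (hc a).trans (hc b).symm⟩
  have h1 : Nat.card Kˣ ≤ 1 := Finite.card_le_one_iff_subsingleton.2 this
  rw [Nat.card_units] at h1
  omega

theorem Tw.pairE_mem_comm (h : 3 ≤ Nat.card K) (t : K) :
    T.pairE false t ∈ ⁅T.G1, T.G1⁆ := by
  obtain ⟨s, hs⟩ := exists_unit_ne_one h
  have hs2 : (s : K) ^ 2 + 1 ≠ 0 := by
    intro e
    apply hs
    have : ((s : K) + 1) ^ 2 = 0 := by rw [CharTwo.add_sq, one_pow, e]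
    exact Units.ext (CharTwo.add_eq_zero.1 (eq_zero_of_pow_eq_zero this))
  have hinv : ∀ v : K, (T.pairE false v)⁻¹ = T.pairE false v := fun v => by
    simp only [Tw.pairE, Bool.false_eq_true, if_false, mul_inv_rev, X_inv, CharTwo.neg_eq]
    exact (commute_24_33 _ _).eq
  have hmul : ∀ v w : K, T.pairE false v * T.pairE false w = T.pairE false (v + w) := fun v w => by
    simp only [Tw.pairE, Bool.false_eq_true, if_false, map_add, ← x_mul]
    calc x K (rt 33) (T.θ v) * x K (rt 24) v * (x K (rt 33) (T.θ w) * x K (rt 24) w)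
        = x K (rt 33) (T.θ v) * (x K (rt 24) v * x K (rt 33) (T.θ w)) * x K (rt 24) w := by group
      _ = _ := by rw [(commute_24_33 _ _).eq]; group
  have := T.commutator_mem (T.hs_mem s) (T.pair_mem false (t / ((s : K) ^ 2 + 1)))
  rwa [T.hs_conj_pair, hinv, hmul, ← add_one_mul, mul_div_cancel₀ _ hs2] at this

theorem Tw.clsE_mem_comm (h : 3 ≤ Nat.card K) (t u : K) :
    T.clsE false t u ∈ ⁅T.G1, T.G1⁆ := by
  obtain ⟨s, hs⟩ := exists_unit_ne_one h
  set lam : K := (T.θ (s : K))⁻¹ * (s : K)⁻¹ with hlam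
  have hl1 : lam + 1 ≠ 0 := by
    intro e
    apply hs
    have e1 : lam = 1 := CharTwo.add_eq_zero.1 e
    rw [hlam, ← mul_inv, inv_eq_one] at e1
    have e2 : (s : K) * T.θ (s : K) ^ 2 = 1 := by
      have := congrArg (fun v : K => T.θ v ^ 2) e1
      simpa [mul_pow, T.θ_θ_sq] using this
    have e3 : T.θ (s : K) = 1 := by
      calc T.θ (s : K) = T.θ (s : K) * (T.θ (s : K) * (s : K)) := by rw [e1, mul_one]
        _ = (s : K) * T.θ (s : K) ^ 2 := by ring
        _ = 1 := e2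
    exact Units.ext (by simpa [e3] using e1)
  have hl2 : (s : K)⁻¹ + 1 ≠ 0 := by
    intro e
    exact hs (Units.ext (inv_eq_one.1 (CharTwo.add_eq_zero.1 e)))
  have hzero : T.clsE false 0 0 = 1 := by simp [Tw.clsE, Tw.clsG, x_zero]
  have hinv : ∀ v w : K, (T.clsE false v w)⁻¹ = T.clsE false v (w + T.θ v * v) := fun v w => by
    refine inv_eq_of_mul_eq_one_right ?_
    rw [T.cls_mul, show w + (w + T.θ v * v) + T.θ v * v = (w + w) + (T.θ v * v + T.θ v * v) by ring]
    simp [CharTwo.add_self_eq_zero, hzero]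
  have hcom : ∀ v w : K, ∃ w', T.clsE false (((s : K)⁻¹ + 1) * v) w' ∈ ⁅T.G1, T.G1⁆ ∧
      (v = 0 → w' = (lam + 1) * w) := fun v w => by
    have := T.commutator_mem (T.hs_mem s) (T.cls_mem false v w)
    rw [T.hs_conj_cls, hinv, T.cls_mul, ← add_one_mul] at this
    exact ⟨_, this, fun hv => by subst hv; simp [hlam, add_mul]⟩
  have hu : ∀ w, T.clsE false 0 w ∈ ⁅T.G1, T.G1⁆ := fun w => by
    obtain ⟨w', hw, e⟩ := hcom 0 (w / (lam + 1))
    rwa [mul_zero, e rfl, mul_div_cancel₀ _ hl1] at hw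
  obtain ⟨w', hw, -⟩ := hcom (t / ((s : K)⁻¹ + 1)) 0
  rw [mul_div_cancel₀ _ hl2] at hw
  have := mul_mem hw (hu (u + w'))
  rw [T.cls_mul, add_zero, mul_zero, add_zero, show w' + (u + w') = u + (w' + w') by ring,
    CharTwo.add_self_eq_zero, add_zero] at this
  exact this

theorem neg_roots : dp (dJ false) (rt 33) = rt 14 ∧ dp (dJ false) (rt 24) = rt 23 ∧
    dp (dJ true) (rt 27) = rt 20 ∧ dp (dJ true) (rt 25) = rt 22 ∧ dp (dJ true) (rt 28) = rt 19 ∧
      dp (dJ true) (rt 30) = rt 17 := by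
  decide +kernel

/-- For `q > 2` the twisted group is perfect. -/
theorem Tw.commutator_eq_top (h : 3 ≤ Nat.card K) : commutator ↥T.G1 = ⊤ := by
  have key : T.G1 ≤ ⁅T.G1, T.G1⁆ := by
    refine T.G1_le ?_ ?_
    · intro b t
      cases b
      · exact T.pairE_mem_comm h t
      · have := T.conj_mem_comm T.n₀_mem (T.pairE_mem_comm h t)
        obtain ⟨a, b, -⟩ := neg_roots
        convert this using 1
        simp only [Tw.pairE, Bool.false_eq_true, if_false, if_true]
        rw [show ∀ p q : GL D.Idx K, n₀ K * (p * q) * (n₀ K)⁻¹ =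
          n₀ K * p * (n₀ K)⁻¹ * (n₀ K * q * (n₀ K)⁻¹) from fun p q => by group, mon_n₀, mon_n₀,
          dP_apply, dP_apply, a, b]
    · intro b t u
      cases b
      · exact T.clsE_mem_comm h t u
      · have := T.conj_mem_comm T.n₁_mem (T.clsE_mem_comm h t u)
        obtain ⟨-, -, a, b, c, d⟩ := neg_roots
        convert this using 1
        simp only [Tw.clsE, Tw.clsG, Bool.false_eq_true, if_false, if_true]
        rw [show ∀ p q r w : GL D.Idx K, n₁ K * (p * q * r * w) * (n₁ K)⁻¹ =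
          n₁ K * p * (n₁ K)⁻¹ * (n₁ K * q * (n₁ K)⁻¹) * (n₁ K * r * (n₁ K)⁻¹) *
            (n₁ K * w * (n₁ K)⁻¹) from fun p q r w => by group, mon_n₁, mon_n₁, mon_n₁, mon_n₁,
          dP_apply, dP_apply, dP_apply, dP_apply, a, b, c, d]
  apply Subgroup.map_injective (f := T.G1.subtype) (Subgroup.subtype_injective _)
  rw [commutator_def, Subgroup.map_commutator, ← MonoidHom.range_eq_map, Subgroup.range_subtype]
  refine le_antisymm (Subgroup.commutator_le.2 fun a ha b hb => ?_) key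
  rw [commutatorElement_def]
  exact mul_mem (mul_mem (mul_mem ha hb) (inv_mem ha)) (inv_mem hb)

theorem Tw.isSolvable_B : Group.IsSolvable ((D.borelSubgroup K ⊓ T.G1).subgroupOf T.G1) := by
  haveI := ChevSimple.isSolvable_borel (F := K) hW
  let f : ↥((D.borelSubgroup K ⊓ T.G1).subgroupOf T.G1) →* ↥(D.borelSubgroup K) :=
    { toFun := fun x => ⟨((x : ↥T.G1) : GL D.Idx K),
        (Subgroup.mem_inf.1 (Subgroup.mem_subgroupOf.1 x.2)).1⟩
      map_one' := rfl
      map_mul' := fun _ _ => rfl }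
  exact Group.isSolvable_of_isSolvable_injective (f := f) fun a b h =>
    Subtype.ext (Subtype.ext (congrArg (fun z : ↥(D.borelSubgroup K) => (z : GL D.Idx K)) h))

/-- For `q > 2` the twisted group is simple and not commutative. -/
theorem Tw.isSimple (h : 3 ≤ Nat.card K) :
    IsSimpleGroup ↥T.G1 ∧ ¬ IsMulCommutative ↥T.G1 := by
  obtain ⟨P, hB, -, hS⟩ := T.exists_bnPair
  have hperf := T.commutator_eq_top h
  have hne : Nontrivial ↥T.G1 := by
    refine ⟨⟨T.lift 0 1, T.lift_mem 0 1⟩, 1, fun e => ?_⟩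
    obtain ⟨z, hz, ez⟩ := T.lift_eq_lead allS_ok 0 1 (slot_facts 0).1
    have e' : T.lift 0 1 = 1 := congrArg Subtype.val e
    have h4 : lead 0 (T.θ 1) (1 : K) * z = lead 0 0 0 * 1 := by
      rw [← ez, e']; simp [lead, x_zero]
    exact one_ne_zero (lead_unique hz (one_mem _) h4).2
  refine ⟨CfsgLib.BNPairs.isSimpleGroup_of_bnPair (T.irreducible P hB hS) ?_ hperf
    (hB ▸ T.normalCore_eq_bot), fun hc => ?_⟩
  · rw [hB]
    exact T.isSolvable_B
  · refine absurd hperf ?_
    have : commutator ↥T.G1 = ⊥ := by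
      rw [eq_bot_iff, commutator_def]
      refine Subgroup.commutator_le.2 fun a _ b _ => ?_
      rw [Subgroup.mem_bot, commutatorElement_eq_one_iff_mul_comm]
      exact hc.is_comm.comm a b
    rw [this]
    exact bot_ne_top

end CfsgLib.ReeF4
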