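import Cfsg.Agent.ReeF4.Count
import Cfsg.Agent.BNPairs.Simplicity
import Cfsg.Prelude.Def_LieExceptional

/-!
# The (B, N)-pair of ²F₄, the core of `B¹`, perfectness and simplicity
-/

set_option autoImplicit false

namespace CfsgLib.ReeF4

open Cfsg.Lie CfsgLib.Chevalley
open scoped MatrixGroups commutatorElement

variable {K : Type*} [Field K] [CharP K 2] (T : Tw K)

/-- A reflection in the twisted group. -/
def Tw.nG (j : Bool) : ↥T.G1 := ⟨nJ K j, T.nJ_mem j⟩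

theorem Tw.coe_nG (j : Bool) : (T.nG j : GL D.Idx K) = nJ K j := rfl

variable [Finite K]

theorem Tw.borel_mem {b : GL D.Idx K} (hb : b ∈ D.borelSubgroup K ⊓ T.G1) :
    ∃ u ∈ T.U1, ∃ h ∈ T.H1, u * h = b :=
  T.exists_borel_fix (Subgroup.mem_inf.1 hb).1 (T.G1_le_fix (Subgroup.mem_inf.1 hb).2)

theorem Tw.U1_le_B : T.U1 ≤ D.borelSubgroup K ⊓ T.G1 := le_inf T.U1_le_borel T.U1_le_G1

theorem Tw.H1_le_B : T.H1 ≤ D.borelSubgroup K ⊓ T.G1 := le_inf T.H1_le_borel T.H1_le_G1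

omit [CharP K 2] [Finite K] in
theorem perm_of_mem_borel {g : GL D.Idx K} (hb : g ∈ D.borelSubgroup K)
    (hm : g ∈ D.monomialSubgroup K) {π : Equiv.Perm (Root D)} (hπ : MonBy hW g π) : π = 1 := by
  have h1 : g ∈ D.diagonalSubgroup K :=
    borel_inf_monomial (F := K) hW hR ▸ (⟨hb, hm⟩ :
      g ∈ D.borelSubgroup K ⊓ D.monomialSubgroup K)
  exact hπ.unique (monBy_diag hW h1)

theorem dJ_apart : dJ false ≠ dJ true ∧ dJ false * dJ true * dJ false * dJ true ≠ 1 ∧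
    (∀ r : Root D, isPos r = true → isPos (dp (.r 4) r) = false) := by
  decide +kernel

/-- The (B, N)-pair. -/
theorem Tw.exists_bnPair :
    ∃ P : Cfsg.BNPair ↥T.G1,
      P.B = (D.borelSubgroup K ⊓ T.G1).subgroupOf T.G1 ∧
      P.N = (D.monomialSubgroup K ⊓ T.G1).subgroupOf T.G1 ∧
      P.S = Set.range T.nG := by
  set B := (D.borelSubgroup K ⊓ T.G1).subgroupOf T.G1 with hB
  set N := (D.monomialSubgroup K ⊓ T.G1).subgroupOf T.G1 with hN
  have memB : ∀ {g : ↥T.G1}, (g : GL D.Idx K) ∈ D.borelSubgroup K → g ∈ B := fun {g} h =>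
    Subgroup.mem_subgroupOf.2 (Subgroup.mem_inf.2 ⟨h, g.2⟩)
  have memN : ∀ {g : ↥T.G1}, (g : GL D.Idx K) ∈ D.monomialSubgroup K → g ∈ N := fun {g} h =>
    Subgroup.mem_subgroupOf.2 (Subgroup.mem_inf.2 ⟨h, g.2⟩)
  have ofB : ∀ {g : ↥T.G1}, g ∈ B → (g : GL D.Idx K) ∈ D.borelSubgroup K := fun {g} h =>
    (Subgroup.mem_inf.1 (Subgroup.mem_subgroupOf.1 h)).1
  have ofN : ∀ {g : ↥T.G1}, g ∈ N → (g : GL D.Idx K) ∈ D.monomialSubgroup K := fun {g} h =>
    (Subgroup.mem_inf.1 (Subgroup.mem_subgroupOf.1 h)).1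
  have hgen : ∀ {L : Subgroup ↥T.G1}, Set.range T.nG ⊆ (L : Set ↥T.G1) → ∀ d,
      (⟨nD K d, T.nD_mem d⟩ : ↥T.G1) ∈ L := by
    intro L hL d
    have h2 := mul_mem (hL ⟨false, rfl⟩) (hL ⟨true, rfl⟩)
    rcases d with i | i
    · convert pow_mem h2 i.val using 1
      exact Subtype.ext (by simp [nD, Tw.coe_nG, nJ])
    · convert mul_mem (hL ⟨false, rfl⟩) (pow_mem h2 i.val) using 1
      exact Subtype.ext (by simp [nD, Tw.coe_nG, nJ])
  refine ⟨{
    B := B
    N := N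
    S := Set.range T.nG
    sup_eq_top := ?_
    conj_mem := ?_
    subset := ?_
    sq_mem := ?_
    inj := ?_
    closure_sup := ?_
    mul_mem_union := ?_
    conj_ne := ?_ }, rfl, rfl, rfl⟩
  · rw [eq_top_iff]
    rintro ⟨g, hg⟩ -
    obtain ⟨d, u, hu, h, hh, v, hv, rfl⟩ := T.exists_form (T.G1_le_fix hg)
    have hv' : v ∈ T.U1 := T.uF_le_U1 (List.all_eq_true.1 invS_ok d (mem_dList d)) 0 hv
    exact mul_mem (mul_mem (mul_mem
      (Subgroup.mem_sup_left (memB (g := ⟨u, T.U1_le_G1 hu⟩) (T.U1_le_borel hu)))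
      (Subgroup.mem_sup_left (memB (g := ⟨h, T.H1_le_G1 hh⟩) (T.H1_le_borel hh))))
      (Subgroup.mem_sup_right (memN (g := ⟨nD K d, T.nD_mem d⟩) (nD_monomial d))))
      (Subgroup.mem_sup_left (memB (g := ⟨v, T.U1_le_G1 hv'⟩) (T.U1_le_borel hv')))
  · intro n hn t ht
    obtain ⟨htB, htN⟩ := Subgroup.mem_inf.1 ht
    have htd : (t : GL D.Idx K) ∈ D.diagonalSubgroup K :=
      borel_inf_monomial (F := K) hW hR ▸ (⟨ofB htB, ofN htN⟩ :
        (t : GL D.Idx K) ∈ D.borelSubgroup K ⊓ D.monomialSubgroup K)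
    exact memB (diag_le_borel D
      ((Subgroup.mem_normalizer_iff.1 (monomial_le_normalizer hW (ofN hn)) _).1 htd))
  · rintro _ ⟨j, rfl⟩
    exact memN (nJ_monomial j)
  · rintro _ ⟨j, rfl⟩
    refine memB (diag_le_borel D ?_)
    have hp : MonBy hW (nJ K j * nJ K j) (1 : Equiv.Perm (Root D)) := by
      rw [← map_one dP, ← dJ_sq j, map_mul]
      exact (monBy_nJ j).mul (monBy_nJ j)
    have := diag_of_monBy (mul_mem (nJ_monomial j) (nJ_monomial j)) (one_mem _) hp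
      (MonBy.one hW)
    rwa [inv_one, mul_one] at this
  · rintro _ ⟨a, rfl⟩ _ ⟨b, rfl⟩ hab
    have h2 := perm_of_mem_borel (ofB hab)
      (mul_mem (inv_mem (nJ_monomial a)) (nJ_monomial b))
      ((monBy_nJ a).inv.mul (monBy_nJ b))
    rw [inv_mul_eq_one, dP_injective.eq_iff] at h2
    cases a <;> cases b
    · rfl
    · exact absurd h2 dJ_apart.1
    · exact absurd h2.symm dJ_apart.1
    · rfl
  · refine le_antisymm (sup_le ((Subgroup.closure_le _).2 ?_) inf_le_right) ?_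
    · rintro _ ⟨j, rfl⟩
      exact memN (nJ_monomial j)
    · intro g hg
      obtain ⟨d, -, k, hk, e⟩ := T.exists_monomial (ofN hg) (T.G1_le_fix g.2)
      rw [show g = (⟨k, T.H1_le_G1 hk⟩ : ↥T.G1) * ⟨nD K d, T.nD_mem d⟩ from Subtype.ext e]
      exact mul_mem (Subgroup.mem_sup_right (Subgroup.mem_inf.2
        ⟨memB (T.H1_le_borel hk), memN (diag_le_monomial D (Subgroup.mem_inf.1 hk).1)⟩))
        (hgen (L := Subgroup.closure (Set.range T.nG) ⊔ (B ⊓ N))
          (fun x hx => Subgroup.mem_sup_left (Subgroup.subset_closure hx)) d)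
  · rintro _ ⟨j, rfl⟩ n hn b hb
    obtain ⟨u, hu, h, hh, e⟩ := T.borel_mem (Subgroup.mem_subgroupOf.1 hb)
    obtain ⟨d, -, k, hk, e'⟩ := T.exists_monomial (ofN hn) (T.G1_le_fix n.2)
    have hhk : h * k ∈ T.H1 := mul_mem hh hk
    -- move the torus to the right
    have hl : (nD K d)⁻¹ * (h * k) * nD K d ∈ T.H1 := by
      have := T.conj_H1 (inv_mem (nD_monomial d)) (inv_mem (T.nD_fix d)) hhk
      rwa [inv_inv] at this
    set l := (nD K d)⁻¹ * (h * k) * nD K d with hldef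
    have hval : ((T.nG j * b * n : ↥T.G1) : GL D.Idx K) = nJ K j * u * nD K d * l := by
      show nJ K j * (b : GL D.Idx K) * (n : GL D.Idx K) = _
      rw [show (b : GL D.Idx K) = u * h from e.symm, e', hldef]
      group
    have hnk : (nD K d)⁻¹ * k * nD K d ∈ T.H1 := by
      have := T.conj_H1 (inv_mem (nD_monomial d)) (inv_mem (T.nD_fix d)) hk
      rwa [inv_inv] at this
    have key : ∀ (m : ↥T.G1) (c c' : GL D.Idx K), c ∈ D.borelSubgroup K ⊓ T.G1 →
        c' ∈ D.borelSubgroup K ⊓ T.G1 →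
        ((T.nG j * b * n : ↥T.G1) : GL D.Idx K) = c * m * c' →
        T.nG j * b * n ∈ DoubleCoset.doubleCoset m (B : Set ↥T.G1) B :=
      fun m c c' hc hc' he => DoubleCoset.mem_doubleCoset.2
        ⟨⟨c, (Subgroup.mem_inf.1 hc).2⟩, memB (Subgroup.mem_inf.1 hc).1,
          ⟨c', (Subgroup.mem_inf.1 hc').2⟩, memB (Subgroup.mem_inf.1 hc').1, Subtype.ext he⟩
    rcases T.nJ_mul_U1_mul j hu d with ⟨u', hu', h', hh', v, hv, e''⟩ | ⟨u', hu', h', hh', v, hv, e''⟩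
    · refine Or.inl (key _ (u' * h') (((nD K d)⁻¹ * k * nD K d)⁻¹ * (v * l))
        (mul_mem (T.U1_le_B hu') (T.H1_le_B hh'))
        (mul_mem (inv_mem (T.H1_le_B hnk)) (mul_mem (T.U1_le_B hv) (T.H1_le_B hl))) ?_)
      rw [hval, ← e'']
      show _ = u' * h' * (nJ K j * (n : GL D.Idx K)) * _
      rw [e']
      group
    · refine Or.inr (key _ (u' * h') (((nD K d)⁻¹ * k * nD K d)⁻¹ * (v * l))
        (mul_mem (T.U1_le_B hu') (T.H1_le_B hh'))
        (mul_mem (inv_mem (T.H1_le_B hnk)) (mul_mem (T.U1_le_B hv) (T.H1_le_B hl))) ?_)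
      rw [hval, ← e'', e']
      group
  · rintro _ ⟨j, rfl⟩ e
    obtain ⟨i, hi⟩ : ∃ i : Fin 12, clsS j (lb i) = true := by
      cases j
      · exact ⟨0, by decide +kernel⟩
      · exact ⟨1, by decide +kernel⟩
    have hy : T.lift i 1 ∈ T.uF (clsS j) 0 := Subgroup.mem_inf.2
      ⟨uS_anti (Nat.zero_le _) (T.lift_mem_uS (clsS_set j) i 1 hi), T.lift_fix i 1⟩
    let y : ↥T.G1 := ⟨T.lift i 1, T.lift_mem i 1⟩
    have hyB : y ∈ B := memB (T.U1_le_borel (T.uF_le_U1 (clsS_set j) 0 hy))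
    have h1 : T.nG j * y * T.nG j ∈ (B : Set ↥T.G1) := e ▸ ⟨y, hyB, rfl⟩
    have h1' : nJ K j * T.lift i 1 * nJ K j ∈ D.borelSubgroup K := ofB h1
    have hsq : nJ K j * nJ K j ∈ D.borelSubgroup K := by
      refine diag_le_borel D ?_
      have hp : MonBy hW (nJ K j * nJ K j) (1 : Equiv.Perm (Root D)) := by
        rw [← map_one dP, ← dJ_sq j, map_mul]
        exact (monBy_nJ j).mul (monBy_nJ j)
      have := diag_of_monBy (mul_mem (nJ_monomial j) (nJ_monomial j)) (one_mem _) hp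
        (MonBy.one hW)
      rwa [inv_one, mul_one] at this
    have h2 : nJ K j * T.lift i 1 * (nJ K j)⁻¹ ∈ D.borelSubgroup K ⊓ D.negUnipotent K := by
      refine Subgroup.mem_inf.2 ⟨?_, ?_⟩
      · have := mul_mem h1' (inv_mem hsq)
        rwa [show ∀ n z : GL D.Idx K, n * z * n * (n * n)⁻¹ = n * z * n⁻¹ from
          fun n z => by group] at this
      · rw [negUnipotent_eq_rootGen hW.good]
        exact conj_uS (monBy_nJ j) (fun r hr => dJ_cls_neg j hr) (Subgroup.mem_inf.1 hy).1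
    rw [borel_inf_neg hW, Subgroup.mem_bot] at h2
    have h3 : T.lift i 1 = 1 := by
      calc T.lift i 1 = (nJ K j)⁻¹ * (nJ K j * T.lift i 1 * (nJ K j)⁻¹) * nJ K j := by group
        _ = 1 := by rw [h2]; group
    obtain ⟨z, hz, ez⟩ := T.lift_eq_lead allS_ok i 1 (slot_facts i).1
    have h4 : lead i (T.θ 1) (1 : K) * z = lead i 0 0 * 1 := by
      rw [← ez, h3]; simp [lead, x_zero]
    exact one_ne_zero (lead_unique hz (one_mem _) h4).2

theorem Tw.irreducible (P : Cfsg.BNPair ↥T.G1)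
    (hB : P.B = (D.borelSubgroup K ⊓ T.G1).subgroupOf T.G1) (hS : P.S = Set.range T.nG) :
    P.Irreducible := by
  intro J hJS hJ hJc
  obtain ⟨s, hs⟩ := hJ
  obtain ⟨t, ht, htJ⟩ := hJc
  refine ⟨s, hs, t, ⟨ht, htJ⟩, ?_⟩
  have hne : s ≠ t := fun e => htJ (e ▸ hs)
  have hs' := hJS hs
  rw [hS] at hs' ht
  obtain ⟨a, rfl⟩ := hs'
  obtain ⟨b, rfl⟩ := ht
  rw [hB, Subgroup.mem_subgroupOf, Subgroup.mem_inf]
  rintro ⟨h, -⟩
  have hm : nJ K a * nJ K b * (nJ K a)⁻¹ * (nJ K b)⁻¹ ∈ D.monomialSubgroup K :=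
    mul_mem (mul_mem (mul_mem (nJ_monomial a) (nJ_monomial b)) (inv_mem (nJ_monomial a)))
      (inv_mem (nJ_monomial b))
  have h2 := perm_of_mem_borel h hm
    ((((monBy_nJ a).mul (monBy_nJ b)).mul (monBy_nJ a).inv).mul (monBy_nJ b).inv)
  rw [← map_inv, ← map_inv, ← map_mul, ← map_mul, ← map_mul, ← map_one dP,
    dP_injective.eq_iff, inv_eq_of_mul_eq_one_right (dJ_sq a),
    inv_eq_of_mul_eq_one_right (dJ_sq b)] at h2
  cases a <;> cases b
  · exact hne rfl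
  · exact dJ_apart.2.1 h2
  · refine dJ_apart.2.1 ?_
    have := congrArg (fun g => dJ false * g * dJ false) h2
    simpa [mul_assoc, dJ_sq] using this
  · exact hne rfl

/-! ### The core of `B¹` -/

omit [Finite K] in
theorem torC_conj_lift {c : Fin D.rank → Kˣ} (i : Fin 12) (t : K) :
    ∃ z ∈ uS K allS ((i : ℕ) + 1), torC D c * T.lift i t * (torC D c)⁻¹ =
      lead i ((ChevSimple.chi c (la i) : K) * T.θ t) ((ChevSimple.chi c (lb i) : K) * t) * z := by
  obtain ⟨z, hz, e⟩ := T.lift_eq_lead allS_ok i t (slot_facts i).1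
  refine ⟨torC D c * z * (torC D c)⁻¹, ?_, ?_⟩
  · exact diag_conj_rootGen hW (by rw [diagonalSubgroup_eq_range hW]; exact ⟨c, rfl⟩) hz
  · rw [e, lead, lead, ← show ∀ r u, torC D c * x K r u * (torC D c)⁻¹ = x K r ((ChevSimple.chi c r : K) * u) from
      ChevSimple.torC_conj_X hW.good c, ← show ∀ r u, torC D c * x K r u * (torC D c)⁻¹ =
      x K r ((ChevSimple.chi c r : K) * u) from ChevSimple.torC_conj_X hW.good c]
    group

theorem slot_simple : (la 0 = pRoot hW (nd 0) ∧ lb 0 = pRoot hW (nd 3)) ∧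
    la 1 = pRoot hW (nd 1) ∧ lb 1 = pRoot hW (nd 2) := by
  decide +kernel

/-- The core of `B¹` is trivial. -/
theorem Tw.normalCore_eq_bot :
    ((D.borelSubgroup K ⊓ T.G1).subgroupOf T.G1).normalCore = ⊥ := by
  set C := ((D.borelSubgroup K ⊓ T.G1).subgroupOf T.G1).normalCore with hC
  have hCB : ∀ x : ↥T.G1, x ∈ C → (x : GL D.Idx K) ∈ D.borelSubgroup K ⊓ T.G1 := fun x hx =>
    Subgroup.normalCore_le ((D.borelSubgroup K ⊓ T.G1).subgroupOf T.G1) hx
  set g := nD K (.r 4) with hg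
  have hdiag : ∀ x : ↥T.G1, x ∈ C → (x : GL D.Idx K) ∈ T.H1 := by
    intro x hx
    obtain ⟨u, hu, h, hh, e⟩ := T.borel_mem (hCB x hx)
    have hy := (Subgroup.mem_inf.1 (hCB _ ((Subgroup.normalCore_normal _).conj_mem x hx
      ⟨g, T.nD_mem _⟩))).1
    have hgh : g * h * g⁻¹ ∈ D.borelSubgroup K :=
      T.H1_le_borel (T.conj_H1 (nD_monomial _) (T.nD_fix _) hh)
    have h1 : g * u * g⁻¹ ∈ D.borelSubgroup K ⊓ D.negUnipotent K := by
      refine Subgroup.mem_inf.2 ⟨?_, ?_⟩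
      · have := mul_mem (show g * (x : GL D.Idx K) * g⁻¹ ∈ D.borelSubgroup K from hy) (inv_mem hgh)
        rwa [← e, show ∀ g u h : GL D.Idx K, g * (u * h) * g⁻¹ * (g * h * g⁻¹)⁻¹ = g * u * g⁻¹ from
          fun g u h => by group] at this
      · rw [negUnipotent_eq_rootGen hW.good]
        rw [T.U1_eq] at hu
        refine conj_uS (monBy_nD _) (fun r hr => ?_) (Subgroup.mem_inf.1 hu).1
        have := dJ_apart.2.2 r hr
        show (dp (DihedralGroup.r 4) r : ℕ) < half D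
        by_contra hc
        rw [isPos_iff.2 (by omega : half D ≤ (dp (DihedralGroup.r 4) r : ℕ))] at this
        exact absurd this (by simp)
    rw [borel_inf_neg hW, Subgroup.mem_bot] at h1
    have : u = 1 := by
      calc u = g⁻¹ * (g * u * g⁻¹) * g := by group
        _ = 1 := by rw [h1]; group
    rw [← e, this, one_mul]
    exact hh
  rw [Subgroup.eq_bot_iff_forall]
  intro x hx
  have hxH := hdiag x hx
  obtain ⟨c, hc⟩ : ∃ c, torC D c = (x : GL D.Idx K) := by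
    have := (Subgroup.mem_inf.1 hxH).1
    rw [diagonalSubgroup_eq_range hW] at this
    exact this
  have hχ : ∀ i : Fin 12, ChevSimple.chi c (la i) = 1 ∧ ChevSimple.chi c (lb i) = 1 := by
    intro i
    have hyU : T.lift i 1 ∈ T.U1 := by
      rw [T.U1_eq]
      exact Subgroup.mem_inf.2 ⟨uS_anti (Nat.zero_le _)
        (T.lift_mem_uS allS_ok i 1 (slot_facts i).1), T.lift_fix i 1⟩
    let y : ↥T.G1 := ⟨T.lift i 1, T.lift_mem i 1⟩
    have hz : x * y * x⁻¹ * y⁻¹ ∈ C := by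
      rw [show x * y * x⁻¹ * y⁻¹ = x * (y * x⁻¹ * y⁻¹) by group]
      exact mul_mem hx ((Subgroup.normalCore_normal _).conj_mem _ (inv_mem hx) y)
    have h1 : (x : GL D.Idx K) * T.lift i 1 * (x : GL D.Idx K)⁻¹ * (T.lift i 1)⁻¹ ∈
        D.posUnipotent K ⊓ D.diagonalSubgroup K :=
      Subgroup.mem_inf.2 ⟨(Subgroup.mem_inf.1 (mul_mem (T.conj_U1 hxH hyU) (inv_mem hyU))).1,
        (Subgroup.mem_inf.1 (hdiag _ hz)).1⟩
    rw [pos_inf_diag hW, Subgroup.mem_bot, mul_inv_eq_one, ← hc] at h1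
    obtain ⟨z, hz', e⟩ := torC_conj_lift T (c := c) i (1 : K)
    obtain ⟨w, hw, e'⟩ := T.lift_eq_lead allS_ok i 1 (slot_facts i).1
    rw [e, e'] at h1
    obtain ⟨a, b⟩ := lead_unique hz' hw h1
    simp only [map_one, mul_one] at a b
    exact ⟨Units.ext a, Units.ext b⟩
  have h1 : c = 1 := by
    obtain ⟨⟨a0, b0⟩, a1, b1⟩ := slot_simple
    refine eq_one_of_chi fun i hi => ?_
    interval_cases i
    exacts [a0 ▸ (hχ 0).1, a1 ▸ (hχ 1).1, b1 ▸ (hχ 1).2, b0 ▸ (hχ 0).2]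
  apply Subtype.ext
  rw [← hc, h1, OneMemClass.coe_one]
  exact map_one (torHom D K)

end CfsgLib.ReeF4
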