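import Cfsg.Agent.ReeF4.Gens

/-!
# The centraliser of `ρ` in the Weyl group is the dihedral group of order 16
-/

set_option autoImplicit false

namespace CfsgLib.ReeF4

open Cfsg.Lie CfsgLib.Chevalley
open scoped MatrixGroups

/-- The element of `W` of an orbit of nodes. -/
def wJ (j : Bool) : W.Group :=
  if j then W.simple (nd 1) * W.simple (nd 2) * W.simple (nd 1) * W.simple (nd 2)
  else W.simple (nd 0) * W.simple (nd 3)

theorem rootPerm_wJ (j : Bool) : hR.rootPerm (wJ j) = dP (dJ j) := by
  cases j
  · rw [← dP_J0, wJ, if_neg (by simp), map_mul, ← wPerm_eq_rootPerm hW hR,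
      ← wPerm_eq_rootPerm hW hR]
  · rw [← dP_J1, wJ, if_pos rfl, map_mul, map_mul, map_mul, ← wPerm_eq_rootPerm hW hR,
      ← wPerm_eq_rootPerm hW hR]

/-- The element of `W` of one of the sixteen. -/
def wFun : DihedralGroup 8 → W.Group
  | .r i => (wJ false * wJ true) ^ i.val
  | .sr i => wJ false * (wJ false * wJ true) ^ i.val

theorem rootPerm_wFun (d : DihedralGroup 8) : hR.rootPerm (wFun d) = dP d := by
  have h : ∀ i : ZMod 8, hR.rootPerm ((wJ false * wJ true) ^ i.val) = dP (.r i) := fun i => by
    rw [map_pow, map_mul, rootPerm_wJ, rootPerm_wJ, ← dP_gen, ← map_pow]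
    simp
  rcases d with i | i
  · exact h i
  · show hR.rootPerm (wJ false * _) = _
    rw [map_mul, h, rootPerm_wJ, ← map_mul]
    simp [dJ]

/-- The embedding of the dihedral group in `W`. -/
def θD : DihedralGroup 8 →* W.Group where
  toFun := wFun
  map_one' := hR.rootPerm_injective (by rw [rootPerm_wFun, map_one, map_one])
  map_mul' a b := hR.rootPerm_injective (by
    rw [rootPerm_wFun, map_mul, map_mul, rootPerm_wFun, rootPerm_wFun])

theorem rootPerm_θD (d : DihedralGroup 8) : hR.rootPerm (θD d) = dP d := rootPerm_wFun d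

theorem dP_injective : Function.Injective dP := fun a b h => by
  have := List.all_eq_true.1 (List.all_eq_true.1 dp_faithful a (mem_dList a)) b (mem_dList b)
  simp only [Bool.or_eq_true, decide_eq_true_eq, List.any_eq_true] at this
  refine this.resolve_right fun ⟨r, _, hr⟩ => hr ?_
  exact Equiv.congr_fun h r

theorem θD_injective : Function.Injective θD := fun a b h =>
  dP_injective (by rw [← rootPerm_θD, h, rootPerm_θD])

theorem dp_comm_rho (d : DihedralGroup 8) (r : Root D) : dp d (rho r) = rho (dp d r) := by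
  have := List.all_eq_true.1 (List.all_eq_true.1 dp_rho d (mem_dList d)) r (List.mem_finRange r)
  simp only [Bool.and_eq_true, decide_eq_true_eq] at this
  exact this.1

theorem dp_rev (d : DihedralGroup 8) (r : Root D) : dp d r.rev = (dp d r).rev := by
  have := List.all_eq_true.1 (List.all_eq_true.1 dp_rho d (mem_dList d)) r (List.mem_finRange r)
  simp only [Bool.and_eq_true, decide_eq_true_eq] at this
  exact this.2

theorem posIdx_isPos (r : Root D) : Weyl.PosIdx r ↔ isPos r = true := by
  rw [posIdx_iff hW.good hR, isPos_iff]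

theorem node_cases : ∀ k : Fin D.rank, ∃ j : Bool, clsS j (pRoot hW k) = true := by decide +kernel

theorem cls_support : ∀ (j : Bool) (r : Root D), clsS j r = true → ∀ k : Fin D.rank,
    Weyl.corootAt D r k ≠ 0 → clsS j (pRoot hW k) = true := by decide +kernel

theorem cls_pair : ∀ (j : Bool) (k l : Fin D.rank), clsS j (pRoot hW k) = true →
    clsS j (pRoot hW l) = true → pRoot hW l = pRoot hW k ∨ pRoot hW l = rho (pRoot hW k) := by
  decide +kernel

theorem cls_pos : ∀ (j : Bool) (r : Root D), clsS j r = true → isPos r = true := by decide +kernel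

theorem cls_image : ∀ (j : Bool) (r : Root D), clsS j r = true →
    clsS j (dp (dJ j) r).rev = true := by decide +kernel

theorem chkJ' (j : Bool) : chkJ j = true := by cases j; exacts [chkJ_ok.1, chkJ_ok.2]

theorem dJ_sq (j : Bool) : dJ j * dJ j = 1 := by
  have := chkJ' j
  simp only [chkJ, Bool.and_eq_true, decide_eq_true_eq] at this
  exact this.1.1

theorem dJ_facts (j : Bool) (r : Root D) :
    invS (dJ j) r = clsS j r ∧ (complS j r = true → complS j (dp (dJ j) r) = true ∧
      ∀ s, isPos s = true → ∀ c ∈ D.commTerms r s, complS j (rt c.1) = true) := by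
  have := chkJ' j
  simp only [chkJ, Bool.and_eq_true, decide_eq_true_eq, List.all_eq_true, Bool.or_eq_true,
    Bool.not_eq_true'] at this
  obtain ⟨h1, h2⟩ := this.1.2 r (List.mem_finRange r)
  refine ⟨h1, fun h => ?_⟩
  obtain ⟨h3, h4⟩ := h2.resolve_left (by simp [h])
  exact ⟨h3, fun s hs => (h4 s (List.mem_finRange s)).resolve_left (by simp [hs])⟩

/-- A positive root has the class all up or all down. -/
theorem up_or_down (j : Bool) (d : DihedralGroup 8) :
    (∀ r, clsS j r = true → half D ≤ (dp d r : ℕ)) ∨
      ∀ r, clsS j r = true → (dp d r : ℕ) < half D := by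
  have := chkJ' j
  simp only [chkJ, Bool.and_eq_true, List.all_eq_true, Bool.or_eq_true, Bool.not_eq_true'] at this
  rcases this.2 d (mem_dList d) with h | h
  · exact Or.inl fun r hr => isPos_iff.1 ((h r (List.mem_finRange r)).resolve_left (by simp [hr]))
  · refine Or.inr fun r hr => ?_
    have := (h r (List.mem_finRange r)).resolve_left (by simp [hr])
    by_contra h'
    rw [isPos_iff.2 (by omega)] at this
    exact Bool.false_ne_true this.symm

/-- Negative on the simple roots of a class means negative on the class. -/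
theorem cls_negative {w : W.Group} {j : Bool}
    (h : ∀ k : Fin D.rank, clsS j (pRoot hW k) = true →
      ¬ Weyl.PosIdx (hR.rootPerm w (hR.simpleRoot k)))
    {r : Root D} (hr : clsS j r = true) : ¬ Weyl.PosIdx (hR.rootPerm w r) := by
  intro hp
  have hr' : Weyl.PosIdx r := (posIdx_isPos r).2 (cls_pos j r hr)
  have h1 : 0 < Weyl.corootHt D (hR.rootPerm w r) := hp
  rw [← Weyl.RootGood.pair_one, hR.pair_symm] at h1
  have h2 : ∀ k : Fin D.rank, hR.good.rep w⁻¹ 1 k * Weyl.corootAt D r k ≤ 0 := by
    intro k
    rcases eq_or_ne (Weyl.corootAt D r k) 0 with e | e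
    · rw [e, mul_zero]
    · refine mul_nonpos_of_nonpos_of_nonneg ?_ ((hR.root_facts r.2).2.2.2.2.2.1 k hr')
      have := h k (cls_support j r hr k e)
      rw [Weyl.PosIdx, not_lt, ← Weyl.RootGood.pair_one, hR.pair_symm, hR.pair_simple] at this
      exact this
  exact absurd h1 (not_lt.2 (Finset.sum_nonpos fun k _ => h2 k))

/-- The elements of `W` commuting with `ρ`. -/
theorem exists_θD {w : W.Group} (hw : ∀ r, hR.rootPerm w (rho r) = rho (hR.rootPerm w r)) :
    ∃ d, θD d = w := by
  suffices H : ∀ n, ∀ w : W.Group, (hR.invSet w).card = n →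
      (∀ r, hR.rootPerm w (rho r) = rho (hR.rootPerm w r)) → ∃ d, θD d = w from H _ w rfl hw
  intro n
  induction n using Nat.strong_induction_on with
  | _ n ih =>
    intro w hn hw
    by_cases he : hR.invSet w = ∅
    · exact ⟨1, by rw [map_one, hR.eq_one_of_invSet_empty he]⟩
    obtain ⟨k, hk⟩ : ∃ k, ¬ Weyl.PosIdx (hR.rootPerm w (hR.simpleRoot k)) := by
      by_contra hc
      exact he (hR.invSet_eq_empty fun i => by_contra fun h => hc ⟨i, h⟩)
    rw [simpleRoot_eq hW hR] at hk
    obtain ⟨j, hj⟩ := node_cases k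
    have hneg : ∀ r, clsS j r = true → ¬ Weyl.PosIdx (hR.rootPerm w r) := by
      refine fun r hr => cls_negative (fun l hl => ?_) hr
      rw [simpleRoot_eq hW hR]
      rcases cls_pair j k l hj hl with e | e <;> rw [e]
      · exact hk
      · rw [hw, posIdx_isPos, (rho_facts _).2.1, ← posIdx_isPos]
        exact hk
    set w' := w * wJ j with hw'
    have hap : ∀ r, hR.rootPerm w' r = hR.rootPerm w (dp (dJ j) r) := fun r => by
      rw [hw', map_mul, rootPerm_wJ]
      rfl
    have hlt : (hR.invSet w').card < (hR.invSet w).card := by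
      rw [← Finset.card_image_of_injective (hR.invSet w') (dP (dJ j)).injective]
      refine Finset.card_lt_card ⟨fun s hs => ?_, fun hsub => ?_⟩
      · obtain ⟨r, hr, rfl⟩ := Finset.mem_image.1 hs
        rw [hR.mem_invSet, hap, posIdx_isPos] at hr
        rw [hR.mem_invSet, dP_apply, posIdx_isPos]
        refine ⟨?_, hr.2⟩
        have hf := dJ_facts j r
        by_contra hc
        have hc' : invS (dJ j) r = true := by simp [invS, hr.1, Bool.eq_false_iff.2 hc]
        have hcl : clsS j r = true := hf.1 ▸ hc'
        -- the image is the negative of a root of the class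
        have hrev : clsS j (dp (dJ j) r).rev = true := cls_image j r hcl
        apply hr.2
        have h1 := hneg _ hrev
        rw [show (dp (dJ j) r).rev = hR.negRoot (dp (dJ j) r) from
          Fin.ext (hW.good.neg_fin _).symm, hR.rootPerm_neg, hR.pos_negRoot, not_not] at h1
        exact h1
      · have hk' : pRoot hW k ∈ hR.invSet w := by
          rw [hR.mem_invSet, posIdx_isPos]
          exact ⟨cls_pos j _ hj, hneg _ hj⟩
        obtain ⟨r, hr, e⟩ := Finset.mem_image.1 (hsub hk')
        rw [hR.mem_invSet, posIdx_isPos] at hr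
        rw [dP_apply] at e
        have e' : r = dp (dJ j) (pRoot hW k) := by
          rw [← e, ← dP_apply, ← dP_apply, ← Equiv.Perm.mul_apply, ← map_mul, dJ_sq, map_one]
          rfl
        have h2 : invS (dJ j) (pRoot hW k) = true := (dJ_facts j _).1.trans hj
        simp only [invS, Bool.and_eq_true, Bool.not_eq_true', ← e'] at h2
        rw [h2.2] at hr
        exact Bool.false_ne_true hr.1
    obtain ⟨d, hd⟩ := ih _ (hn ▸ hlt) w' rfl fun r => by rw [hap, hap, dp_comm_rho, hw]
    refine ⟨d * dJ j, hR.rootPerm_injective ?_⟩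
    rw [map_mul θD, map_mul, hd, rootPerm_θD, hw', map_mul, rootPerm_wJ, mul_assoc, ← map_mul,
      dJ_sq, map_one, mul_one]

variable {K : Type*} [Field K] [CharP K 2]

theorem Mon.monBy {g : GL D.Idx K} {d : DihedralGroup 8} (h : Mon g (dP d)) :
    MonBy hW g (dP d) := fun r =>
  ⟨1, fun t => by rw [Units.val_one, one_mul]; exact h r t,
    fun t => by
      rw [inv_one, Units.val_one, one_mul, ← show dP d r.rev = (dP d r).rev from dp_rev d r]
      exact h r.rev t⟩

theorem monBy_nD (d : DihedralGroup 8) : MonBy hW (nD K d) (dP d) := (mon_nD d).monBy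

theorem monBy_nJ (j : Bool) : MonBy hW (nJ K j) (dP (dJ j)) := (mon_nJ j).monBy

theorem weylHom_nD (d : DihedralGroup 8) :
    weylHom hW hR (⟨nD K d, nD_monomial d⟩ : ↥(D.monomialSubgroup K)) = θD d :=
  weylHom_eq hW hR ((rootPerm_θD d).symm ▸ monBy_nD d)

/-- A fixed monomial element lies over the dihedral group. -/
theorem Tw.exists_θD (T : Tw K) (g : ↥(D.monomialSubgroup K)) (hf : (g : GL D.Idx K) ∈ T.fix) :
    ∃ d, θD d = weylHom hW hR g := by
  refine ReeF4.exists_θD fun r => ?_
  have h := monBy_weylHom hW hR g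
  have e := T.sig_monBy_eq hf.1 h (hf.2.symm ▸ h)
  conv_lhs => rw [e]
  simp [rhoP_apply, (rho_facts r).1]

end CfsgLib.ReeF4
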