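import Cfsg.Agent.ReeF4.Unip
import Cfsg.Agent.ReeF4.Weyl
import Cfsg.Agent.ReeF4.Torus

/-!
# The Bruhat decomposition of the fixed points

Every fixed point is `u h n_d v`, so the twisted group consists of all the fixed points of `σ`.
-/

set_option autoImplicit false

namespace CfsgLib.ReeF4

open Cfsg.Lie CfsgLib.Chevalley
open scoped MatrixGroups

variable {K : Type*} [Field K] [CharP K 2] (T : Tw K)

theorem sTail_zero (S : Root D → Bool) : sTail S 0 = {r | S r = true} := by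
  ext r; simp [sTail]

theorem invRoots_θD (d : DihedralGroup 8) :
    invRoots hR (θD d) = {r | invS d r = true} := by
  ext r
  simp only [invRoots, Set.mem_setOf_eq, invS, Bool.and_eq_true, isPos_iff, Bool.not_eq_true',
    rootPerm_θD, dP_apply]
  refine and_congr_right' ?_
  rw [← Bool.not_eq_true, isPos_iff, not_le]

theorem uW_θD (d : DihedralGroup 8) : uW hW hR K (θD d) = uS K (invS d) 0 := by
  rw [uS, sTail_zero, uW, invRoots_θD]

theorem diag_of_monBy {g h : GL D.Idx K} (hg : g ∈ D.monomialSubgroup K)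
    (hh : h ∈ D.monomialSubgroup K) {π : Equiv.Perm (Root D)} (hgπ : MonBy hW g π)
    (hhπ : MonBy hW h π) : g * h⁻¹ ∈ D.diagonalSubgroup K := by
  let a : ↥(D.monomialSubgroup K) := ⟨g, hg⟩
  let b : ↥(D.monomialSubgroup K) := ⟨h, hh⟩
  have e : a * b⁻¹ ∈ (weylHom hW hR).ker := by
    rw [MonoidHom.mem_ker, map_mul, map_inv, mul_inv_eq_one]
    refine hR.rootPerm_injective ?_
    rw [← hgπ.unique (monBy_weylHom hW hR a), ← hhπ.unique (monBy_weylHom hW hR b)]
  rw [ker_weylHom] at e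
  exact e

theorem mem_cell_nD {b v : GL D.Idx K} (hb : b ∈ D.borelSubgroup K) (hv : v ∈ D.borelSubgroup K)
    (d : DihedralGroup 8) : b * nD K d * v ∈ cell hW hR K (θD d) := by
  have h := mem_cell_self hW hR (⟨nD K d, nD_monomial d⟩ : ↥(D.monomialSubgroup K))
  rw [weylHom_nD] at h
  exact mul_mem_cell hW hR hb h hv

/-- The fixed part of `U`. -/
def Tw.U1 : Subgroup (GL D.Idx K) := D.posUnipotent K ⊓ T.fix

/-- The fixed part of `H`. -/
def Tw.H1 : Subgroup (GL D.Idx K) := D.diagonalSubgroup K ⊓ T.fix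

theorem Tw.U1_eq : T.U1 = T.uF allS 0 := T.pos_inf_fix

theorem Tw.U1_le_borel : T.U1 ≤ D.borelSubgroup K := inf_le_left.trans (pos_le_borel D)

theorem Tw.H1_le_borel : T.H1 ≤ D.borelSubgroup K := inf_le_left.trans (diag_le_borel D)

theorem Tw.nD_fix (d : DihedralGroup 8) : nD K d ∈ T.fix := T.G1_le_fix (T.nD_mem d)

theorem Tw.nJ_fix (j : Bool) : nJ K j ∈ T.fix := T.G1_le_fix (T.nJ_mem j)

theorem Tw.uF_le_U1 {S : Root D → Bool} (hS : chkSet S = true) (i : ℕ) : T.uF S i ≤ T.U1 := by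
  rw [T.U1_eq]
  exact inf_le_inf_right _ ((uS_le_allS hS i).trans (uS_anti (Nat.zero_le i)))

theorem Tw.exists_borel_fix {b : GL D.Idx K} (hb : b ∈ D.borelSubgroup K) (hf : b ∈ T.fix) :
    ∃ u ∈ T.U1, ∃ h ∈ T.H1, u * h = b := by
  obtain ⟨u, hu, h, hh, rfl⟩ := (mem_borel_iff hW).1 hb
  have hug : u ∈ G K := borel_le_group hW (pos_le_borel D hu)
  have hhg : h ∈ G K := borel_le_group hW (diag_le_borel D hh)
  have e : T.sig u * T.sig h = u * h := by rw [← T.sig_mul hug hhg]; exact hf.2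
  have e2 : u⁻¹ * T.sig u = h * (T.sig h)⁻¹ := by
    calc u⁻¹ * T.sig u = u⁻¹ * (T.sig u * T.sig h) * (T.sig h)⁻¹ := by group
      _ = _ := by rw [e]; group
  have h1 : u⁻¹ * T.sig u ∈ D.posUnipotent K ⊓ D.diagonalSubgroup K :=
    Subgroup.mem_inf.2 ⟨mul_mem (inv_mem hu) (T.sig_pos hu),
      e2 ▸ mul_mem hh (inv_mem (T.sig_diag hh))⟩
  rw [pos_inf_diag hW, Subgroup.mem_bot] at h1
  rw [h1] at e2
  exact ⟨u, Subgroup.mem_inf.2 ⟨hu, hug, (inv_mul_eq_one.1 h1).symm⟩, h,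
    Subgroup.mem_inf.2 ⟨hh, hhg, (mul_inv_eq_one.1 e2.symm).symm⟩, rfl⟩

theorem Tw.conj_U1 {h u : GL D.Idx K} (hh : h ∈ T.H1) (hu : u ∈ T.U1) :
    h * u * h⁻¹ ∈ T.U1 := by
  obtain ⟨h1, h2⟩ := Subgroup.mem_inf.1 hh
  obtain ⟨u1, u2⟩ := Subgroup.mem_inf.1 hu
  exact Subgroup.mem_inf.2 ⟨(Subgroup.mem_normalizer_iff.1 (diag_le_normalizer_pos hW h1) u).1 u1,
    mul_mem (mul_mem h2 u2) (inv_mem h2)⟩

theorem Tw.conj_H1 {n h : GL D.Idx K} (hn : n ∈ D.monomialSubgroup K) (hn' : n ∈ T.fix)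
    (hh : h ∈ T.H1) : n * h * n⁻¹ ∈ T.H1 := by
  obtain ⟨h1, h2⟩ := Subgroup.mem_inf.1 hh
  exact Subgroup.mem_inf.2 ⟨(Subgroup.mem_normalizer_iff.1 (monomial_le_normalizer hW hn) h).1 h1,
    mul_mem (mul_mem hn' h2) (inv_mem hn')⟩

/-- A fixed monomial element. -/
theorem Tw.exists_monomial {g : GL D.Idx K} (hg : g ∈ D.monomialSubgroup K) (hf : g ∈ T.fix) :
    ∃ d, θD d = weylHom hW hR ⟨g, hg⟩ ∧ ∃ k ∈ T.H1, g = k * nD K d := by
  obtain ⟨d, hd⟩ := T.exists_θD ⟨g, hg⟩ hf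
  have hπ := monBy_weylHom hW hR ⟨g, hg⟩
  rw [← hd, rootPerm_θD] at hπ
  exact ⟨d, hd, g * (nD K d)⁻¹, Subgroup.mem_inf.2
    ⟨diag_of_monBy hg (nD_monomial d) hπ (monBy_nD d), mul_mem hf (inv_mem (T.nD_fix d))⟩, by group⟩

/-- The canonical form of a fixed point. -/
theorem Tw.exists_form {g : GL D.Idx K} (hg : g ∈ T.fix) :
    ∃ d, ∃ u ∈ T.U1, ∃ h ∈ T.H1, ∃ v ∈ T.uF (invS d) 0, u * h * nD K d * v = g := by
  obtain ⟨w, hw⟩ := exists_mem_cell hW hR hg.1
  obtain ⟨b, hb, v, hv, e⟩ := Chevalley.exists_form hW hR w hw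
  set n := nW hW hR K w with hn
  have hnN : n ∈ D.monomialSubgroup K := nW_mem hW hR w
  have hnG : n ∈ G K := monomial_le_group hW hnN
  have hvG : v ∈ G K := borel_le_group hW (pos_le_borel D (uW_le_pos hW hR w hv))
  have hbG : b ∈ G K := borel_le_group hW hb
  have hsig : T.sig b * T.sig n * T.sig v = g := by
    rw [← T.sig_mul hbG hnG, ← T.sig_mul (mul_mem hbG hnG) hvG, e]; exact hg.2
  let n' : ↥(D.monomialSubgroup K) := ⟨T.sig n, T.sig_monomial hnN⟩
  have hcell : g ∈ cell hW hR K (weylHom hW hR n') := hsig ▸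
    mul_mem_cell hW hR (T.sig_borel hb) (mem_cell_self hW hR n')
      (pos_le_borel D (T.sig_pos (uW_le_pos hW hR w hv)))
  have hw' : weylHom hW hR n' = w := cell_eq_of_mem hW hR hcell hw
  have hnw : weylHom hW hR (⟨n, hnN⟩ : ↥(D.monomialSubgroup K)) = w :=
    cell_eq_of_mem hW hR (mem_cell_self hW hR ⟨n, hnN⟩)
      ⟨1, one_mem _, 1, one_mem _, by rw [one_mul, mul_one]⟩
  have hπ : MonBy hW n (hR.rootPerm w) := hnw ▸ monBy_weylHom hW hR ⟨n, hnN⟩
  have hπ' : MonBy hW (T.sig n) (hR.rootPerm w) := hw' ▸ monBy_weylHom hW hR n'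
  obtain ⟨d, rfl⟩ := ReeF4.exists_θD (w := w) fun r => by
    conv_lhs => rw [T.sig_monBy_eq hnG hπ hπ']
    simp [rhoP_apply, (rho_facts r).1]
  set c := n * (nD K d)⁻¹ with hc
  have hcd : c ∈ D.diagonalSubgroup K :=
    diag_of_monBy hnN (nD_monomial d) (rootPerm_θD d ▸ hπ) (monBy_nD d)
  have hcG : c ∈ G K := diag_le_group hW hcd
  have hbc : b * c ∈ D.borelSubgroup K := mul_mem hb (diag_le_borel D hcd)
  have hsig2 : T.sig (b * c) * nD K d * T.sig v = g := by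
    rw [← hsig, T.sig_mul hbG hcG, mul_assoc (T.sig b)]
    congr 2
    rw [show T.sig n = T.sig (c * nD K d) by rw [hc, inv_mul_cancel_right],
      T.sig_mul hcG (T.G1_le_group (T.nD_mem d)), (T.nD_fix d).2]
  have e2 : (b * c) * c⁻¹ * n * v = T.sig (b * c) * c⁻¹ * n * T.sig v := by
    rw [mul_inv_cancel_right, e, hc, show ∀ p q r s : GL D.Idx K,
      p * (q * r)⁻¹ * q * s = p * r⁻¹ * s from fun p q r s => by group, inv_inv, hsig2]
  have hv' : T.sig v ∈ uW hW hR K (θD d) := by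
    have h := List.all_eq_true.1 invS_ok d (mem_dList d)
    rw [uW_θD] at hv ⊢
    exact T.sig_uS h hv
  obtain ⟨h1, h2⟩ := form_unique hW hR (mul_mem hbc (inv_mem (diag_le_borel D hcd)))
    (mul_mem (T.sig_borel hbc) (inv_mem (diag_le_borel D hcd))) hv hv' e2
  obtain ⟨u, hu, h, hh, e3⟩ := T.exists_borel_fix hbc
    ⟨borel_le_group hW hbc, (mul_right_cancel h1).symm⟩
  refine ⟨d, u, hu, h, hh, v, Subgroup.mem_inf.2 ⟨uW_θD (K := K) d ▸ hv, hvG, h2.symm⟩, ?_⟩
  rw [e3, ← e, hc]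
  group

variable [Finite K]

theorem Tw.U1_le_G1 : T.U1 ≤ T.G1 := T.U1_eq ▸ T.uF_le_G1 allS_ok 0

theorem Tw.H1_le_G1 : T.H1 ≤ T.G1 := T.diag_inf_fix_le

/-- The twisted group is the group of fixed points. -/
theorem Tw.G1_eq_fix : T.G1 = T.fix := by
  refine le_antisymm T.G1_le_fix fun g hg => ?_
  obtain ⟨d, u, hu, h, hh, v, hv, rfl⟩ := T.exists_form hg
  exact mul_mem (mul_mem (mul_mem (T.U1_le_G1 hu) (T.H1_le_G1 hh)) (T.nD_mem d))
    (T.uF_le_G1 (List.all_eq_true.1 invS_ok d (mem_dList d)) 0 hv)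

/-! ### The step of the BN pair -/

theorem clsS_set (j : Bool) : chkSet (clsS j) = true := by
  cases j; exacts [clsS_ok.1, clsS_ok.2]

theorem complS_set (j : Bool) : chkSet (complS j) = true := by
  cases j; exacts [complS_ok.1, complS_ok.2]

theorem nSlots_split : ∀ j : Bool, nSlots (complS j) + nSlots (clsS j) = 12 := by decide +kernel

theorem dJ_cls_neg (j : Bool) {r : Root D} (hr : clsS j r = true) :
    (dp (dJ j) r : ℕ) < half D := by
  have h := (dJ_facts j r).1.trans hr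
  simp only [invS, Bool.and_eq_true, Bool.not_eq_true'] at h
  by_contra hc
  have hp : isPos (dp (dJ j) r) = true := isPos_iff.2 (by omega)
  rw [hp] at h
  exact absurd h.2 (by simp)

omit [Finite K] in
theorem conj_uS {n : GL D.Idx K} {d : DihedralGroup 8} (hn : MonBy hW n (dP d))
    {S : Root D → Bool} {P : Set (Root D)} (h : ∀ r, S r = true → dp d r ∈ P) {g : GL D.Idx K}
    (hg : g ∈ uS K S 0) : n * g * n⁻¹ ∈ rootGen hW.good K P :=
  hn.conj_rootGen (fun r hr => h r hr.1) hg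

omit [Finite K] in
theorem Tw.move_U1 {n : GL D.Idx K} {d : DihedralGroup 8} (hn : MonBy hW n (dP d))
    (hf : n ∈ T.fix) {S : Root D → Bool} (h : ∀ r, S r = true → half D ≤ (dp d r : ℕ))
    {g : GL D.Idx K} (hg : g ∈ T.uF S 0) : n * g * n⁻¹ ∈ T.U1 := by
  obtain ⟨g1, g2⟩ := Subgroup.mem_inf.1 hg
  exact Subgroup.mem_inf.2 ⟨posUnipotent_eq_rootGen (F := K) hW.good ▸ conj_uS hn h g1,
    mul_mem (mul_mem hf g2) (inv_mem hf)⟩

theorem Tw.exists_split_U1 (j : Bool) {u : GL D.Idx K} (hu : u ∈ T.U1) :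
    ∃ v ∈ T.uF (complS j) 0, ∃ y ∈ T.uF (clsS j) 0, v * y = u := by
  let φ : ↥(T.uF (complS j) 0) × ↥(T.uF (clsS j) 0) → ↥T.U1 := fun p =>
    ⟨p.1 * p.2, mul_mem (T.uF_le_U1 (complS_set j) 0 p.1.2) (T.uF_le_U1 (clsS_set j) 0 p.2.2)⟩
  have hinj : Function.Injective φ := by
    rintro ⟨⟨v, hv⟩, ⟨y, hy⟩⟩ ⟨⟨v', hv'⟩, ⟨y', hy'⟩⟩ e
    have e' : v * y = v' * y' := congrArg Subtype.val e
    set z := v'⁻¹ * v with hz
    have e2 : z = y' * y⁻¹ := by
      calc z = v'⁻¹ * (v * y) * y⁻¹ := by rw [hz]; group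
        _ = _ := by rw [e']; group
    have h1 : nJ K j * z * (nJ K j)⁻¹ ∈ D.borelSubgroup K ⊓ D.negUnipotent K := by
      refine Subgroup.mem_inf.2 ⟨pos_le_borel D ?_, ?_⟩
      · rw [posUnipotent_eq_rootGen hW.good]
        refine conj_uS (monBy_nJ j) (fun r hr => ?_) (mul_mem (inv_mem hv'.1) hv.1)
        exact (set_root (complS_set j) ((dJ_facts j r).2 hr).1).1
      · rw [negUnipotent_eq_rootGen hW.good, e2]
        exact conj_uS (monBy_nJ j) (fun r hr => dJ_cls_neg j hr) (mul_mem hy'.1 (inv_mem hy.1))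
    rw [borel_inf_neg hW, Subgroup.mem_bot] at h1
    have hz1 : z = 1 := by
      calc z = (nJ K j)⁻¹ * (nJ K j * z * (nJ K j)⁻¹) * nJ K j := by group
        _ = 1 := by rw [h1]; group
    obtain rfl : v' = v := inv_mul_eq_one.1 hz1
    obtain rfl : y = y' := mul_left_cancel e'
    rfl
  have hcard : Nat.card (↥(T.uF (complS j) 0) × ↥(T.uF (clsS j) 0)) = Nat.card ↥T.U1 := by
    rw [Nat.card_prod, T.natCard_uF (complS_set j), T.natCard_uF (clsS_set j), ← pow_add,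
      nSlots_split, T.U1_eq, T.natCard_uF allS_ok, allS_card]
  obtain ⟨⟨⟨v, hv⟩, ⟨y, hy⟩⟩, e⟩ :=
    ((Nat.bijective_iff_injective_and_card φ).2 ⟨hinj, hcard⟩).2 ⟨u, hu⟩
  exact ⟨v, hv, y, hy, congrArg Subtype.val e⟩

/-- The union of the cells of a parabolic of rank one. -/
def pJ (K : Type*) [Field K] (j : Bool) : Set (GL D.Idx K) :=
  {g | ∃ w : W.Group, (∀ r, complS j r = true → complS j (hR.rootPerm w r) = true) ∧
    g ∈ cell hW hR K w}

omit [Finite K] [CharP K 2] in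
theorem nR_mul_pJ {j : Bool} {k : Fin D.rank} (hk : clsS j (pRoot hW k) = true) {g : GL D.Idx K}
    (hg : g ∈ pJ K j) : nR hW k * g ∈ pJ K j ∧ (nR hW k)⁻¹ * g ∈ pJ K j := by
  obtain ⟨w, hw, hgw⟩ := hg
  have hw' : ∀ r, complS j r = true → complS j (hR.rootPerm (W.simple k * w) r) = true := by
    intro r hr
    have hsimple : ∀ (j : Bool) (k : Fin D.rank), clsS j (pRoot hW k) = true →
        ∀ r, complS j r = true → complS j (rs k r) = true := by decide +kernel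
    rw [map_mul, Equiv.Perm.mul_apply, ← wPerm_eq_rootPerm hW hR, wPerm_rs]
    exact hsimple j k hk _ (hw r hr)
  constructor
  · rcases nR_mul_cell hW hR k hgw with h | h
    exacts [⟨_, hw', h⟩, ⟨_, hw, h⟩]
  · rcases nR_inv_mul_cell hW hR k hgw with h | h
    exacts [⟨_, hw', h⟩, ⟨_, hw, h⟩]

omit [Finite K] in
/-- A conjugate of an element of the class lies in the parabolic. -/
theorem conj_mem_pJ (j : Bool) {y : GL D.Idx K} (hy : y ∈ D.borelSubgroup K) :
    nJ K j * y * (nJ K j)⁻¹ ∈ pJ K j := by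
  let S : Subgroup (GL D.Idx K) :=
    { carrier := {g | ∀ c ∈ pJ K j, g * c ∈ pJ K j ∧ g⁻¹ * c ∈ pJ K j}
      one_mem' := fun c hc => ⟨by rwa [one_mul], by rwa [inv_one, one_mul]⟩
      mul_mem' := @fun a b ha hb c hc => ⟨by rw [mul_assoc]; exact (ha _ (hb c hc).1).1,
        by rw [mul_inv_rev, mul_assoc]; exact (hb _ (ha c hc).2).2⟩
      inv_mem' := @fun a ha c hc => ⟨(ha c hc).2, by rw [inv_inv]; exact (ha c hc).1⟩ }
  have hB : D.borelSubgroup K ≤ S := fun b hb c ⟨w, hw, hc⟩ =>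
    ⟨⟨w, hw, borel_mul_mem_cell hW hR hb hc⟩, ⟨w, hw, borel_mul_mem_cell hW hR (inv_mem hb) hc⟩⟩
  have hn : ∀ k : Fin D.rank, clsS j (pRoot hW k) = true → (nR hW k : GL D.Idx K) ∈ S :=
    fun k hk c hc => nR_mul_pJ hk hc
  have hnJ : nJ K j ∈ S := by
    cases j
    · exact mul_mem (hn (nd 0) (by decide +kernel)) (hn (nd 3) (by decide +kernel))
    · exact mul_mem (mul_mem (mul_mem (hn (nd 1) (by decide +kernel)) (hn (nd 2) (by decide +kernel)))
        (hn (nd 1) (by decide +kernel))) (hn (nd 2) (by decide +kernel))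
  have h1 : (1 : GL D.Idx K) ∈ pJ K j := by
    refine ⟨1, fun r hr => by rwa [map_one], ?_⟩
    rw [cell_one]
    exact one_mem _
  have := (mul_mem (mul_mem hnJ (hB hy)) (inv_mem hnJ) _ h1).1
  rwa [mul_one] at this

theorem pJ_cases : ∀ j : Bool, dList.all (fun e => decide (e = 1) || decide (e = dJ j) ||
    (List.finRange D.nroots).any fun r => complS j r && !complS j (dp e r)) = true := by
  decide +kernel

/-- The set `B¹ n B¹`. -/
def Tw.inCell (n g : GL D.Idx K) : Prop :=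
  ∃ u ∈ T.U1, ∃ h ∈ T.H1, ∃ v ∈ T.U1, u * h * n * v = g

/-- The step of the Bruhat decomposition. -/
theorem Tw.nJ_mul_U1_mul (j : Bool) {u : GL D.Idx K} (hu : u ∈ T.U1) (d : DihedralGroup 8) :
    T.inCell (nJ K j * nD K d) (nJ K j * u * nD K d) ∨
      T.inCell (nD K d) (nJ K j * u * nD K d) := by
  obtain ⟨v, hv, y, hy, rfl⟩ := T.exists_split_U1 j hu
  set n := nJ K j with hn
  set m := nD K d with hm
  have hv' : n * v * n⁻¹ ∈ T.U1 := T.move_U1 (monBy_nJ j) (T.nJ_fix j)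
    (fun r hr => (set_root (complS_set j) ((dJ_facts j r).2 hr).1).1) hv
  have hmi : MonBy hW m⁻¹ (dP d⁻¹) := by rw [map_inv]; exact (monBy_nD d).inv
  rcases up_or_down j d⁻¹ with hup | hdown
  · have hy' := T.move_U1 hmi (inv_mem (T.nD_fix d)) hup hy
    rw [inv_inv] at hy'
    exact Or.inl ⟨_, hv', 1, one_mem _, _, hy', by group⟩
  have hyb : y ∈ D.borelSubgroup K := T.U1_le_borel (T.uF_le_U1 (clsS_set j) 0 hy)
  set z := n * y * n⁻¹ with hz
  have hzf : z ∈ T.fix :=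
    mul_mem (mul_mem (T.nJ_fix j) (Subgroup.mem_inf.1 hy).2) (inv_mem (T.nJ_fix j))
  have hzn : z ∈ D.negUnipotent K := by
    rw [negUnipotent_eq_rootGen hW.good]
    exact conj_uS (monBy_nJ j) (fun r hr => dJ_cls_neg j hr) (Subgroup.mem_inf.1 hy).1
  obtain ⟨e, u₀, hu₀, h₀, hh₀, w, hw, ez⟩ := T.exists_form hzf
  obtain ⟨w', hw', hzc⟩ := conj_mem_pJ j hyb
  have hwS : chkSet (invS e) = true := List.all_eq_true.1 invS_ok e (mem_dList e)
  have hzc' : z ∈ cell hW hR K (θD e) := ez ▸ mem_cell_nD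
    (mul_mem (T.U1_le_borel hu₀) (T.H1_le_borel hh₀)) (T.U1_le_borel (T.uF_le_U1 hwS 0 hw)) e
  obtain rfl := cell_eq_of_mem hW hR hzc hzc'
  have he := List.all_eq_true.1 (pJ_cases j) e (mem_dList e)
  simp only [Bool.or_eq_true, decide_eq_true_eq, List.any_eq_true, Bool.and_eq_true,
    Bool.not_eq_true'] at he
  have hnc : ¬ ∃ r, r ∈ List.finRange D.nroots ∧ complS j r = true ∧
      complS j (dp e r) = false := fun ⟨r, _, h1, h2⟩ => by
    have := hw' r h1
    rw [rootPerm_θD, dP_apply, h2] at this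
    exact Bool.false_ne_true this
  rcases he.resolve_right hnc with rfl | rfl
  · -- then `z = 1`
    have hzB : z ∈ D.borelSubgroup K := by
      rw [← SetLike.mem_coe, ← cell_one hW hR, ← map_one θD]
      exact hzc'
    have h1 : z ∈ D.borelSubgroup K ⊓ D.negUnipotent K := ⟨hzB, hzn⟩
    rw [borel_inf_neg hW, Subgroup.mem_bot] at h1
    have hy1 : y = 1 := by
      calc y = n⁻¹ * z * n := by rw [hz]; group
        _ = 1 := by rw [h1]; group
    exact Or.inl ⟨_, hv', 1, one_mem _, 1, one_mem _, by rw [hy1]; group⟩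
  · refine Or.inr ?_
    set k := nD K (dJ j) * n⁻¹ with hk
    have hkH : k ∈ T.H1 := Subgroup.mem_inf.2
      ⟨diag_of_monBy (nD_monomial _) (nJ_monomial j) (monBy_nD _) (monBy_nJ j),
        mul_mem (T.nD_fix _) (inv_mem (T.nJ_fix j))⟩
    have hn2 : n * n ∈ T.H1 := by
      refine Subgroup.mem_inf.2 ⟨?_, mul_mem (T.nJ_fix j) (T.nJ_fix j)⟩
      have hp : MonBy hW (n * n) (dP 1) := by
        rw [← dJ_sq j, map_mul]; exact (monBy_nJ j).mul (monBy_nJ j)
      have := diag_of_monBy (mul_mem (nJ_monomial j) (nJ_monomial j)) (one_mem _) hp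
        (by rw [map_one]; exact MonBy.one hW)
      rwa [inv_one, mul_one] at this
    have hw2 : w ∈ T.uF (clsS j) 0 := by
      rwa [show clsS j = invS (dJ j) from funext fun r => ((dJ_facts j r).1).symm]
    have hmove : (n * m)⁻¹ * w * (n * m)⁻¹⁻¹ ∈ T.U1 := by
      refine T.move_U1 (d := d⁻¹ * dJ j) ?_ (inv_mem (mul_mem (T.nJ_fix j) (T.nD_fix d)))
        (fun r hr => ?_) hw2
      · rw [map_mul, mul_inv_rev]
        refine hmi.mul ?_
        have := (monBy_nJ (K := K) j).inv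
        rwa [← map_inv, inv_eq_of_mul_eq_one_right (dJ_sq j)] at this
      · have h1 := hdown _ (cls_image j r hr)
        rw [dp_rev, Fin.val_rev] at h1
        have e2 : dp (d⁻¹ * dJ j) r = dp d⁻¹ (dp (dJ j) r) := by
          rw [← dP_apply, map_mul]; rfl
        rw [e2]
        have h2 := (dp d⁻¹ (dp (dJ j) r)).isLt
        have h3 := hW.good.two_half
        omega
    rw [inv_inv] at hmove
    refine ⟨n * v * n⁻¹ * u₀, mul_mem hv' hu₀, h₀ * k * (n * n),
      mul_mem (mul_mem hh₀ hkH) hn2, _, hmove, ?_⟩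
    calc n * v * n⁻¹ * u₀ * (h₀ * k * (n * n)) * m * ((n * m)⁻¹ * w * (n * m))
        = n * v * n⁻¹ * (u₀ * h₀ * nD K (dJ j) * w) * (n * m) := by rw [hk]; group
      _ = _ := by rw [ez, hz]; group

end CfsgLib.ReeF4
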