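import Cfsg.Agent.Chevalley.Frames
import Cfsg.Agent.ExcIsogeny.DataF4
import Cfsg.Prelude.Def_LieTwisted
import Mathlib.GroupTheory.SpecificGroups.Dihedral

/-!
# Finite data of the twist of F₄

The symmetry `ρ` of the roots, the dihedral group of order 16 centralising it, the twelve slots of the
fixed unipotent subgroup, and the checks on them, evaluated by the kernel.
-/

set_option autoImplicit false
set_option maxHeartbeats 2000000

namespace CfsgLib.ReeF4

open Cfsg.Lie CfsgLib.Chevalley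

/-- The datum of type F₄. -/
abbrev D : ChevalleyDatum := chevF4

/-- The Coxeter matrix of type F₄. -/
abbrev W : CoxeterMatrix (Fin D.rank) := CoxeterMatrix.F₄

theorem hW : GoodWeyl D := goodWeyl_of_mem (by simp)

/-- The certificate of the Weyl group. -/
abbrev certC : Weyl.Cert D.rank := Weyl.certF4

theorem hR : Weyl.RootGood certC W Weyl.reflTableF4 := Weyl.rootF4_good

/-- The symmetry of the roots. -/
def rho (r : Root D) : Root D := ExcIsogeny.isoF4.rho r

/-- The exponent attached to a root. -/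
def ex (r : Root D) : ℕ := ExcIsogeny.isoF4.e r

/-- A root by its index. -/
def rt (n : ℕ) : Root D := if h : n < D.nroots then ⟨n, h⟩ else ⟨0, by decide⟩

/-- A root is positive. -/
def isPos (r : Root D) : Bool := decide (half D ≤ (r : ℕ))

theorem isPos_iff {r : Root D} : isPos r = true ↔ half D ≤ (r : ℕ) := decide_eq_true_iff

theorem half_eq : half D = 24 := by decide +kernel

/-- The permutations of the sixteen elements. -/
def tbl : List (List ℕ) :=
  [[0, 1, 2, 3, 4, 5, 6, 7, 8, 9, 10, 11, 12, 13, 14, 15, 16, 17, 18, 19, 20, 21, 22, 23, 24, 25, 26, 27, 28, 29, 30, 31, 32, 33, 34, 35, 36, 37, 38, 39, 40, 41, 42, 43, 44, 45, 46, 47],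
   [1, 17, 15, 7, 2, 0, 16, 19, 10, 8, 33, 3, 20, 18, 9, 24, 22, 42, 12, 36, 34, 6, 26, 4, 43, 21, 41, 13, 11, 35, 5, 25, 23, 38, 29, 27, 44, 14, 39, 37, 28, 31, 47, 45, 40, 32, 30, 46],
   [17, 42, 24, 19, 15, 1, 22, 36, 33, 10, 38, 7, 34, 12, 8, 43, 26, 47, 20, 44, 29, 16, 41, 2, 45, 6, 31, 18, 3, 27, 0, 21, 4, 39, 35, 13, 40, 9, 37, 14, 11, 25, 46, 32, 28, 23, 5, 30],
   [42, 47, 43, 36, 24, 17, 26, 44, 38, 33, 39, 19, 29, 20, 10, 45, 41, 46, 34, 40, 35, 22, 31, 15, 32, 16, 25, 12, 7, 13, 1, 6, 2, 37, 27, 18, 28, 8, 14, 9, 3, 21, 30, 23, 11, 4, 0, 5],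
   [47, 46, 45, 44, 43, 42, 41, 40, 39, 38, 37, 36, 35, 34, 33, 32, 31, 30, 29, 28, 27, 26, 25, 24, 23, 22, 21, 20, 19, 18, 17, 16, 15, 14, 13, 12, 11, 10, 9, 8, 7, 6, 5, 4, 3, 2, 1, 0],
   [46, 30, 32, 40, 45, 47, 31, 28, 37, 39, 14, 44, 27, 29, 38, 23, 25, 5, 35, 11, 13, 41, 21, 43, 4, 26, 6, 34, 36, 12, 42, 22, 24, 9, 18, 20, 3, 33, 8, 10, 19, 16, 0, 2, 7, 15, 17, 1],
   [30, 5, 23, 28, 32, 46, 25, 11, 14, 37, 9, 40, 13, 35, 39, 4, 21, 0, 27, 3, 18, 31, 6, 45, 2, 41, 16, 29, 44, 20, 47, 26, 43, 8, 12, 34, 7, 38, 10, 33, 36, 22, 1, 15, 19, 24, 42, 17],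
   [5, 0, 4, 11, 23, 30, 21, 3, 9, 14, 8, 28, 18, 27, 37, 2, 6, 1, 13, 7, 12, 25, 16, 32, 15, 31, 22, 35, 40, 34, 46, 41, 45, 10, 20, 29, 19, 39, 33, 38, 44, 26, 17, 24, 36, 43, 47, 42],
   [1, 0, 2, 7, 15, 17, 16, 3, 8, 10, 9, 19, 18, 20, 33, 4, 6, 5, 12, 11, 13, 22, 21, 24, 23, 26, 25, 34, 36, 35, 42, 41, 43, 14, 27, 29, 28, 38, 37, 39, 44, 31, 30, 32, 40, 45, 47, 46],
   [0, 5, 4, 3, 2, 1, 6, 11, 9, 8, 14, 7, 13, 12, 10, 23, 21, 30, 18, 28, 27, 16, 25, 15, 32, 22, 31, 20, 19, 29, 17, 26, 24, 37, 35, 34, 40, 33, 39, 38, 36, 41, 46, 45, 44, 43, 42, 47],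
   [5, 30, 23, 11, 4, 0, 21, 28, 14, 9, 37, 3, 27, 18, 8, 32, 25, 46, 13, 40, 35, 6, 31, 2, 45, 16, 41, 12, 7, 34, 1, 22, 15, 39, 29, 20, 44, 10, 38, 33, 19, 26, 47, 43, 36, 24, 17, 42],
   [30, 46, 32, 28, 23, 5, 25, 40, 37, 14, 39, 11, 35, 13, 9, 45, 31, 47, 27, 44, 29, 21, 41, 4, 43, 6, 26, 18, 3, 20, 0, 16, 2, 38, 34, 12, 36, 8, 33, 10, 7, 22, 42, 24, 19, 15, 1, 17],
   [46, 47, 45, 40, 32, 30, 31, 44, 39, 37, 38, 28, 29, 27, 14, 43, 41, 42, 35, 36, 34, 25, 26, 23, 24, 21, 22, 13, 11, 12, 5, 6, 4, 33, 20, 18, 19, 9, 10, 8, 3, 16, 17, 15, 7, 2, 0, 1],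
   [47, 42, 43, 44, 45, 46, 41, 36, 38, 39, 33, 40, 34, 35, 37, 24, 26, 17, 29, 19, 20, 31, 22, 32, 15, 25, 16, 27, 28, 18, 30, 21, 23, 10, 12, 13, 7, 14, 8, 9, 11, 6, 1, 2, 3, 4, 5, 0],
   [42, 17, 24, 36, 43, 47, 26, 19, 33, 38, 10, 44, 20, 29, 39, 15, 22, 1, 34, 7, 12, 41, 16, 45, 2, 31, 6, 35, 40, 13, 46, 25, 32, 8, 18, 27, 3, 37, 9, 14, 28, 21, 0, 4, 11, 23, 30, 5],
   [17, 1, 15, 19, 24, 42, 22, 7, 10, 33, 8, 36, 12, 34, 38, 2, 16, 0, 20, 3, 18, 26, 6, 43, 4, 41, 21, 29, 44, 27, 47, 31, 45, 9, 13, 35, 11, 39, 14, 37, 40, 25, 5, 23, 28, 32, 46, 30]]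

/-- The index of an element. -/
def code : DihedralGroup 8 → ℕ
  | .r i => i.val
  | .sr i => 8 + i.val

/-- The action on the roots. -/
def dp (d : DihedralGroup 8) (r : Root D) : Root D := rt ((tbl.getD (code d) []).getD r 0)

/-- The sixteen elements. -/
def dList : List (DihedralGroup 8) :=
  [.r 0, .r 1, .r 2, .r 3, .r 4, .r 5, .r 6, .r 7, .sr 0, .sr 1, .sr 2, .sr 3, .sr 4, .sr 5, .sr 6,
    .sr 7]

theorem mem_dList (d : DihedralGroup 8) : d ∈ dList := by
  revert d
  rintro (i | i) <;> revert i <;> decide +kernel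

/-- The element of the orbit of nodes: `false` for `{p₁, p₄}`, `true` for `{p₂, p₃}`. -/
def dJ (j : Bool) : DihedralGroup 8 := if j then .sr 1 else .sr 0

/-- The simple reflection table. -/
def rs (i : ℕ) (r : Root D) : Root D := rt (Weyl.rstep Weyl.reflTableF4 i r)

/-- The slots, by the kind of the base class and the element moving it. -/
def slotList : List (ℕ × DihedralGroup 8) :=
  [(0, .r 0), (1, .r 0), (1, .sr 0), (2, .r 0), (1, .r 7), (0, .sr 1), (1, .sr 7), (2, .sr 0), (0, .r 1), (0, .sr 2), (2, .r 7), (2, .sr 7)]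

/-- The base words: roots with exponents `a θ + b`. -/
def baseWord : ℕ → List (ℕ × ℕ × ℕ)
  | 0 => [(33, 1, 0), (24, 0, 1)]
  | 1 => [(27, 1, 0), (25, 0, 1), (28, 1, 1)]
  | _ => [(28, 1, 0), (30, 0, 1)]

/-- The place of a positive orbit. -/
def pos (r : Root D) : ℕ :=
  ([0, 1, 2, 1, 3, 6, 3, 4, 5, 0, 2, 4, 7, 5, 8, 9, 10, 6, 7, 8, 11, 9, 10, 11] : List ℕ).getD ((r : ℕ) - 24) 0

/-- The kind of a slot. -/
def kind (i : Fin 12) : ℕ := (slotList.getD i (0, 1)).1

/-- The element of a slot. -/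
def mover (i : Fin 12) : DihedralGroup 8 := (slotList.getD i (0, 1)).2

/-- The long leading root of a slot. -/
def lb (i : Fin 12) : Root D := dp (mover i) (rt ((baseWord (kind i)).getD 1 (0, 0, 0)).1)

/-- The short leading root of a slot. -/
def la (i : Fin 12) : Root D := dp (mover i) (rt ((baseWord (kind i)).getD 0 (0, 0, 0)).1)

/-- The further roots of the word of a slot. -/
def extra (i : Fin 12) : List (Root D) :=
  ((baseWord (kind i)).drop 2).map fun c => dp (mover i) (rt c.1)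

/-! ### The checks -/

theorem rho_facts : ∀ r : Root D, rho (rho r) = r ∧ (isPos (rho r) = isPos r) ∧
    rho r.rev = (rho r).rev ∧ ex r * ex (rho r) = 2 ∧ rho r ≠ r := by
  decide +kernel

theorem kind_cases : ∀ i : Fin 12, kind i = 0 ∨ kind i = 1 ∨ kind i = 2 := by decide +kernel

theorem slot_facts : ∀ i : Fin 12, isPos (lb i) = true ∧ isPos (la i) = true ∧ rho (lb i) = la i ∧
    ex (lb i) = 1 ∧ ex (la i) = 2 ∧ la i ≠ lb i ∧ pos (lb i) = i ∧ pos (la i) = i ∧
    (extra i).all (fun r => isPos r && decide ((i : ℕ) < pos r)) = true := by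
  decide +kernel

theorem pos_cases : ∀ r : Root D, isPos r = true →
    ∃ i : Fin 12, pos r = i ∧ (r = la i ∨ r = lb i) := by
  decide +kernel

/-- The commutator terms of two positive roots are positive and lie above one of the two. -/
def chkPos (r s : Root D) : Bool :=
  !isPos r || !isPos s || (D.commTerms r s).all fun c => decide (c.1 < D.nroots) &&
    isPos (rt c.1) && decide (min (pos r) (pos s) < pos (rt c.1))

theorem comm_pos : ∀ r s : Root D, chkPos r s = true := by decide +kernel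

theorem dp_mul_tbl : dList.all (fun a => dList.all fun b => (List.finRange D.nroots).all fun r =>
    decide (dp (a * b) r = dp a (dp b r))) = true := by
  decide +kernel

theorem dp_one : ∀ r : Root D, dp 1 r = r := by decide +kernel

theorem dp_simple : ∀ r : Root D,
    dp (dJ false) r = rs 0 (rs 3 r) ∧ dp (dJ true) r = rs 1 (rs 2 (rs 1 (rs 2 r))) ∧
      dp (.r 1) r = dp (dJ false) (dp (dJ true) r) := by
  decide +kernel

theorem dp_rho : dList.all (fun d => (List.finRange D.nroots).all fun r =>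
    decide (dp d (rho r) = rho (dp d r)) && decide (dp d r.rev = (dp d r).rev)) = true := by
  decide +kernel

theorem dp_faithful : dList.all (fun a => dList.all fun b => decide (a = b) ||
    (List.finRange D.nroots).any fun r => decide (dp a r ≠ dp b r)) = true := by
  decide +kernel

/-- The positive roots made negative. -/
def invS (d : DihedralGroup 8) (r : Root D) : Bool := isPos r && !isPos (dp d r)

/-- All positive roots. -/
def allS (r : Root D) : Bool := isPos r

/-- The positive roots of an orbit of nodes. -/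
def clsS (j : Bool) (r : Root D) : Bool :=
  if j then decide ((r : ℕ) ∈ [27, 25, 28, 30]) else decide ((r : ℕ) ∈ [33, 24])

/-- The other positive roots. -/
def complS (j : Bool) (r : Root D) : Bool := isPos r && !clsS j r

/-- The set is positive, `ρ`-stable and closed, and contains the slots it meets. -/
def chkSet (S : Root D → Bool) : Bool :=
  (List.finRange D.nroots).all (fun r => !S r || (isPos r && S (rho r) &&
    (List.finRange D.nroots).all fun s => !S s ||
      (D.commTerms r s).all fun c => S (rt c.1))) &&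
  (List.finRange 12).all fun i => !S (lb i) || (extra i).all S

theorem allS_ok : chkSet allS = true := by decide +kernel

theorem invS_ok : dList.all (fun d => chkSet (invS d)) = true := by decide +kernel

theorem clsS_ok : chkSet (clsS false) = true ∧ chkSet (clsS true) = true := by decide +kernel

theorem complS_ok : chkSet (complS false) = true ∧ chkSet (complS true) = true := by decide +kernel

/-- The number of slots in a set. -/
def nSlots (S : Root D → Bool) : ℕ := ((List.finRange 12).filter fun i => S (lb i)).length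

theorem allS_card : nSlots allS = 12 := by decide +kernel

theorem invS_card : dList.map (fun d => nSlots (invS d)) = [0, 3, 6, 9, 12, 9, 6, 3, 1, 2, 5, 8, 11, 10, 7, 4] := by decide +kernel

/-- Facts on one orbit of nodes. -/
def chkJ (j : Bool) : Bool :=
  decide (dJ j * dJ j = 1) &&
  (List.finRange D.nroots).all (fun r =>
    decide (invS (dJ j) r = clsS j r) && (!complS j r || (complS j (dp (dJ j) r) &&
      (List.finRange D.nroots).all fun s => !isPos s ||
        (D.commTerms r s).all fun c => complS j (rt c.1)))) &&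
  dList.all fun d => (List.finRange D.nroots).all (fun r => !clsS j r || isPos (dp d r)) ||
    (List.finRange D.nroots).all (fun r => !clsS j r || !isPos (dp d r))

theorem chkJ_ok : chkJ false = true ∧ chkJ true = true := by decide +kernel

theorem base_facts :
    (rho (rt 24) = rt 33 ∧ rho (rt 25) = rt 27 ∧ rho (rt 30) = rt 28) ∧
    (dp (dJ false) (rt 33) = rt 14 ∧ dp (dJ false) (rt 24) = rt 23) ∧
    (dp (dJ true) (rt 27) = rt 20 ∧ dp (dJ true) (rt 25) = rt 22 ∧ dp (dJ true) (rt 28) = rt 19 ∧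
      dp (dJ true) (rt 30) = rt 17) := by
  decide +kernel

end CfsgLib.ReeF4
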