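import Cfsg.Agent.ReeF4.Twist

/-!
# The generators of ²F₄, the two reflections and the lifts to the twelve slots
-/

set_option autoImplicit false
set_option maxHeartbeats 1000000

namespace CfsgLib.ReeF4

open Cfsg.Lie CfsgLib.Chevalley
open scoped MatrixGroups

variable {K : Type*} [Field K]

theorem rt_val (r : Root D) : rt r = r := by
  rw [rt, dif_pos r.isLt]

theorem commute_x {a b : Root D} (h : D.commTerms a b = []) (h1 : b ≠ a) (h2 : b ≠ a.rev)
    (s u : K) : Commute (x K a s) (x K b u) := by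
  have := X_comm hW.toGoodComm a b h1 h2 s u
  rw [commRhs, h] at this
  simpa [wordGL, Commute, SemiconjBy] using this.symm

/-- A node by its number. -/
def nd (i : ℕ) : Fin D.rank := if h : i < D.rank then ⟨i, h⟩ else ⟨0, by decide⟩

theorem apart : (D.commTerms (rt 24) (rt 33) = [] ∧ D.commTerms (rt 24) (rt 14) = [] ∧
      D.commTerms (rt 23) (rt 33) = [] ∧ D.commTerms (rt 23) (rt 14) = [] ∧
      D.commTerms (rt 28) (rt 30) = [] ∧ D.commTerms (rt 19) (rt 17) = []) ∧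
    (rt 24).rev = rt 23 ∧ (rt 33).rev = rt 14 ∧ pRoot hW (nd 0) = rt 33 ∧ pRoot hW (nd 3) = rt 24 ∧
    pRoot hW (nd 1) = rt 27 ∧ pRoot hW (nd 2) = rt 25 := by
  decide +kernel

theorem commute_24_33 (s u : K) : Commute (x K (rt 24) s) (x K (rt 33) u) :=
  commute_x apart.1.1 (by decide) (by decide) s u

theorem commute_24_14 (s u : K) : Commute (x K (rt 24) s) (x K (rt 14) u) :=
  commute_x apart.1.2.1 (by decide) (by decide) s u

theorem commute_23_33 (s u : K) : Commute (x K (rt 23) s) (x K (rt 33) u) :=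
  commute_x apart.1.2.2.1 (by decide) (by decide) s u

theorem commute_23_14 (s u : K) : Commute (x K (rt 23) s) (x K (rt 14) u) :=
  commute_x apart.1.2.2.2.1 (by decide) (by decide) s u

/-- The product of the two nodes of the first orbit. -/
theorem nElt_pair (a b : Kˣ) :
    nElt hW.good (rt 33) a * nElt hW.good (rt 24) b =
      (x K (rt 33) (a : K) * x K (rt 24) (b : K)) *
        (x K (rt 14) (-(a⁻¹ : Kˣ) : K) * x K (rt 23) (-(b⁻¹ : Kˣ) : K)) *
        (x K (rt 33) (a : K) * x K (rt 24) (b : K)) := by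
  set A := x K (rt 33) (a : K)
  set B := x K (rt 14) (-(a⁻¹ : Kˣ) : K)
  set C := x K (rt 24) (b : K)
  set E := x K (rt 23) (-(b⁻¹ : Kˣ) : K)
  have h1 : Commute C B := commute_24_14 _ _
  have h2 : Commute C A := commute_24_33 _ _
  have h3 : Commute E A := commute_23_33 _ _
  rw [nElt, nElt, apart.2.1, apart.2.2.1]
  calc A * B * A * (C * E * C) = A * B * (A * C) * E * C := by group
    _ = A * (B * C) * A * E * C := by rw [← h2.eq]; group
    _ = A * C * B * (A * E) * C := by rw [← h1.eq]; group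
    _ = A * C * (B * E) * (A * C) := by rw [← h3.eq]; group

theorem commute_nElt (a b : Kˣ) :
    Commute (nElt hW.good (rt 24) b) (nElt hW.good (rt 33) a) := by
  rw [nElt, nElt, apart.2.1, apart.2.2.1]
  have h1 : ∀ p q r : K, Commute (x K (rt 24) p) (x K (rt 33) q * x K (rt 14) r * x K (rt 33) q) :=
    fun p q r => ((commute_24_33 p q).mul_right (commute_24_14 p r)).mul_right (commute_24_33 p q)
  have h2 : ∀ p q r : K, Commute (x K (rt 23) p) (x K (rt 33) q * x K (rt 14) r * x K (rt 33) q) :=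
    fun p q r => ((commute_23_33 p q).mul_right (commute_23_14 p r)).mul_right (commute_23_33 p q)
  exact ((h1 _ _ _).mul_left (h2 _ _ _)).mul_left (h1 _ _ _)

/-- The reflection of the orbit `{p₁, p₄}`. -/
def n₀ (K : Type*) [Field K] : GL D.Idx K := nR hW (nd 0) * nR hW (nd 3)

/-- The reflection of the orbit `{p₂, p₃}`. -/
def n₁ (K : Type*) [Field K] : GL D.Idx K := nR hW (nd 1) * nR hW (nd 2) * nR hW (nd 1) * nR hW (nd 2)

/-- `g` moves each root element exactly by `π`. -/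
def Mon (g : GL D.Idx K) (π : Equiv.Perm (Root D)) : Prop :=
  ∀ r t, g * x K r t * g⁻¹ = x K (π r) t

theorem Mon.one : Mon (1 : GL D.Idx K) 1 := fun r t => by simp

theorem Mon.mul {g h : GL D.Idx K} {π π' : Equiv.Perm (Root D)} (hg : Mon g π) (hh : Mon h π') :
    Mon (g * h) (π * π') := fun r t => by
  rw [show g * h * x K r t * (g * h)⁻¹ = g * (h * x K r t * h⁻¹) * g⁻¹ by group, hh, hg]
  rfl

theorem Mon.inv {g : GL D.Idx K} {π : Equiv.Perm (Root D)} (hg : Mon g π) : Mon g⁻¹ π⁻¹ :=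
  fun r t => by
  have := hg (π⁻¹ r) t
  rw [show π (π⁻¹ r) = r from π.apply_symm_apply r] at this
  rw [← this]
  group

theorem Mon.pow {g : GL D.Idx K} {π : Equiv.Perm (Root D)} (hg : Mon g π) :
    ∀ k : ℕ, Mon (g ^ k) (π ^ k)
  | 0 => by simpa using Mon.one
  | k + 1 => by rw [pow_succ, pow_succ]; exact (Mon.pow hg k).mul hg

variable [CharP K 2]

theorem mon_nR (i : Fin D.rank) : Mon (nR hW i : GL D.Idx K) (wPerm hW i) := fun r t => by
  rw [x, nR_conj hW i r t]
  congr 1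
  rcases mul_self_eq_one_iff.1 (hW.eta_sq i r) with h | h <;> simp [h, CharTwo.neg_eq]

/-- The permutations of the dihedral group. -/
def dP : DihedralGroup 8 →* Equiv.Perm (Root D) where
  toFun d :=
    { toFun := dp d
      invFun := dp d⁻¹
      left_inv := fun r => by
        have := List.all_eq_true.1 (List.all_eq_true.1 (List.all_eq_true.1 dp_mul_tbl d⁻¹
          (mem_dList _)) d (mem_dList _)) r (List.mem_finRange r)
        rw [decide_eq_true_eq, inv_mul_cancel, dp_one] at this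
        exact this.symm
      right_inv := fun r => by
        have := List.all_eq_true.1 (List.all_eq_true.1 (List.all_eq_true.1 dp_mul_tbl d
          (mem_dList _)) d⁻¹ (mem_dList _)) r (List.mem_finRange r)
        rw [decide_eq_true_eq, mul_inv_cancel, dp_one] at this
        exact this.symm }
  map_one' := Equiv.ext dp_one
  map_mul' a b := Equiv.ext fun r => of_decide_eq_true
    (List.all_eq_true.1 (List.all_eq_true.1 (List.all_eq_true.1 dp_mul_tbl a (mem_dList _)) b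
      (mem_dList _)) r (List.mem_finRange r))

theorem dP_apply (d : DihedralGroup 8) (r : Root D) : dP d r = dp d r := rfl

omit [CharP K 2] in
theorem wPerm_rs (i : Fin D.rank) (r : Root D) : wPerm hW i r = rs i r := by
  apply Fin.ext
  rw [wPerm_eq_rootPerm hW hR, hR.rootPerm_simple_step, rs, rt, dif_pos]
  have := (hR.rootPerm (W.simple i) r).isLt
  rwa [hR.rootPerm_simple_step] at this

theorem dP_J0 : wPerm hW (nd 0) * wPerm hW (nd 3) = dP (dJ false) := Equiv.ext fun r => by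
  rw [Equiv.Perm.mul_apply, wPerm_rs, wPerm_rs, dP_apply, (dp_simple r).1]
  rfl

theorem dP_J1 : wPerm hW (nd 1) * wPerm hW (nd 2) * wPerm hW (nd 1) * wPerm hW (nd 2) = dP (dJ true) :=
  Equiv.ext fun r => by
    simp only [Equiv.Perm.mul_apply, wPerm_rs, dP_apply, (dp_simple r).2.1]
    rfl

theorem mon_n₀ : Mon (n₀ K) (dP (dJ false)) := dP_J0 ▸ (mon_nR (nd 0)).mul (mon_nR (nd 3))

theorem mon_n₁ : Mon (n₁ K) (dP (dJ true)) :=
  dP_J1 ▸ (((mon_nR (nd 1)).mul (mon_nR (nd 2))).mul (mon_nR (nd 1))).mul (mon_nR (nd 2))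

/-- The reflection of an orbit of nodes. -/
def nJ (K : Type*) [Field K] (j : Bool) : GL D.Idx K := if j then n₁ K else n₀ K

theorem mon_nJ (j : Bool) : Mon (nJ K j) (dP (dJ j)) := by
  cases j
  · exact mon_n₀
  · exact mon_n₁

/-- A monomial element for each of the sixteen elements. -/
def nD (K : Type*) [Field K] : DihedralGroup 8 → GL D.Idx K
  | .r i => (n₀ K * n₁ K) ^ i.val
  | .sr i => n₀ K * (n₀ K * n₁ K) ^ i.val

omit [CharP K 2] in
theorem dP_gen : dP (.r 1) = dP (dJ false) * dP (dJ true) := Equiv.ext fun r => (dp_simple r).2.2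

theorem mon_nD (d : DihedralGroup 8) : Mon (nD K d) (dP d) := by
  have h : ∀ i : ZMod 8, Mon ((n₀ K * n₁ K) ^ i.val) (dP (.r i)) := by
    intro i
    rw [show (DihedralGroup.r i : DihedralGroup 8) = .r 1 ^ i.val by simp, map_pow, dP_gen]
    exact (mon_n₀.mul mon_n₁).pow _
  rcases d with i | i
  · exact h i
  · rw [show dP (DihedralGroup.sr i) = dP (dJ false) * dP (.r i) by rw [← map_mul]; simp [dJ]]
    show Mon (n₀ K * (n₀ K * n₁ K) ^ i.val) _
    exact mon_n₀.mul (h i)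

/-! ### The words -/

variable (T : Tw K)

omit [CharP K 2] in
theorem wgl_cons (n : ℕ) (t : K) (w : List (ℕ × K)) :
    wordGL hW.good ((n, t) :: w) =
      (if n < 48 then x K (rt n) t else 1) * wordGL hW.good w := by
  have hn : D.nroots = 48 := by decide +kernel
  by_cases h : n < 48
  · rw [if_pos h, rt, dif_pos (hn.symm ▸ h)]
    simp [wordGL, hn.symm ▸ h]
  · rw [if_neg h, one_mul]
    simp [wordGL, hn, h]

omit [CharP K 2] in
theorem wgl_nil : wordGL hW.good ([] : List (ℕ × K)) = 1 := rfl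

/-- The twisted group. -/
def Tw.G1 : Subgroup (GL D.Idx K) := twistedF4 K (2 ^ T.m)

theorem Tw.wordGL_mem {w : List (ℕ × K)} (hw : w ∈ f4Words K (2 ^ T.m)) :
    wordGL hW.good w ∈ T.G1 :=
  Subgroup.subset_closure ⟨w, hw, coe_wordGL hW.good w⟩

/-- The element of a pair. -/
def Tw.pairE (b : Bool) (t : K) : GL D.Idx K :=
  if b then x K (rt 14) (T.θ t) * x K (rt 23) t else x K (rt 33) (T.θ t) * x K (rt 24) t

theorem Tw.pair_mem (b : Bool) (t : K) : T.pairE b t ∈ T.G1 := by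
  cases b
  · convert T.wordGL_mem (Or.inl ⟨t, Or.inl rfl⟩) using 1
    simp [Tw.pairE, f4PairWord, wgl_cons, wgl_nil, f4p1, f4p4, T.θ_def]
  · convert T.wordGL_mem (Or.inl ⟨t, Or.inr rfl⟩) using 1
    simp [Tw.pairE, f4PairWord, wgl_cons, wgl_nil, f4m1, f4m4, T.θ_def]

/-- The element of a class of type B₂ on the given roots. -/
def Tw.clsG (a b ab aab : Root D) (t u : K) : GL D.Idx K :=
  x K a (T.θ t) * x K b t * x K ab (T.θ t * t + u) * x K aab (T.θ u ^ 2)

/-- The element of a class of type B₂. -/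
def Tw.clsE (b : Bool) (t u : K) : GL D.Idx K :=
  if b then T.clsG (rt 20) (rt 22) (rt 19) (rt 17) t u
  else T.clsG (rt 27) (rt 25) (rt 28) (rt 30) t u

theorem Tw.cls_mem (b : Bool) (t u : K) : T.clsE b t u ∈ T.G1 := by
  have e : ∀ v : K, v ^ (2 * 2 ^ T.m) = T.θ v ^ 2 := fun v => by
    rw [T.θ_def, ← pow_mul, mul_comm]
  cases b
  · convert T.wordGL_mem (Or.inr ⟨t, u, Or.inl rfl⟩) using 1
    simp [Tw.clsE, Tw.clsG, b2ClassWord, wgl_cons, wgl_nil, f4a, f4b, f4ab, f4aab, e, T.θ_def, mul_assoc,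
      pow_succ]
  · convert T.wordGL_mem (Or.inr ⟨t, u, Or.inr rfl⟩) using 1
    simp [Tw.clsE, Tw.clsG, b2ClassWord, wgl_cons, wgl_nil, f4ma, f4mb, f4mab, f4maab, e, T.θ_def,
      mul_assoc, pow_succ]

theorem Tw.G1_le {L : Subgroup (GL D.Idx K)} (hp : ∀ b t, T.pairE b t ∈ L)
    (hc : ∀ b t u, T.clsE b t u ∈ L) : T.G1 ≤ L := by
  refine (Subgroup.closure_le _).2 ?_
  rintro g ⟨w, hw, hg⟩
  have : g = wordGL hW.good w := Units.ext (hg.trans (coe_wordGL hW.good w).symm)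
  subst this
  have e : ∀ v : K, v ^ (2 * 2 ^ T.m) = T.θ v ^ 2 := fun v => by
    rw [T.θ_def, ← pow_mul, mul_comm]
  rcases hw with ⟨t, rfl | rfl⟩ | ⟨t, u, rfl | rfl⟩
  · convert hp false t using 1
    simp [Tw.pairE, f4PairWord, wgl_cons, wgl_nil, f4p1, f4p4, T.θ_def]
  · convert hp true t using 1
    simp [Tw.pairE, f4PairWord, wgl_cons, wgl_nil, f4m1, f4m4, T.θ_def]
  · convert hc false t u using 1
    simp [Tw.clsE, Tw.clsG, b2ClassWord, wgl_cons, wgl_nil, f4a, f4b, f4ab, f4aab, e, T.θ_def, mul_assoc,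
      pow_succ]
  · convert hc true t u using 1
    simp [Tw.clsE, Tw.clsG, b2ClassWord, wgl_cons, wgl_nil, f4ma, f4mb, f4mab, f4maab, e, T.θ_def,
      mul_assoc, pow_succ]

/-! ### They are fixed -/

theorem Tw.clsG_fix {a b ab aab : Root D} (h1 : rho a = b) (h2 : rho ab = aab)
    (he : ex a = 2 ∧ ex b = 1 ∧ ex ab = 2 ∧ ex aab = 1) {c d : ℤ}
    (hc : (c : K) = 1) (hd : (d : K) = 1)
    (hT : D.commTerms a b = [((ab : ℕ), c, 1, 1), ((aab : ℕ), d, 2, 1)])
    (hne : b ≠ a ∧ b ≠ a.rev) (hcm : D.commTerms ab aab = [] ∧ aab ≠ ab ∧ aab ≠ ab.rev)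
    (t u : K) : T.clsG a b ab aab t u ∈ T.fix := by
  have h1' : rho b = a := by rw [← h1, (rho_facts a).1]
  have h2' : rho aab = ab := by rw [← h2, (rho_facts ab).1]
  refine ⟨mul_mem (mul_mem (mul_mem (x_mem _ _) (x_mem _ _)) (x_mem _ _)) (x_mem _ _), ?_⟩
  rw [clsG, T.sig_mul (mul_mem (mul_mem (x_mem _ _) (x_mem _ _)) (x_mem _ _)) (x_mem _ _),
    T.sig_mul (mul_mem (x_mem _ _) (x_mem _ _)) (x_mem _ _),
    T.sig_mul (x_mem _ _) (x_mem _ _)]
  simp only [T.sig_x, h1, h2, h1', h2', Tw.par, he.1, he.2.1, he.2.2.1, he.2.2.2, pow_one, map_add,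
    map_mul, T.θ_sq_θ, T.θ_θ_sq]
  have hcomm : x K b t * x K a (T.θ t) =
      x K a (T.θ t) * x K b t * (x K ab (T.θ t * t) * x K aab (T.θ t ^ 2 * t)) := by
    rw [x, x, X_comm hW.toGoodComm a b hne.1 hne.2 (T.θ t) t]
    congr 1
    rw [commRhs, hT]
    simp [wordGL, hc, hd, CharTwo.neg_eq]
  rw [hcomm, show (T.θ (T.θ t) * T.θ t + T.θ u) ^ 2 = T.θ t ^ 2 * t + T.θ u ^ 2 by
    rw [CharTwo.add_sq, mul_pow, T.θ_θ_sq]; ring]
  have hc1 : ∀ p q : K, Commute (x K aab p) (x K ab q) := fun p q =>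
    (commute_x hcm.1 hcm.2.1 hcm.2.2 q p).symm
  set A := x K a (T.θ t)
  set B := x K b t
  calc A * B * (x K ab (T.θ t * t) * x K aab (T.θ t ^ 2 * t)) *
        x K aab (T.θ t ^ 2 * t + T.θ u ^ 2) * x K ab u
      = A * B * x K ab (T.θ t * t) *
          ((x K aab (T.θ t ^ 2 * t) * x K aab (T.θ t ^ 2 * t + T.θ u ^ 2)) * x K ab u) := by group
    _ = A * B * x K ab (T.θ t * t) * (x K ab u * x K aab (T.θ u ^ 2)) := by
        rw [x_mul, CharTwo.add_cancel_left, (hc1 _ _).eq]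
    _ = A * B * (x K ab (T.θ t * t) * x K ab u) * x K aab (T.θ u ^ 2) := by group
    _ = _ := by rw [x_mul]

theorem cls_data :
    (D.commTerms (rt 27) (rt 25) = [(28, -1, 1, 1), (30, -1, 2, 1)] ∧
      D.commTerms (rt 20) (rt 22) = [(19, 1, 1, 1), (17, -1, 2, 1)]) ∧
    (rho (rt 27) = rt 25 ∧ rho (rt 28) = rt 30 ∧ rho (rt 20) = rt 22 ∧ rho (rt 19) = rt 17 ∧
      rho (rt 33) = rt 24 ∧ rho (rt 14) = rt 23) ∧
    (ex (rt 27) = 2 ∧ ex (rt 25) = 1 ∧ ex (rt 28) = 2 ∧ ex (rt 30) = 1) ∧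
    (ex (rt 20) = 2 ∧ ex (rt 22) = 1 ∧ ex (rt 19) = 2 ∧ ex (rt 17) = 1) ∧
    (ex (rt 33) = 2 ∧ ex (rt 24) = 1 ∧ ex (rt 14) = 2 ∧ ex (rt 23) = 1) := by
  decide +kernel

theorem Tw.cls_fix (b : Bool) (t u : K) : T.clsE b t u ∈ T.fix := by
  obtain ⟨⟨c1, c2⟩, ⟨r1, r2, r3, r4, -, -⟩, e1, e2, -⟩ := cls_data
  cases b
  · exact T.clsG_fix r1 r2 e1 (c := -1) (d := -1) (by simp [CharTwo.neg_eq])
      (by simp [CharTwo.neg_eq]) c1 (by decide) ⟨apart.1.2.2.2.2.1, by decide, by decide⟩ t u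
  · exact T.clsG_fix r3 r4 e2 (c := 1) (d := -1) (by simp) (by simp [CharTwo.neg_eq]) c2
      (by decide) ⟨apart.1.2.2.2.2.2, by decide, by decide⟩ t u

theorem Tw.pair_fix (b : Bool) (t : K) : T.pairE b t ∈ T.fix := by
  obtain ⟨-, ⟨-, -, -, -, r5, r6⟩, -, -, ⟨e1, e2, e3, e4⟩⟩ := cls_data
  have r5' : rho (rt 24) = rt 33 := by rw [← r5, (rho_facts _).1]
  have r6' : rho (rt 23) = rt 14 := by rw [← r6, (rho_facts _).1]
  cases b <;> refine ⟨mul_mem (x_mem _ _) (x_mem _ _), ?_⟩ <;>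
    simp only [Tw.pairE, if_true, Bool.false_eq_true, if_false] <;>
    rw [T.sig_mul (x_mem _ _) (x_mem _ _), T.sig_x, T.sig_x]
  · simp only [r5, r5', Tw.par, e1, e2, pow_one, T.θ_θ_sq]
    exact (commute_24_33 _ _).eq
  · simp only [r6, r6', Tw.par, e3, e4, pow_one, T.θ_θ_sq]
    exact (commute_23_14 _ _).eq

theorem Tw.G1_le_fix : T.G1 ≤ T.fix := T.G1_le T.pair_fix T.cls_fix

theorem Tw.G1_le_group : T.G1 ≤ G K := T.G1_le_fix.trans T.fix_le_group

/-! ### The reflections lie in the twisted group -/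

theorem Tw.nElt_pair_mem (s : Kˣ) :
    nElt hW.good (rt 33) (Units.map T.θ.toMonoidHom s) * nElt hW.good (rt 24) s ∈ T.G1 := by
  rw [nElt_pair]
  have h1 := T.pair_mem false (s : K)
  have h2 := T.pair_mem true ((s⁻¹ : Kˣ) : K)
  simp only [Tw.pairE, if_true, Bool.false_eq_true, if_false] at h1 h2
  convert mul_mem (mul_mem h1 h2) h1 using 4 <;> simp [CharTwo.neg_eq]

theorem Tw.n₀_mem : n₀ K ∈ T.G1 := by
  have h := T.nElt_pair_mem 1
  rwa [map_one, ← apart.2.2.2.1, ← apart.2.2.2.2.1, nElt_one, nElt_one] at h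

/-- Equality of two integral words modulo 2. -/
def chkEven (w w' : List (ℕ × ℤ)) : Bool :=
  (wordSMat D w).2 && (wordSMat D w').2 &&
    (List.range (D.rank + D.nroots)).all fun r => (List.range (D.rank + D.nroots)).all fun c =>
      (rowVal (Trie.get (wordSMat D w).1 r) c - rowVal (Trie.get (wordSMat D w').1 r) c) % 2 == 0

theorem wordGL_eq_of_chkEven {w w' : List (ℕ × ℤ)} (h : chkEven w w' = true) :
    wordGL hW.good (w.map fun p => (p.1, (p.2 : K))) =
      wordGL hW.good (w'.map fun p => (p.1, (p.2 : K))) := by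
  simp only [chkEven, Bool.and_eq_true, List.all_eq_true, List.mem_range, beq_iff_eq] at h
  obtain ⟨⟨h1, h2⟩, h3⟩ := h
  have e : ∀ v : List (ℕ × ℤ), wordGL hW.good (v.map fun p => (p.1, (p.2 : K))) =
      Matrix.GeneralLinearGroup.map (Int.castRingHom K) (wordGL hW.good v) := fun v => by
    rw [wordGL_map]
    rfl
  rw [e, e]
  apply Units.ext
  rw [coe_map_GL, coe_map_GL, ← wordSMat_spec hW.good w h1, ← wordSMat_spec hW.good w' h2]
  ext a b
  rw [Matrix.map_apply, Matrix.map_apply, SMat.toMat_apply, SMat.toMat_apply,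
    eq_intCast, eq_intCast, CharP.intCast_eq_intCast K 2, Int.ModEq, Int.emod_eq_emod_iff_emod_sub_eq_zero]
  exact h3 _ (finSumFinEquiv a).isLt _ (finSumFinEquiv b).isLt

theorem n₁_word : chkEven [(27, 1), (20, 1), (27, 1), (25, 1), (22, 1), (25, 1), (27, 1), (20, 1),
    (27, 1), (25, 1), (22, 1), (25, 1)]
    [(27, 0), (25, 0), (28, 1), (30, 1), (20, 1), (22, 1), (19, 0), (17, 1),
      (27, 1), (25, 1), (28, 1), (30, 0)] = true := by
  decide +kernel

theorem Tw.n₁_mem : n₁ K ∈ T.G1 := by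
  have h := wordGL_eq_of_chkEven (K := K) n₁_word
  have hm : T.clsE false 0 1 * T.clsE true 1 1 * T.clsE false 1 0 ∈ T.G1 :=
    mul_mem (mul_mem (T.cls_mem _ _ _) (T.cls_mem _ _ _)) (T.cls_mem _ _ _)
  have e1 : n₁ K = wordGL hW.good (([(27, 1), (20, 1), (27, 1), (25, 1), (22, 1), (25, 1), (27, 1),
      (20, 1), (27, 1), (25, 1), (22, 1), (25, 1)] : List (ℕ × ℤ)).map fun p => (p.1, (p.2 : K))) := by
    have h27 : (rt 27).rev = rt 20 := by decide +kernel
    have h25 : (rt 25).rev = rt 22 := by decide +kernel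
    rw [n₁, ← nElt_one hW (nd 1), ← nElt_one hW (nd 2), apart.2.2.2.2.2.1, apart.2.2.2.2.2.2]
    simp [nElt, h27, h25, wgl_cons, wgl_nil, CharTwo.neg_eq, mul_assoc]
  have e2 : T.clsE false 0 1 * T.clsE true 1 1 * T.clsE false 1 0 =
      wordGL hW.good (([(27, 0), (25, 0), (28, 1), (30, 1), (20, 1), (22, 1), (19, 0), (17, 1),
      (27, 1), (25, 1), (28, 1), (30, 0)] : List (ℕ × ℤ)).map fun p => (p.1, (p.2 : K))) := by
    simp [Tw.clsE, Tw.clsG, wgl_cons, wgl_nil, mul_assoc, CharTwo.add_self_eq_zero]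
  rw [e1, h, ← e2]
  exact hm

theorem Tw.nJ_mem (j : Bool) : nJ K j ∈ T.G1 := by
  cases j
  · exact T.n₀_mem
  · exact T.n₁_mem

theorem Tw.nD_mem (d : DihedralGroup 8) : nD K d ∈ T.G1 := by
  have := mul_mem T.n₀_mem T.n₁_mem
  rcases d with i | i
  · exact pow_mem this _
  · exact mul_mem T.n₀_mem (pow_mem this _)

omit [CharP K 2] in
theorem nD_monomial (d : DihedralGroup 8) : nD K d ∈ D.monomialSubgroup K := by
  have h0 : n₀ K ∈ D.monomialSubgroup K := mul_mem (nR_mem_monomial hW _) (nR_mem_monomial hW _)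
  have h1 : n₁ K ∈ D.monomialSubgroup K :=
    mul_mem (mul_mem (mul_mem (nR_mem_monomial hW _) (nR_mem_monomial hW _))
      (nR_mem_monomial hW _)) (nR_mem_monomial hW _)
  rcases d with i | i
  · exact pow_mem (mul_mem h0 h1) _
  · exact mul_mem h0 (pow_mem (mul_mem h0 h1) _)

omit [CharP K 2] in
theorem nJ_monomial (j : Bool) : nJ K j ∈ D.monomialSubgroup K := by
  cases j
  · exact mul_mem (nR_mem_monomial hW _) (nR_mem_monomial hW _)
  · exact mul_mem (mul_mem (mul_mem (nR_mem_monomial hW _) (nR_mem_monomial hW _))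
      (nR_mem_monomial hW _)) (nR_mem_monomial hW _)

/-! ### The lifts -/

/-- The lift of a parameter to a slot. -/
def Tw.lift (i : Fin 12) (t : K) : GL D.Idx K :=
  x K (la i) (T.θ t) * x K (lb i) t * ((extra i).map fun r => x K r (T.θ t * t)).prod

/-- The base element of a kind. -/
def Tw.baseE (k : ℕ) (t : K) : GL D.Idx K :=
  if k = 0 then T.pairE false t else if k = 1 then T.clsE false t 0 else T.clsE false 0 (T.θ t)

theorem Tw.baseE_mem (k : ℕ) (t : K) : T.baseE k t ∈ T.G1 := by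
  unfold Tw.baseE
  split_ifs
  exacts [T.pair_mem _ _, T.cls_mem _ _ _, T.cls_mem _ _ _]

theorem Tw.lift_eq (i : Fin 12) (t : K) :
    T.lift i t = nD K (mover i) * T.baseE (kind i) t * (nD K (mover i))⁻¹ := by
  have hmul : ∀ g h : GL D.Idx K, nD K (mover i) * (g * h) * (nD K (mover i))⁻¹ =
      (nD K (mover i) * g * (nD K (mover i))⁻¹) * (nD K (mover i) * h * (nD K (mover i))⁻¹) :=
    fun g h => by group
  rcases kind_cases i with h | h | h <;>
    simp [Tw.lift, Tw.baseE, Tw.pairE, Tw.clsE, Tw.clsG, la, lb, extra, h, baseWord, hmul,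
      mon_nD (mover i) _ _, dP_apply, x_zero, T.θ_θ_sq]

theorem Tw.lift_mem (i : Fin 12) (t : K) : T.lift i t ∈ T.G1 := by
  rw [T.lift_eq]
  exact mul_mem (mul_mem (T.nD_mem _) (T.baseE_mem _ _)) (inv_mem (T.nD_mem _))

theorem Tw.lift_fix (i : Fin 12) (t : K) : T.lift i t ∈ T.fix := T.G1_le_fix (T.lift_mem i t)

end CfsgLib.ReeF4
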