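import Cfsg.Agent.ReeF4.InvReduce

/-!
# Every involution of ²F₄ is conjugate to one of two
-/

set_option autoImplicit false
set_option maxHeartbeats 2000000

namespace CfsgLib.ReeF4.Sym

open Cfsg.Lie CfsgLib.Chevalley
open scoped MatrixGroups

theorem endgame_ok :
    (chkLW [(4, [[(0, 1, 0)]]), (5, [[(0, 0, 2)]]), (6, [[(0, 1, 0)]]), (0, [[]])]
        [(0, [[]]), (9, [[(0, 2, 0)]]), (4, [[(0, 1, 0)]]), (5, [[(0, 0, 2)]]), (6, [[(0, 1, 0)]])] &&
      chkLW [(8, [[(0, 1, 0)]]), (7, [[(0, 1, 0)]]), (3, [[]]), (11, [[(0, 0, 2)]])]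
        [(3, [[]]), (9, [[(0, 1, 0)]]), (8, [[(0, 1, 0)]]), (7, [[(0, 1, 0)]])] &&
      chkLW [(10, [[(1, 1, 0)]]), (0, [[(0, 1, 0)]])]
        [(0, [[(0, 1, 0)]]), (11, [[(0, 1, 0), (1, 1, 0)]]), (10, [[(1, 1, 0)]])] &&
      chkLW [(11, [[]]), (0, [[(0, 1, 0)]])] [(0, [[(0, 1, 0)]]), (11, [[]])]) = true := by
  decide +kernel

/-- The slot moved by an element of the dihedral group. -/
def moves (d : DihedralGroup 8) (k l : Fin 12) : Bool :=
  decide (dp d (la k) = la l) && decide (dp d (lb k) = lb l) &&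
    decide ((extra k).map (dp d) = extra l)

theorem moves_ok : (moves (.r 6) 3 11 && moves (.r 6) 9 0 &&
    moves (.sr 0) 3 7 && moves (.sr 0) 11 10) = true := by
  decide +kernel

theorem above_eq : ∀ i : Fin 12, above i = (List.finRange 12).drop ((i : ℕ) + 1) := by
  decide +kernel

theorem above_pairwise : ∀ i : Fin 12, (above i).Pairwise (· < ·) := by decide +kernel

theorem fixed_kinds : kind 5 = 0 ∧ kind 8 = 0 ∧ kind 9 = 0 ∧ kind 10 = 2 ∧ kind 11 = 2 := by
  decide +kernel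

variable {K : Type*} [Field K] [CharP K 2] (T : Tw K)

theorem conj_lift_of_moves {d : DihedralGroup 8} {k l : Fin 12} (h : moves d k l = true) (t : K) :
    nD K d * T.lift k t * (nD K d)⁻¹ = T.lift l t := by
  simp only [moves, Bool.and_eq_true, decide_eq_true_eq] at h
  obtain ⟨⟨h1, h2⟩, h3⟩ := h
  have hp : ∀ L : List (Root D), nD K d * (L.map fun r => x K r (T.θ t * t)).prod * (nD K d)⁻¹ =
      ((L.map (dp d)).map fun r => x K r (T.θ t * t)).prod := by
    intro L
    induction L with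
    | nil => simp
    | cons r L ih =>
      rw [List.map_cons, List.prod_cons, List.map_cons, List.map_cons, List.prod_cons, ← ih,
        ← dP_apply, ← mon_nD d r (T.θ t * t)]
      group
  rw [Tw.lift, Tw.lift, ← h3, ← hp, ← h1, ← h2, ← dP_apply d (la k), ← dP_apply d (lb k),
    ← mon_nD d (la k) (T.θ t), ← mon_nD d (lb k) t]
  group

theorem base_kinds : kind 0 = 0 ∧ kind 1 = 1 ∧ kind 3 = 2 ∧
    mover 0 = 1 ∧ mover 1 = 1 ∧ mover 3 = 1 := by
  decide +kernel

theorem nD_one' : nD K (1 : DihedralGroup 8) = 1 := by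
  show (n₀ K * n₁ K) ^ (0 : ZMod 8).val = 1
  simp

variable [Finite K]

omit [CharP K 2] in
theorem sqrt_unit {c : K} (hc : c ≠ 0) (f : K) (hf : f ^ 2 = c) : f ≠ 0 := fun e => by
  rw [e] at hf; simp at hf; exact hc hf.symm

/-- A torus element moving a lift to parameter one. -/
theorem exists_norm (i : Fin 12) {t : K} (ht : t ≠ 0) :
    ∃ h ∈ T.H1, h * T.lift i t * h⁻¹ = T.lift i 1 := by
  suffices H : ∃ s : Kˣ, T.hs s * T.baseE (kind i) t * (T.hs s)⁻¹ = T.baseE (kind i) 1 by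
    obtain ⟨s, hs⟩ := H
    refine ⟨nD K (mover i) * T.hs s * (nD K (mover i))⁻¹,
      T.conj_H1 (nD_monomial _) (T.nD_fix _) ?_, ?_⟩
    · rw [← T.diag_inf_G1]
      refine ⟨?_, T.hs_mem s⟩
      have := T.tor2_fix (1, s)
      have hd : T.hs s ∈ D.diagonalSubgroup K ⊓ T.fix := by
        rw [T.diag_inf_fix]; exact ⟨(1, s), rfl⟩
      exact hd.1
    · rw [T.lift_eq, T.lift_eq, ← hs]
      group
  rcases kind_cases i with h | h | h <;> rw [h]
  · have hf : T.θ (T.θ t⁻¹) ^ 2 = t⁻¹ := T.θ_θ_sq _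
    refine ⟨Units.mk0 _ (sqrt_unit (inv_ne_zero ht) _ hf), ?_⟩
    simp only [Tw.baseE, if_true]
    rw [T.hs_conj_pair, Units.val_mk0, hf, inv_mul_cancel₀ ht]
  · refine ⟨Units.mk0 t ht, ?_⟩
    simp only [Tw.baseE, Nat.one_ne_zero, if_false, if_true]
    rw [T.hs_conj_cls, Units.val_mk0, inv_mul_cancel₀ ht, mul_zero]
  · have hθ : T.θ t ≠ 0 := (map_ne_zero T.θ).2 ht
    have hθθ : T.θ (T.θ t) ≠ 0 := (map_ne_zero T.θ).2 hθ
    have hs : T.θ t ^ 2 / T.θ (T.θ t) ^ 2 ≠ 0 :=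
      div_ne_zero (pow_ne_zero _ hθ) (pow_ne_zero _ hθθ)
    refine ⟨Units.mk0 _ hs, ?_⟩
    simp only [Tw.baseE, OfNat.ofNat_ne_zero, if_false, show (2 : ℕ) ≠ 1 by norm_num]
    rw [T.hs_conj_cls, Units.val_mk0]
    have e : T.θ (T.θ t ^ 2 / T.θ (T.θ t) ^ 2) = t / T.θ t := by
      rw [map_div₀, map_pow, map_pow, T.θ_θ_sq, T.θ_θ_sq]
    rw [e, map_one, T.θ_θ_sq]
    congr 1
    · simp
    · field_simp

/-- Every element of a step of the chain is a product of lifts. -/
theorem exists_sp : ∀ (n j : ℕ), j + n = 12 → ∀ g ∈ T.uF allS j,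
    ∃ v : ℕ → K, g = sp T v ((List.finRange 12).drop j) := by
  intro n
  induction n with
  | zero =>
    intro j hj g hg
    obtain rfl : j = 12 := by omega
    refine ⟨fun _ => 0, ?_⟩
    have := hg.1
    rw [uS_eq_bot allS_ok le_rfl] at this
    rw [List.drop_of_length_le (by simp)]
    exact Subgroup.mem_bot.1 this
  | succ n ih =>
    intro j hj g hg
    obtain ⟨t, -, z, hz, rfl⟩ := T.exists_split_fix allS_ok ⟨j, by omega⟩ hg
    obtain ⟨v, rfl⟩ := ih (j + 1) (by omega) z hz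
    refine ⟨Function.update v j t, ?_⟩
    rw [List.drop_eq_getElem_cons (show j < (List.finRange 12).length by simp; omega)]
    simp only [sp, List.map_cons, List.prod_cons, List.getElem_finRange, Fin.cast_mk,
      Function.update_self]
    congr 1
    refine congrArg List.prod (List.map_congr_left fun k hk => ?_)
    obtain ⟨a, ha, e⟩ := List.getElem_of_mem hk
    rw [List.getElem_drop, List.getElem_finRange] at e
    rw [Function.update_of_ne]
    rw [← e]
    simp only [Fin.val_cast]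
    omega

/-- The class of a kind 0 lift. -/
def cA : GL D.Idx K := T.lift 0 1

/-- The class of a kind 2 lift. -/
def cZ : GL D.Idx K := T.lift 3 1

theorem CJ_base (i : Fin 12) (h : kind i = 0 ∨ kind i = 2) :
    CJ T (T.lift i 1) (cA T) ∨ CJ T (T.lift i 1) (cZ T) := by
  obtain ⟨k0, -, k3, m0, -, m3⟩ := base_kinds
  rcases h with h | h
  · refine Or.inl ⟨(nD K (mover i))⁻¹, inv_mem (T.nD_mem _), ?_⟩
    rw [cA, T.lift_eq i, T.lift_eq 0, h, k0, m0, nD_one']
    group
  · refine Or.inr ⟨(nD K (mover i))⁻¹, inv_mem (T.nD_mem _), ?_⟩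
    rw [cZ, T.lift_eq i, T.lift_eq 3, h, k3, m3, nD_one']
    group

theorem endgame_zero_nine (h : K) : CJ T (T.lift 0 1) (T.lift 0 1 * T.lift 9 h) := by
  have hc := endgame_ok
  simp only [Bool.and_eq_true] at hc
  have e := lev_eq_of_chk T (fun _ => T.θ (T.θ h)) hc.1.1.1
  simp only [lev, pev, mev, List.map_cons, List.map_nil, List.prod_cons, List.prod_nil,
    List.sum_cons, List.sum_nil, mul_one, add_zero, pow_zero, pow_one, one_mul, T.θ_θ_sq] at e
  refine ⟨T.lift 4 (T.θ (T.θ h)) * T.lift 5 (T.θ h) * T.lift 6 (T.θ (T.θ h)),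
    mul_mem (mul_mem (T.lift_mem _ _) (T.lift_mem _ _)) (T.lift_mem _ _), ?_⟩
  rw [mul_inv_eq_iff_eq_mul]
  simpa only [mul_assoc] using e

theorem endgame_three_eleven {j : K} (hj : j ≠ 0) : CJ T (T.lift 3 1 * T.lift 11 j) (cA T) := by
  have hc := endgame_ok
  simp only [Bool.and_eq_true] at hc
  set p := T.θ j with hp
  have hp0 : p ≠ 0 := (map_ne_zero T.θ).2 hj
  have hpj : T.θ p ^ 2 = j := T.θ_θ_sq j
  have e1 := lev_eq_of_chk T (fun _ => p) hc.1.1.2
  simp only [lev, pev, mev, List.map_cons, List.map_nil, List.prod_cons, List.prod_nil,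
    List.sum_cons, List.sum_nil, mul_one, add_zero, pow_zero, pow_one, one_mul, hpj] at e1
  have c1 : CJ T (T.lift 3 1 * T.lift 11 j) (T.lift 3 1 * T.lift 9 p) := by
    refine ⟨T.lift 8 p * T.lift 7 p, mul_mem (T.lift_mem _ _) (T.lift_mem _ _), ?_⟩
    rw [mul_inv_eq_iff_eq_mul]
    simpa only [mul_assoc] using e1
  have hm := moves_ok
  simp only [Bool.and_eq_true] at hm
  have c2 : CJ T (T.lift 3 1 * T.lift 9 p) (T.lift 11 1 * T.lift 0 p) := by
    refine ⟨nD K (.r 6), T.nD_mem _, ?_⟩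
    rw [← conj_lift_of_moves T hm.1.1.1 (1 : K), ← conj_lift_of_moves T hm.1.1.2 p]
    group
  have e3 := lev_eq_of_chk T (fun _ => p) hc.2
  simp only [lev, pev, mev, List.map_cons, List.map_nil, List.prod_cons, List.prod_nil,
    List.sum_cons, List.sum_nil, mul_one, add_zero, pow_zero, pow_one, one_mul] at e3
  let u : ℕ → K := fun n => if n = 0 then p else p⁻¹
  have e4 := lev_eq_of_chk T u hc.1.2
  simp only [lev, pev, mev, u, List.map_cons, List.map_nil, List.prod_cons, List.prod_nil,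
    List.sum_cons, List.sum_nil, mul_one, add_zero, pow_zero, pow_one, one_mul, if_true,
    Nat.one_ne_zero, if_false, mul_inv_cancel₀ hp0] at e4
  have c4 : CJ T (T.lift 0 p) (T.lift 0 p * T.lift 11 1) := by
    refine ⟨T.lift 10 p⁻¹, T.lift_mem _ _, ?_⟩
    rw [mul_inv_eq_iff_eq_mul]
    simpa only [mul_assoc] using e4
  obtain ⟨h, hh, he⟩ := exists_norm T 0 hp0
  have c5 : CJ T (T.lift 0 p) (cA T) := ⟨h, T.H1_le_G1 hh, he⟩
  rw [e3] at c2
  exact (c1.trans T c2).trans T ((c4.symm T).trans T c5)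

/-- A state squaring to one is conjugate to one of the two. -/
theorem classes_st (I : Fin 12) (v : ℕ → K)
    (hsq : st T I v (above I) * st T I v (above I) = 1) :
    CJ T (st T I v (above I)) (cA T) ∨ CJ T (st T I v (above I)) (cZ T) := by
  have hp := plans_ok
  simp only [Bool.and_eq_true] at hp
  obtain ⟨⟨⟨⟨⟨⟨⟨⟨⟨⟨⟨p0, p1⟩, p2⟩, p3⟩, p4⟩, p5⟩, p6⟩, p7⟩, p8⟩, p9⟩, p10⟩, p11⟩ := hp
  have solve : ∀ steps R, chkPlan I (above I) steps R = true →
      ∃ S, R = some S ∧ ∃ w : ℕ → K, CJ T (st T I v (above I)) (st T I w S) := fun steps R hc =>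
    run T I steps _ R hc (above_pairwise I) v hsq
  have none' : ∀ steps, chkPlan I (above I) steps none = true → False := fun steps hc => by
    obtain ⟨S, hS, -⟩ := solve steps none hc
    simp at hS
  have nil' : ∀ steps, (kind I = 0 ∨ kind I = 2) → chkPlan I (above I) steps (some []) = true →
      CJ T (st T I v (above I)) (cA T) ∨ CJ T (st T I v (above I)) (cZ T) := fun steps hk hc => by
    obtain ⟨S, hS, w, hw⟩ := solve steps _ hc
    obtain rfl := Option.some.inj hS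
    rw [show st T I w [] = T.lift I 1 by simp [st, sp]] at hw
    exact (CJ_base T I hk).imp (fun h => hw.trans T h) (fun h => hw.trans T h)
  obtain ⟨k5, k8, k9, k10, k11⟩ := fixed_kinds
  have hI : I = 0 ∨ I = 1 ∨ I = 2 ∨ I = 3 ∨ I = 4 ∨ I = 5 ∨ I = 6 ∨ I = 7 ∨ I = 8 ∨ I = 9 ∨
      I = 10 ∨ I = 11 := by
    clear solve none' nil' hsq
    revert I
    decide
  rcases hI with rfl | rfl | rfl | rfl | rfl | rfl | rfl | rfl | rfl | rfl | rfl | rfl
  · obtain ⟨S, hS, w, hw⟩ := solve _ _ p0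
    obtain rfl := Option.some.inj hS
    refine Or.inl (hw.trans T ?_)
    simp only [st, sp, List.map_cons, List.map_nil, List.prod_cons, List.prod_nil, mul_one]
    exact (endgame_zero_nine T _).symm T
  · exact (none' _ p1).elim
  · exact (none' _ p2).elim
  · obtain ⟨S, hS, w, hw⟩ := solve _ _ p3
    obtain rfl := Option.some.inj hS
    simp only [st, sp, List.map_cons, List.map_nil, List.prod_cons, List.prod_nil, mul_one] at hw ⊢
    rcases eq_or_ne (w ((11 : Fin 12) : ℕ)) 0 with e | e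
    · rw [e, T.lift_zero, mul_one] at hw
      exact Or.inr hw
    · exact Or.inl (hw.trans T (endgame_three_eleven T e))
  · exact (none' _ p4).elim
  · exact nil' _ (Or.inl k5) p5
  · exact (none' _ p6).elim
  · obtain ⟨S, hS, w, hw⟩ := solve _ _ p7
    obtain rfl := Option.some.inj hS
    simp only [st, sp, List.map_cons, List.map_nil, List.prod_cons, List.prod_nil, mul_one] at hw ⊢
    have hm := moves_ok
    simp only [Bool.and_eq_true] at hm
    have c7 : CJ T (T.lift 7 1 * T.lift 10 (w ((10 : Fin 12) : ℕ)))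
        (T.lift 3 1 * T.lift 11 (w ((10 : Fin 12) : ℕ))) := by
      refine ⟨(nD K (.sr 0))⁻¹, inv_mem (T.nD_mem _), ?_⟩
      rw [← conj_lift_of_moves T hm.1.2 (1 : K), ← conj_lift_of_moves T hm.2 (w _)]
      group
    have c8 := hw.trans T c7
    rcases eq_or_ne (w ((10 : Fin 12) : ℕ)) 0 with e | e
    · rw [e, T.lift_zero, mul_one] at c8
      exact Or.inr c8
    · exact Or.inl (c8.trans T (endgame_three_eleven T e))
  · exact nil' _ (Or.inl k8) p8
  · exact nil' _ (Or.inl k9) p9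
  · exact nil' _ (Or.inr k10) p10
  · exact nil' _ (Or.inr k11) p11

/-- Every involution of `U¹` is conjugate to one of the two. -/
theorem classes_U1 {x : GL D.Idx K} (hx : x ∈ T.U1) (hx1 : x ≠ 1) (h2 : x * x = 1) :
    CJ T x (cA T) ∨ CJ T x (cZ T) := by
  classical
  rw [T.U1_eq] at hx
  have hex : ∃ j, x ∉ T.uF allS j := ⟨12, fun h => hx1 (by
    have := h.1
    rw [uS_eq_bot allS_ok le_rfl] at this
    exact Subgroup.mem_bot.1 this)⟩
  have hspec := Nat.find_spec hex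
  obtain ⟨i, hi⟩ : ∃ i, Nat.find hex = i + 1 := Nat.exists_eq_succ_of_ne_zero (fun e => by
    rw [e] at hspec; exact hspec hx)
  have hxi : x ∈ T.uF allS i := not_not.1 (Nat.find_min hex (by omega))
  have hi12 : i < 12 := by
    by_contra hc
    have := hxi.1
    rw [uS_eq_bot allS_ok (Nat.le_of_not_lt hc)] at this
    exact hx1 (Subgroup.mem_bot.1 this)
  rw [hi] at hspec
  obtain ⟨t, -, z, hz, rfl⟩ := T.exists_split_fix allS_ok ⟨i, hi12⟩ hxi
  have ht : t ≠ 0 := fun e => hspec (by rw [e, T.lift_zero, one_mul]; exact hz)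
  obtain ⟨h, hh, he⟩ := exists_norm T ⟨i, hi12⟩ ht
  have hz' : h * z * h⁻¹ ∈ T.uF allS (i + 1) :=
    Subgroup.mem_inf.2 ⟨diag_conj_rootGen hW hh.1 hz.1, mul_mem (mul_mem hh.2 hz.2) (inv_mem hh.2)⟩
  obtain ⟨v, hv⟩ := exists_sp T (12 - (i + 1)) _ (by omega) _ hz'
  have c0 : h * (T.lift ⟨i, hi12⟩ t * z) * h⁻¹ = st T ⟨i, hi12⟩ v (above ⟨i, hi12⟩) := by
    rw [above_eq, st, ← hv, ← he]
    group
  have hsq : st T ⟨i, hi12⟩ v (above ⟨i, hi12⟩) * st T ⟨i, hi12⟩ v (above ⟨i, hi12⟩) = 1 := by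
    rw [← c0, show ∀ y : GL D.Idx K, h * y * h⁻¹ * (h * y * h⁻¹) = h * (y * y) * h⁻¹ from
      fun y => by group, h2]
    group
  have cj : CJ T _ _ := ⟨h, T.H1_le_G1 hh, c0⟩
  exact (classes_st T _ v hsq).imp (fun h' => cj.trans T h') (fun h' => cj.trans T h')

end CfsgLib.ReeF4.Sym
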