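import Cfsg.Agent.ReeF4.Two
import Mathlib.LinearAlgebra.Matrix.Rank

/-!
# The two representatives of involutions are not conjugate

Less the identity, the lift of slot `3` factors through 21 coordinates and the lift of slot `0` has a
regular minor of size 22.
-/

set_option autoImplicit false
set_option maxHeartbeats 1000000

namespace CfsgLib.ReeF4.Two

open Cfsg.Lie CfsgLib.Chevalley
open CfsgLib.ChevSimple.Two (bit bit_xor)
open scoped MatrixGroups Matrix

/-- The rows of the minor. -/
def selA : List ℕ :=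
  [0, 3, 5, 10, 11, 12, 14, 16, 21, 23, 24, 26, 28, 30, 33, 35, 37, 38, 40, 42, 43, 46]

/-- The right inverse of the minor. -/
def rightA : List ℕ :=
  [0, 65537, 4098, 0, 4, 0, 0, 16, 32, 8, 0, 0, 0, 72, 0, 128, 0, 1024, 1, 0, 264, 0, 640, 0, 0,
    2048, 0, 2, 0, 8192, 0, 131072, 16384, 0, 32768, 0, 1048576, 0, 0, 278528, 0, 557056, 0, 0, 0,
    2129920, 0, 0, 0, 0, 0, 0]

/-- The coefficients of the factorisation. -/
def leftZ : List ℕ :=
  [0, 3, 2, 0, 0, 0, 0, 4, 4, 12, 0, 0, 0, 16, 0, 48, 0, 64, 192, 0, 0, 0, 256, 0, 2, 256, 0, 768,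
    0, 2, 0, 1025, 10243, 4096, 9218, 4096, 20480, 0, 0, 32768, 0, 98304, 0, 131072, 393216, 0, 0,
    0, 524288, 524288, 1572864, 0]

/-- The row basis of the factorisation. -/
def baseZ : List ℕ :=
  [8388608, 2097152, 32, 64, 2048, 4096, 16384, 65536, 524288, 1048576, 67108864, 16777221,
    268435456, 8, 1073741824, 137438953472, 274877906944, 1099511627776, 4398046511104,
    70368744177664, 140737488355328]

/-- A packed row times a list of packed rows. -/
def rowX : ℕ → List ℕ → ℕ
  | _, [] => 0
  | r, x :: L => bif r.testBit 0 then x ^^^ rowX (r / 2) L else rowX (r / 2) L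

/-- A row of a lift less the identity. -/
def eRow (i : Fin 12) (a : ℕ) : ℕ := act (row i) (2 ^ a) ^^^ 2 ^ a

theorem minor_ok : (List.range 22).all (fun i => decide (selA.getD i 0 < 52) &&
    rowX (eRow 0 (selA.getD i 0)) rightA == 2 ^ i) = true := by
  decide +kernel

theorem factor_ok : (List.range 52).all (fun a => rowX (leftZ.getD a 0) baseZ == eRow 3 a) = true := by
  decide +kernel

theorem sizes : rightA.length = 52 ∧ baseZ.length = 21 := by decide +kernel

theorem commute_ok :
    ((List.range 52).all (fun a => actW [0, 2] (2 ^ a) == actW [2, 0] (2 ^ a)) &&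
      (List.range 52).all (fun a => actW [1, 3] (2 ^ a) == actW [3, 1] (2 ^ a))) = true := by
  decide +kernel

theorem bit_rowX (j : ℕ) : ∀ (L : List ℕ) (r : ℕ),
    bit (rowX r L) j = ∑ k ∈ Finset.range L.length, bit r k * bit (L.getD k 0) j
  | [], r => by simp [rowX, bit]
  | x :: L, r => by
    have h : ∀ k, bit (r / 2) k = bit r (k + 1) := fun k => by rw [bit, bit, Nat.testBit_div_two]
    rw [List.length_cons, Finset.sum_range_succ', rowX, show bit r 0 = bif r.testBit 0 then 1 else 0
      from rfl]
    simp only [List.getD_cons_succ, List.getD_cons_zero, ← h, ← bit_rowX j L (r / 2)]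
    cases r.testBit 0 <;> simp [bit_xor, add_comm]

theorem vec_single (a : D.Idx) : vec (2 ^ at' a) = Pi.single a 1 := by
  funext c
  rw [vec, Pi.single_apply, bit, Nat.testBit_two_pow]
  by_cases hc : c = a
  · simp [hc]
  · have : at' a ≠ at' c := fun e => hc (finSumFinEquiv.injective (Fin.ext e.symm))
    simp [hc, this]

/-- The entries of a lift less the identity. -/
theorem lift_sub_one_apply (i : Fin 12) (a b : D.Idx) :
    ((tw.lift i 1 : GL D.Idx (ZMod 2)).val - 1) a b = bit (eRow i (at' a)) (at' b) := by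
  have h := congrFun (vec_mul_word [i] (2 ^ at' a)) b
  rw [vec_single, Matrix.single_one_vecMul, Matrix.row] at h
  simp only [List.map_cons, List.map_nil, List.prod_cons, List.prod_nil, mul_one, actW] at h
  have h1 : bit (2 ^ at' a) (at' b) = (1 : Matrix D.Idx D.Idx (ZMod 2)) a b := by
    rw [Matrix.one_apply]
    have := congrFun (vec_single a) b
    rw [Pi.single_apply] at this
    rw [show bit (2 ^ at' a) (at' b) = vec (2 ^ at' a) b from rfl, this]
    simp only [eq_comm]
  rw [Matrix.sub_apply, h, eRow, bit_xor, h1, sub_eq_add_neg, CharTwo.neg_eq]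
  rfl

theorem selA_lt (i : Fin 22) : selA.getD i 0 < 52 := by
  have h := List.all_eq_true.1 minor_ok i (List.mem_range.2 i.2)
  simp only [Bool.and_eq_true, decide_eq_true_eq] at h
  exact h.1

/-- The coordinates selected. -/
noncomputable def selIdx (i : Fin 22) : D.Idx := (at'_surj (selA_lt i)).choose

theorem at'_selIdx (i : Fin 22) : at' (selIdx i) = selA.getD i 0 :=
  (at'_surj (selA_lt i)).choose_spec

theorem minor_eq : ((tw.lift 0 1 : GL D.Idx (ZMod 2)).val - 1).submatrix selIdx id *
    Matrix.of (fun (b : D.Idx) (j : Fin 22) => bit (rightA.getD (at' b) 0) j) = 1 := by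
  ext i j
  have h := List.all_eq_true.1 minor_ok i (List.mem_range.2 i.2)
  simp only [Bool.and_eq_true, beq_iff_eq] at h
  have e := bit_rowX j rightA (eRow 0 (selA.getD i 0))
  rw [h.2, sizes.1, Finset.sum_range,
    ← Equiv.sum_comp (finSumFinEquiv.trans (finCongr dim_eq))] at e
  rw [Matrix.mul_apply, Matrix.one_apply]
  simp only [Matrix.submatrix_apply, id_eq, Matrix.of_apply, lift_sub_one_apply, at'_selIdx]
  refine Eq.trans e.symm ?_
  rw [bit, Nat.testBit_two_pow]
  by_cases hij : i = j
  · simp [hij]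
  · have : (i : ℕ) ≠ j := fun e => hij (Fin.ext e)
    simp [hij, this]

theorem factor_eq : (tw.lift 3 1 : GL D.Idx (ZMod 2)).val - 1 =
    Matrix.of (fun (a : D.Idx) (k : Fin 21) => bit (leftZ.getD (at' a) 0) k) *
      Matrix.of (fun (k : Fin 21) (b : D.Idx) => bit (baseZ.getD k 0) (at' b)) := by
  ext a b
  have h := List.all_eq_true.1 factor_ok _ (List.mem_range.2 (at'_lt a))
  simp only [beq_iff_eq] at h
  rw [lift_sub_one_apply, ← h, bit_rowX, sizes.2, Finset.sum_range, Matrix.mul_apply]
  rfl

theorem commute_lifts : Commute (tw.lift 0 1) (tw.lift 2 1) ∧ Commute (tw.lift 3 1) (tw.lift 1 1) := by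
  have h := commute_ok
  simp only [Bool.and_eq_true] at h
  constructor
  · simpa [Commute, SemiconjBy] using word_eq h.1
  · simpa [Commute, SemiconjBy] using (word_eq h.2).symm

variable {K : Type*} [Field K] [CharP K 2] (T : Tw K)

theorem lift_map (i : Fin 12) :
    Matrix.GeneralLinearGroup.map (ZMod.castHom (dvd_refl 2) K) (tw.lift i 1) = T.lift i 1 := by
  simp [Tw.lift, X_map, map_list_prod, Function.comp_def]

/-- The two representatives are not conjugate even in the linear group. -/
theorem not_isConj (g : GL D.Idx K) : g * T.lift 3 1 * g⁻¹ ≠ T.lift 0 1 := by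
  intro he
  set ι := ZMod.castHom (dvd_refl 2) K
  have hm : ∀ i : Fin 12, ((T.lift i 1 : GL D.Idx K).val - 1) =
      ((tw.lift i 1 : GL D.Idx (ZMod 2)).val - 1).map ι := fun i => by
    rw [Matrix.map_sub _ (map_sub ι), Matrix.map_one _ (map_zero ι) (map_one ι), ← lift_map T i]
    rfl
  have h1 := congrArg (fun M => M.map ι) minor_eq
  simp only [Matrix.map_mul, Matrix.map_one _ (map_zero ι) (map_one ι)] at h1
  rw [← Matrix.submatrix_map, ← hm 0] at h1
  have he' : (T.lift 0 1 : GL D.Idx K).val - 1 =
      g.val * ((T.lift 3 1 : GL D.Idx K).val - 1) * (g⁻¹).val := by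
    rw [← he, Units.val_mul, Units.val_mul, Matrix.mul_sub, Matrix.sub_mul, Matrix.mul_one,
      ← Units.val_mul g g⁻¹, mul_inv_cancel, Units.val_one]
  rw [he', hm 3, factor_eq, Matrix.map_mul, ← Matrix.mul_assoc, Matrix.mul_assoc (_ * _),
    Matrix.submatrix_mul _ _ _ id _ Function.bijective_id, Matrix.submatrix_id_id,
    Matrix.mul_assoc] at h1
  have h2 := congrArg Matrix.rank h1
  rw [Matrix.rank_one, Fintype.card_fin] at h2
  have h3 : (22 : ℕ) ≤ Fintype.card (Fin 21) :=
    le_of_eq_of_le h2.symm ((Matrix.rank_mul_le_left _ _).trans (Matrix.rank_le_card_width _))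
  simp at h3

end CfsgLib.ReeF4.Two
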