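import Cfsg.Agent.ReeF4.SymPlans
import Cfsg.Agent.ReeF4.Perfect

/-!
# Involutions of U¹ reduce to six shapes
-/

set_option autoImplicit false
set_option maxHeartbeats 2000000

namespace CfsgLib.ReeF4.Sym

open Cfsg.Lie CfsgLib.Chevalley
open scoped MatrixGroups

variable {K : Type*} [Field K] [CharP K 2] (T : Tw K)

/-- Conjugacy inside the twisted group. -/
def CJ (x y : GL D.Idx K) : Prop := ∃ g ∈ T.G1, g * x * g⁻¹ = y

theorem CJ.refl (x : GL D.Idx K) : CJ T x x := ⟨1, one_mem _, by group⟩

theorem CJ.trans {x y z : GL D.Idx K} (h : CJ T x y) (h' : CJ T y z) : CJ T x z := by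
  obtain ⟨g, hg, rfl⟩ := h
  obtain ⟨k, hk, rfl⟩ := h'
  exact ⟨k * g, mul_mem hk hg, by group⟩

theorem CJ.symm {x y : GL D.Idx K} (h : CJ T x y) : CJ T y x := by
  obtain ⟨g, hg, rfl⟩ := h
  exact ⟨g⁻¹, inv_mem hg, by group⟩

/-- The product over slots. -/
def sp (v : ℕ → K) (S : List (Fin 12)) : GL D.Idx K :=
  (S.map fun (j : Fin 12) => T.lift j (v (j : ℕ))).prod

/-- The element of a state. -/
def st (i : Fin 12) (v : ℕ → K) (S : List (Fin 12)) : GL D.Idx K := T.lift i 1 * sp T v S

theorem pev_one (v : ℕ → K) : pev T v [[]] = 1 := by simp [pev, mev]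

theorem pev_varP (v : ℕ → K) (j : ℕ) : pev T v (varP j) = v j := by simp [pev, mev, varP]

theorem lev_stLW (v : ℕ → K) (i : Fin 12) (S : List (Fin 12)) :
    lev T v (stLW i S) = st T i v S := by
  rw [stLW, lev_cons, pev_one, st, sp, lev, List.map_map]
  congr 2
  exact List.map_congr_left fun j _ => by simp [pev_varP]

theorem sortedLW_pairwise : ∀ {L : LW}, sortedLW L = true → L.Pairwise (fun a b => a.1 < b.1)
  | [], _ => List.Pairwise.nil
  | [a], _ => List.pairwise_singleton _ a
  | a :: b :: l, h => by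
    simp only [sortedLW, Bool.and_eq_true, decide_eq_true_eq] at h
    have ih := sortedLW_pairwise h.2
    refine List.pairwise_cons.2 ⟨fun c hc => ?_, ih⟩
    rcases List.mem_cons.1 hc with rfl | hc
    · exact h.1
    · exact h.1.trans ((List.pairwise_cons.1 ih).1 c hc)

theorem sp_erase (v : ℕ → K) {j : Fin 12} (hv : v (j : ℕ) = 0) : ∀ S : List (Fin 12),
    sp T v (S.erase j) = sp T v S
  | [] => rfl
  | s :: S => by
    rcases eq_or_ne s j with rfl | h
    · rw [List.erase_cons_head]
      simp [sp, hv, T.lift_zero]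
    · rw [List.erase_cons_tail (by simpa using h)]
      have := sp_erase v hv S
      simp only [sp, List.map_cons, List.prod_cons] at this ⊢
      rw [this]

/-- The parameters of a list of lifts as a function of the slot. -/
def slotVal (v : ℕ → K) (L : LW) (j : ℕ) : K :=
  ((L.filter fun e => decide ((e.1 : ℕ) = j)).map fun e => pev T v e.2).sum

theorem slotVal_eq (v : ℕ → K) {L : LW} (hL : L.Pairwise fun a b => a.1 < b.1)
    {e : Fin 12 × Poly} (he : e ∈ L) : slotVal T v L e.1 = pev T v e.2 := by
  induction L with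
  | nil => simp at he
  | cons a l ih =>
    obtain ⟨h1, h2⟩ := List.pairwise_cons.1 hL
    rcases List.mem_cons.1 he with rfl | he'
    · have : l.filter (fun b => decide ((b.1 : ℕ) = e.1)) = [] := by
        simp only [List.filter_eq_nil_iff, decide_eq_true_eq]
        intro b hb hc
        have := h1 b hb
        omega
      simp [slotVal, this]
    · have hne : (a.1 : ℕ) ≠ e.1 := by have := h1 e he'; omega
      rw [slotVal, List.filter_cons_of_neg (by simpa using hne)]
      exact ih h2 he'

theorem lev_eq_sp (v : ℕ → K) : ∀ (S : List (Fin 12)) (L : LW), S.Pairwise (· < ·) →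
    L.Pairwise (fun a b => a.1 < b.1) → (∀ e ∈ L, e.1 ∈ S) →
    lev T v L = sp T (slotVal T v L) S
  | [], L, _, _, h => by
    cases L with
    | nil => simp [lev, sp]
    | cons a l => exact absurd (h a List.mem_cons_self) (by simp)
  | s :: S, L, hS, hL, h => by
    obtain ⟨hs1, hs2⟩ := List.pairwise_cons.1 hS
    have hz : ∀ j : ℕ, (∀ e ∈ L, (e.1 : ℕ) ≠ j) → slotVal T v L j = 0 := fun j hj => by
      have : L.filter (fun e => decide ((e.1 : ℕ) = j)) = [] := by
        simp only [List.filter_eq_nil_iff, decide_eq_true_eq]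
        exact hj
      simp [slotVal, this]
    by_cases hh : ∀ e ∈ L, e.1 ≠ s
    · have := lev_eq_sp v S L hs2 hL fun e he =>
        (List.mem_cons.1 (h e he)).resolve_left (hh e he)
      rw [this]
      simp [sp, hz s fun e he hc => hh e he (Fin.ext hc), T.lift_zero]
    · push Not at hh
      obtain ⟨e, he, hes⟩ := hh
      cases L with
      | nil => simp at he
      | cons a l =>
        obtain ⟨hl1, hl2⟩ := List.pairwise_cons.1 hL
        have has : a.1 = s := by
          rcases List.mem_cons.1 (h a List.mem_cons_self) with h' | h'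
          · exact h'
          · exfalso
            have h3 := hs1 _ h'
            rcases List.mem_cons.1 he with rfl | he'
            · exact absurd hes (ne_of_gt h3)
            · have := hl1 e he'
              omega
        have hsub : ∀ b ∈ l, b.1 ∈ S := fun b hb =>
          (List.mem_cons.1 (h b (List.mem_cons_of_mem _ hb))).resolve_left (fun hc => by
            have := hl1 b hb; omega)
        rw [lev_cons, lev_eq_sp v S l hs2 hl2 hsub]
        have e1 : slotVal T v (a :: l) s = pev T v a.2 := by
          rw [← has]; exact slotVal_eq T v hL List.mem_cons_self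
        have e2 : sp T (slotVal T v (a :: l)) S = sp T (slotVal T v l) S := by
          refine congrArg List.prod (List.map_congr_left fun j hj => ?_)
          have := hs1 j hj
          rw [slotVal, List.filter_cons_of_neg (by simp; omega)]
          rfl
        simp only [sp, List.map_cons, List.prod_cons] at e2 ⊢
        rw [e2, e1, has]

variable [Finite K]

theorem lev_mem_uS (v : ℕ → K) {L : LW} {j : ℕ} (h : ∀ e ∈ L, j ≤ (e.1 : ℕ)) :
    lev T v L ∈ uS K allS j := by
  refine Subgroup.list_prod_mem _ fun y hy => ?_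
  obtain ⟨e, he, rfl⟩ := List.mem_map.1 hy
  exact uS_anti (h e he) (T.lift_mem_uS allS_ok e.1 _ (slot_facts _).1)

/-- A trivial sorted product of lifts has no parameters. -/
theorem lev_eq_one (v : ℕ → K) : ∀ {L : LW}, L.Pairwise (fun a b => a.1 < b.1) →
    lev T v L = 1 → ∀ e ∈ L, pev T v e.2 = 0
  | [], _, _ => fun e he => by simp at he
  | a :: l, hL, h1 => by
    obtain ⟨ha, hl⟩ := List.pairwise_cons.1 hL
    have hmem : lev T v l ∈ uS K allS ((a.1 : ℕ) + 1) := lev_mem_uS T v fun e he => ha e he
    obtain ⟨z, hz, ez⟩ := T.lift_eq_lead allS_ok a.1 (pev T v a.2) (slot_facts _).1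
    rw [lev_cons, ez] at h1
    have h0 : pev T v a.2 = 0 := (lead_unique (a' := (0 : K)) (b' := 0) (mul_mem hz hmem)
      (one_mem _) (by rw [← mul_assoc, h1]; simp [lead, x_zero])).2
    intro e he
    rcases List.mem_cons.1 he with rfl | he
    · exact h0
    · refine lev_eq_one v hl ?_ e he
      rw [← ez, h0, T.lift_zero, one_mul] at h1
      exact h1

theorem sp_congr {v w : ℕ → K} {S : List (Fin 12)} (h : ∀ j ∈ S, v (j : ℕ) = w (j : ℕ)) :
    sp T v S = sp T w S :=
  congrArg List.prod (List.map_congr_left fun j hj => by rw [h j hj])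

/-- A checked plan reduces. -/
theorem run (i : Fin 12) : ∀ (steps : List Step) (S : List (Fin 12)) (fin : Option (List (Fin 12))),
    chkPlan i S steps fin = true → S.Pairwise (· < ·) →
    ∀ v : ℕ → K, st T i v S * st T i v S = 1 →
      ∃ R, fin = some R ∧ ∃ w : ℕ → K, CJ T (st T i v S) (st T i w R)
  | [], S, fin, h, _, v, _ => by
    simp only [chkPlan, decide_eq_true_eq] at h
    exact ⟨S, h, v, CJ.refl T _⟩
  | .contra o sq :: r, S, fin, h, _, v, h2 => by
    simp only [chkPlan, Bool.and_eq_true, decide_eq_true_eq] at h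
    obtain ⟨⟨⟨h1, hs⟩, hm⟩, -⟩ := h
    have e := lev_eq_of_chk T v h1
    rw [lev_append, lev_stLW, h2] at e
    have := lev_eq_one T v (sortedLW_pairwise hs) e.symm _ hm
    rw [pev_one] at this
    exact absurd this one_ne_zero
  | .zero j o sq :: r, S, fin, h, hS, v, h2 => by
    simp only [chkPlan, Bool.and_eq_true, decide_eq_true_eq, List.any_eq_true] at h
    obtain ⟨⟨⟨⟨h1, hs⟩, ⟨⟨o', P⟩, hm, -, hP⟩⟩, -⟩, hr⟩ := h
    have e := lev_eq_of_chk T v h1
    rw [lev_append, lev_stLW, h2] at e
    have h0 := lev_eq_one T v (sortedLW_pairwise hs) e.symm _ hm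
    have hv : v (j : ℕ) = 0 := by
      match P, hP with
      | [[(k, a, b)]], hP =>
        simp only [isPow, Bool.and_eq_true, decide_eq_true_eq] at hP
        obtain ⟨rfl, hab⟩ := hP
        simp only [pev, mev, List.map_cons, List.map_nil, List.prod_cons, List.prod_nil,
          List.sum_cons, List.sum_nil, mul_one, add_zero, mul_eq_zero] at h0
        rcases h0 with h0 | h0
        · exact eq_zero_of_pow_eq_zero h0
        · exact T.θ.injective ((eq_zero_of_pow_eq_zero h0).trans (map_zero T.θ).symm)
    have e' : st T i v (S.erase j) = st T i v S := by rw [st, st, sp_erase T v hv]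
    obtain ⟨R, hR, w, hw⟩ := run i r _ fin hr (hS.sublist List.erase_sublist) v (by rw [e']; exact h2)
    exact ⟨R, hR, w, e' ▸ hw⟩
  | .kill j k fr new :: r, S, fin, h, hS, v, h2 => by
    simp only [chkPlan, Bool.and_eq_true, decide_eq_true_eq, List.all_eq_true] at h
    obtain ⟨⟨⟨⟨⟨h1, hs⟩, hhead⟩, htail⟩, hmem⟩, hr⟩ := h
    obtain ⟨p, hp⟩ : ∃ p : K, ∀ u : ℕ → K, u 12 = p → u (j : ℕ) = v (j : ℕ) →
        pev T u (padd (varP (j : ℕ)) (killP fr)) = 0 := by
      cases fr
      · refine ⟨v (j : ℕ), fun u h12 hj => ?_⟩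
        rw [pev_padd, pev_varP, hj]
        simp [pev, mev, killP, h12, CharTwo.add_self_eq_zero]
      · refine ⟨T.θ (v (j : ℕ)), fun u h12 hj => ?_⟩
        rw [pev_padd, pev_varP, hj]
        simp [pev, mev, killP, h12, T.θ_θ_sq, CharTwo.add_self_eq_zero]
    let u : ℕ → K := Function.update v 12 p
    have hu : ∀ m : Fin 12, u (m : ℕ) = v (m : ℕ) := fun m =>
      Function.update_of_ne (by omega) _ _
    have hst : st T i u S = st T i v S := by rw [st, st, sp_congr T fun m _ => hu m]
    have hp12 : u 12 = p := Function.update_self _ _ _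
    have e := lev_eq_of_chk T u h1
    rw [lev_cons, lev_append, lev_stLW, hst, lev_cons] at e
    have eY : lev T u new = T.lift k (pev T u [[(12, 1, 0)]]) * st T i v S *
        (T.lift k (pev T u [[(12, 1, 0)]]))⁻¹ := by
      rw [eq_mul_inv_iff_mul_eq, e]
      simp [lev]
    obtain ⟨a, l, rfl⟩ : ∃ a l, new = a :: l := by
      cases new with
      | nil => simp at hhead
      | cons a l => exact ⟨a, l, rfl⟩
    obtain rfl : a = (i, [[]]) := by simpa using hhead
    obtain ⟨hil, hl⟩ := List.pairwise_cons.1 (sortedLW_pairwise hs)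
    rw [lev_cons, pev_one, lev_eq_sp T u S l hS hl htail] at eY
    set w := slotVal T u l
    have hj0 : w (j : ℕ) = 0 := by
      rcases List.mem_cons.1 hmem with hm | hm
      · exfalso
        have := congrArg Prod.snd hm
        have h' := hp u hp12 (hu j)
        simp only at this
        rw [this, pev_one] at h'
        exact one_ne_zero h'
      · exact (slotVal_eq T u hl hm).trans (hp u hp12 (hu j))
    have hcj : CJ T (st T i v S) (st T i w (S.erase j)) := by
      refine ⟨T.lift k (pev T u [[(12, 1, 0)]]), T.lift_mem _ _, ?_⟩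
      rw [← eY, st, sp_erase T w hj0]
    obtain ⟨g, hg, eg⟩ := hcj
    have hsq : st T i w (S.erase j) * st T i w (S.erase j) = 1 := by
      rw [← eg, show g * st T i v S * g⁻¹ * (g * st T i v S * g⁻¹) =
        g * (st T i v S * st T i v S) * g⁻¹ by group, h2]
      group
    obtain ⟨R, hR, w', hw'⟩ := run i r _ fin hr (hS.sublist List.erase_sublist) w hsq
    exact ⟨R, hR, w', CJ.trans T ⟨g, hg, eg⟩ hw'⟩

end CfsgLib.ReeF4.Sym
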