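import Cfsg.Agent.ReeF4.InvClasses
import Cfsg.Agent.ReeF4.InvRank
import Cfsg.Agent.ReeF4.TitsSimple

/-!
# Two classes of involutions in ²F₄(q) and in the Tits group
-/

set_option autoImplicit false
set_option maxHeartbeats 2000000
set_option maxRecDepth 4000

namespace CfsgLib.ReeF4.Sym

open Cfsg.Lie CfsgLib.Chevalley
open scoped MatrixGroups

theorem ncard_classes {G : Type*} [Group G] {a b : G} (ha : orderOf a = 2) (hb : orderOf b = 2)
    (hne : ¬ IsConj a b) (h : ∀ x : G, orderOf x = 2 → IsConj x a ∨ IsConj x b) :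
    (ConjClasses.mk '' {g : G | orderOf g = 2}).ncard = 2 := by
  have : ConjClasses.mk '' {g : G | orderOf g = 2} = {ConjClasses.mk a, ConjClasses.mk b} := by
    refine Set.Subset.antisymm ?_ ?_
    · rintro _ ⟨x, hx, rfl⟩
      rcases h x hx with h | h
      · exact Or.inl (ConjClasses.mk_eq_mk_iff_isConj.2 h)
      · exact Or.inr (ConjClasses.mk_eq_mk_iff_isConj.2 h)
    · rintro _ (rfl | rfl)
      · exact ⟨a, ha, rfl⟩
      · exact ⟨b, hb, rfl⟩
  rw [this]
  exact Set.ncard_pair fun e => hne (ConjClasses.mk_eq_mk_iff_isConj.1 e)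

theorem sq_ok : ((List.range 52).all (fun a => Two.actW [0, 0] (2 ^ a) == Two.actW [] (2 ^ a)) &&
    (List.range 52).all (fun a => Two.actW [3, 3] (2 ^ a) == Two.actW [] (2 ^ a))) = true := by
  decide +kernel

variable {K : Type*} [Field K] [CharP K 2] (T : Tw K)

theorem lift_sq : T.lift 0 1 * T.lift 0 1 = 1 ∧ T.lift 3 1 * T.lift 3 1 = 1 := by
  have h := sq_ok
  simp only [Bool.and_eq_true] at h
  have e0 := congrArg (Matrix.GeneralLinearGroup.map (ZMod.castHom (dvd_refl 2) K))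
    (Two.word_eq h.1)
  have e3 := congrArg (Matrix.GeneralLinearGroup.map (ZMod.castHom (dvd_refl 2) K))
    (Two.word_eq h.2)
  simp only [List.map_cons, List.map_nil, List.prod_cons, List.prod_nil, mul_one, map_mul, map_one,
    Two.lift_map T] at e0 e3
  exact ⟨e0, e3⟩

variable [Finite K]

theorem lift_one_ne (i : Fin 12) : T.lift i 1 ≠ 1 := by
  intro e
  obtain ⟨z, hz, ez⟩ := T.lift_eq_lead allS_ok i 1 (slot_facts i).1
  have h4 : lead i (T.θ 1) (1 : K) * z = lead i 0 0 * 1 := by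
    rw [← ez, e]; simp [lead, x_zero]
  exact one_ne_zero (lead_unique hz (one_mem _) h4).2

/-- A representative in the group. -/
def rep (i : Fin 12) : ↥T.G1 := ⟨T.lift i 1, T.lift_mem i 1⟩

theorem order_rep : orderOf (rep T 0) = 2 ∧ orderOf (rep T 3) = 2 := by
  have : Fact (Nat.Prime 2) := ⟨Nat.prime_two⟩
  constructor <;> refine orderOf_eq_prime ?_ fun e => lift_one_ne T _ (congrArg Subtype.val e)
  · exact Subtype.ext (by rw [pow_two]; exact (lift_sq T).1)
  · exact Subtype.ext (by rw [pow_two]; exact (lift_sq T).2)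

theorem isConj_of_CJ {x y : ↥T.G1} (h : CJ T (x : GL D.Idx K) y) : IsConj x y := by
  obtain ⟨g, hg, e⟩ := h
  exact isConj_iff.2 ⟨⟨g, hg⟩, Subtype.ext e⟩

theorem not_isConj_rep : ¬ IsConj (rep T 0) (rep T 3) := by
  intro h
  obtain ⟨g, hg⟩ := isConj_iff.1 h.symm
  exact Two.not_isConj T (g : GL D.Idx K) (congrArg Subtype.val hg)

theorem conj_rep (x : ↥T.G1) (hx : orderOf x = 2) :
    IsConj x (rep T 0) ∨ IsConj x (rep T 3) := by
  classical
  haveI := Fintype.ofFinite K
  have : Fact (Nat.Prime 2) := ⟨Nat.prime_two⟩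
  obtain ⟨n, -, hn⟩ := FiniteField.card K 2
  rw [← Nat.card_eq_fintype_card] at hn
  have hcard : Nat.card ↥(T.U1.subgroupOf T.G1) = 2 ^ (Nat.card ↥T.G1).factorization 2 := by
    rw [Nat.card_congr (Subgroup.subgroupOfEquivOfLe T.U1_le_G1).toEquiv, T.natCard_U1,
      T.natCard_G1 hn, hn, ← pow_mul]
    congr 1
    set q := 2 ^ (n : ℕ) with hq
    have hev : Even q := (Nat.even_pow).2 ⟨even_two, n.ne_zero⟩
    have h1 : 1 ≤ q := Nat.one_le_two_pow
    have h4 : 1 ≤ q ^ 4 := Nat.one_le_pow _ _ h1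
    have hodd : Odd ((q - 1) * (q ^ 3 + 1) * (q ^ 4 - 1) * (q ^ 6 + 1)) := by
      refine ((Odd.mul ?_ ?_).mul ?_).mul ?_
      · exact Nat.Even.sub_odd h1 hev odd_one
      · exact (hev.pow_of_ne_zero (by norm_num)).add_odd odd_one
      · exact Nat.Even.sub_odd h4 (hev.pow_of_ne_zero (by norm_num)) odd_one
      · exact (hev.pow_of_ne_zero (by norm_num)).add_odd odd_one
    rw [mul_assoc, mul_assoc, mul_assoc,
      Nat.factorization_mul (by positivity) (fun e => by simp [mul_assoc, e] at hodd),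
      Finsupp.add_apply, Nat.factorization_eq_zero_of_not_dvd
        (n := (q - 1) * ((q ^ 3 + 1) * ((q ^ 4 - 1) * (q ^ 6 + 1))))
        (by simpa only [mul_assoc] using hodd.not_two_dvd_nat),
      add_zero, Nat.Prime.factorization_pow Nat.prime_two, Finsupp.single_eq_same]
  let P : Sylow 2 ↥T.G1 := Sylow.ofCard (T.U1.subgroupOf T.G1) hcard
  obtain ⟨Q, hQ⟩ := IsPGroup.exists_le_sylow
    (IsPGroup.of_card (n := 1) (by rw [Nat.card_zpowers, hx, pow_one]) :
      IsPGroup 2 (Subgroup.zpowers x))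
  obtain ⟨c, hc⟩ := MulAction.exists_smul_eq ↥T.G1 Q P
  have hu : c * x * c⁻¹ ∈ (P : Subgroup ↥T.G1) := by
    rw [← hc]
    exact Subgroup.smul_mem_pointwise_smul x (MulAut.conj c) Q (hQ (Subgroup.mem_zpowers x))
  have hu' : ((c * x * c⁻¹ : ↥T.G1) : GL D.Idx K) ∈ T.U1 := Subgroup.mem_subgroupOf.1 hu
  have hcx : IsConj x (c * x * c⁻¹) := isConj_iff.2 ⟨c, rfl⟩
  have ho : orderOf (c * x * c⁻¹) = 2 :=
    hx ▸ orderOf_injective (MulAut.conj c).toMonoidHom (MulAut.conj c).injective x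
  have h2 : (c * x * c⁻¹) * (c * x * c⁻¹) = 1 := by
    rw [← pow_two, ← ho]; exact pow_orderOf_eq_one _
  have hne : c * x * c⁻¹ ≠ 1 := fun e => by rw [e, orderOf_one] at ho; omega
  exact (classes_U1 T hu' (fun e => hne (Subtype.ext e)) (congrArg Subtype.val h2)).imp
    (fun h => hcx.trans (isConj_of_CJ T (y := rep T 0) h))
    (fun h => hcx.trans (isConj_of_CJ T (y := rep T 3) h))

/-- The twisted group has exactly two classes of involutions. -/
theorem twisted_classes : (ConjClasses.mk '' {g : ↥T.G1 | orderOf g = 2}).ncard = 2 :=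
  ncard_classes (order_rep T).1 (order_rep T).2 (not_isConj_rep T) (conj_rep T)

end CfsgLib.ReeF4.Sym

namespace CfsgLib.ReeF4.Sym

open Cfsg.Lie CfsgLib.Chevalley
open scoped MatrixGroups

variable [h2 : Fact (Nat.card (ZMod 2) = 2)]

/-- The Tits group has exactly two classes of involutions. -/
theorem tits_classes :
    (ConjClasses.mk '' {g : ↥(commutator (TG (ZMod 2))) | orderOf g = 2}).ncard = 2 := by
  let T := t₂ (ZMod 2)
  set C := commutator (TG (ZMod 2)) with hC
  have hmemC : ∀ g : TG (ZMod 2), orderOf g = 2 → g ∈ C := fun g hg =>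
    Two.mem_commutator_of_involution g hg
  have hidx : C.index = 2 := tits_facts.1
  have hout : ∀ i : Fin 12, phS i = 1 → rep T i ∉ C := fun i hi h => by
    have h' := Abelianization.commutator_subset_ker (parHom (K := ZMod 2)) h
    rw [MonoidHom.mem_ker] at h'
    change Multiplicative.ofAdd (parG (T.lift i 1)) = 1 at h'
    rw [lift₂, parG_U1 (sw_mem_U1 i.2), par₂_sw i.2, hi] at h'
    revert h'
    decide
  obtain ⟨c0, c3⟩ := Two.commute_lifts
  have hfix : ∀ (x : ↥C) (i j : Fin 12) (hj : orderOf (rep T i) = 2), phS j = 1 →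
      Commute (T.lift i 1) (T.lift j 1) → IsConj (x : TG (ZMod 2)) (rep T i) →
      IsConj x ⟨rep T i, hmemC _ hj⟩ := by
    intro x i j hj hodd hcm h
    obtain ⟨g, hg⟩ := isConj_iff.1 h
    by_cases hgC : g ∈ C
    · exact isConj_iff.2 ⟨⟨g, hgC⟩, Subtype.ext hg⟩
    · have hk : rep T j * g ∈ C :=
        (Subgroup.mul_mem_iff_of_index_two hidx).2 (iff_of_false (hout j hodd) hgC)
      refine isConj_iff.2 ⟨⟨_, hk⟩, Subtype.ext ?_⟩
      show rep T j * g * (x : TG (ZMod 2)) * (rep T j * g)⁻¹ = rep T i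
      have hcm' : rep T j * rep T i = rep T i * rep T j := Subtype.ext hcm.eq.symm
      calc rep T j * g * (x : TG (ZMod 2)) * (rep T j * g)⁻¹
          = rep T j * (g * (x : TG (ZMod 2)) * g⁻¹) * (rep T j)⁻¹ := by group
        _ = _ := by rw [hg, hcm', mul_inv_cancel_right]
  obtain ⟨o0, o3⟩ := order_rep T
  refine ncard_classes (a := (⟨rep T 0, hmemC _ o0⟩ : ↥C)) (b := ⟨rep T 3, hmemC _ o3⟩)
    ((Subgroup.orderOf_mk _ _).trans o0) ((Subgroup.orderOf_mk _ _).trans o3) ?_ ?_
  · intro h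
    obtain ⟨g, hg⟩ := isConj_iff.1 h
    have e := congrArg C.subtype hg
    rw [map_mul, map_mul, map_inv, Subgroup.subtype_apply, Subgroup.subtype_apply,
      Subgroup.subtype_apply] at e
    exact not_isConj_rep T (isConj_iff.2 ⟨_, e⟩)
  · intro x hx
    have hx' : orderOf (x : TG (ZMod 2)) = 2 := (Subgroup.orderOf_coe x).trans hx
    refine (conj_rep T _ hx').imp (hfix x 0 2 o0 (by decide +kernel) c0) (hfix x 3 1 o3 (by decide +kernel) c3)

end CfsgLib.ReeF4.Sym
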