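import Cfsg.Agent.ReeF4.MultElems

/-!
# The Tits group has trivial Schur multiplier
-/

set_option autoImplicit false
set_option Elab.async false
set_option linter.style.haveILetI false

namespace CfsgLib.ReeF4.Mult

open CfsgLib.Schur
open CfsgLib.Schur.Pc (ev ev_cons ev_nil tailSubgroup card_tailSubgroup_le)

local instance : Fact (Nat.card (ZMod 2) = 2) := ⟨Nat.card_zmod 2⟩

theorem card_derived : Nat.card ↥(commutator (TG (ZMod 2))) = 2 ^ 11 * 3 ^ 3 * 5 ^ 2 * 13 :=
  (tits_facts (K := ZMod 2)).2.2.2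

/-- The checks of the data for an odd prime. -/
noncomputable def oddOK (C : Pc.Cert) (ws hs : List (List ℕ)) (base : List ℕ) : Bool :=
  C.check && ws.all (fun w => wPar w == 0) &&
    C.rules.all (fun l => wordEq (expand ws l.1) (expand ws l.2)) &&
    fusOK C.fus C.fusW ws hs &&
    distinct (52 * base.length) ((Pc.normalWords C.p C.n 0).map fun w => wordKey base (expand ws w))

theorem ker_eq_bot_odd {Γ : Type*} [Group Γ] [Finite Γ] (C : Pc.Cert) (ws hs : List (List ℕ))
    (base : List ℕ) (hok : oddOK C ws hs base = true) (hp : C.p.Prime) {N : ℕ}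
    (hN : Nat.card ↥(commutator (TG (ZMod 2))) = C.p ^ C.n * N) (hNp : ¬ C.p ∣ N)
    (σ : Γ →* ↥(commutator (TG (ZMod 2)))) (hσ : Cfsg.IsStemExtension σ)
    (hexp : ∀ z ∈ σ.ker, z ^ C.p = 1) : σ.ker = ⊥ := by
  simp only [oddOK, Bool.and_eq_true] at hok
  obtain ⟨⟨⟨⟨hcheck, hws⟩, hrules⟩, hfus⟩, hdist⟩ := hok
  have hr : ∀ l ∈ C.rules, ev (xEl ws hws) l.1 = ev (xEl ws hws) l.2 := fun l hl =>
    xEl_rel hws (List.all_eq_true.1 hrules l hl)
  have hcard := card_tail_ge (p := C.p) (n := C.n) hws base _ hdist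
  have hshape : Pc.shaped C.p C.n C.rules = true := by
    have h := hcheck
    simp only [Pc.Cert.check, Bool.and_eq_true] at h
    exact h.1.1
  exact C.ker_eq_bot σ hσ hp hexp hcheck _ hr (fus_hold hws hfus) hcard (index_not_dvd hp hNp hN _
    (le_antisymm (card_tailSubgroup_le _ hshape hr C.n 0 (Nat.zero_add _)) hcard))

theorem gens2_par : gens2.all (fun w => wPar w == 0) = true := by decide +kernel

theorem eqs2 : cert2.eqsCheck = true := by decide +kernel

theorem lin2 : cert2.linCheck = true := by decide +kernel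

theorem rules2_ok : ((List.range 11).all fun b => (List.range (b + 1)).all fun a =>
    wordEq (expand gens2 [b, a]) (expand gens2 (cert2.rule b a))) = true := by decide +kernel

theorem fus2_ok : fusOK cert2.fus 16 gens2 conj2 = true := by decide +kernel

theorem base2_eq : base2 = [33] := by decide +kernel

theorem imgs2_ok : distinct 52 (imgs 2 gens2 11 0 (2 ^ 33)) = true := by decide +kernel

theorem dist2_ok : distinct 52
    ((Pc.normalWords 2 11 0).map fun w => wordKey base2 (expand gens2 w)) = true := by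
  simpa only [base2_eq, wordKey_singleton, ← imgs_eq] using imgs2_ok

theorem cert2_n : cert2.n = 11 := by decide +kernel

theorem ker_eq_bot_two {Γ : Type*} [Group Γ] [Finite Γ]
    (σ : Γ →* ↥(commutator (TG (ZMod 2)))) (hσ : Cfsg.IsStemExtension σ)
    (hexp : ∀ z ∈ σ.ker, z ^ 2 = 1) : σ.ker = ⊥ := by
  have hrules : ∀ a b, a ≤ b → b < cert2.n →
      xEl gens2 gens2_par b * xEl gens2 gens2_par a = ev (xEl gens2 gens2_par) (cert2.rule b a) := by
    intro a b hab hb
    rw [cert2_n] at hb
    have h := rules2_ok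
    simp only [List.all_eq_true, List.mem_range] at h
    have e := xEl_rel gens2_par (h b hb a (by omega))
    rw [ev_cons, ev_cons, ev_nil, mul_one] at e
    exact e
  have hshape : Pc.shaped 2 cert2.n cert2.rules = true := by
    have h := lin2
    simp only [Two.Cert.linCheck, Bool.and_eq_true] at h
    exact h.1.2
  have hlist : ∀ q ∈ cert2.rules, ev (xEl gens2 gens2_par) q.1 = ev (xEl gens2 gens2_par) q.2 := by
    intro q hq
    simp only [Two.Cert.rules, List.mem_flatMap, List.mem_map, List.mem_range] at hq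
    obtain ⟨b, hb, a, ha, rfl⟩ := hq
    rw [ev_cons, ev_cons, ev_nil, mul_one]
    exact hrules a b (by omega) hb
  have hcard : 2 ^ cert2.n ≤ Nat.card (tailSubgroup (xEl gens2 gens2_par) cert2.n 0) := by
    rw [cert2_n]
    exact card_tail_ge gens2_par base2 52 dist2_ok
  refine cert2.ker_eq_bot σ hσ hexp eqs2 lin2 _ hrules (fus_hold gens2_par fus2_ok) hcard
    (index_not_dvd Nat.prime_two (N := 3 ^ 3 * 5 ^ 2 * 13) (by norm_num) ?_ _
      (le_antisymm (card_tailSubgroup_le _ hshape hlist _ 0 (Nat.zero_add _)) hcard))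
  rw [cert2_n, card_derived, mul_assoc, mul_assoc, mul_assoc]

theorem cert3_ok : oddOK cert3 gens3 conj3 base3 = true := by decide +kernel

theorem cert5_ok : oddOK cert5 gens5 conj5 base5 = true := by decide +kernel

theorem word13_par : [word13].all (fun w => wPar w == 0) = true := by decide +kernel

theorem word13_ok : wordEq (expand [word13] (List.replicate 13 0)) [] = true ∧
    wordEq (expand [word13] [0]) [] = false := by decide +kernel

theorem ker_eq_bot_thirteen {Γ : Type*} [Group Γ] [Finite Γ]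
    (σ : Γ →* ↥(commutator (TG (ZMod 2)))) (hσ : Cfsg.IsStemExtension σ)
    (hexp : ∀ z ∈ σ.ker, z ^ 13 = 1) : σ.ker = ⊥ := by
  haveI : Fact (Nat.Prime 13) := ⟨by norm_num⟩
  set x := xEl [word13] word13_par 0 with hx
  have hpow : x ^ 13 = 1 := by
    have e := xEl_rel word13_par (u := List.replicate 13 0) (v := []) (by simpa [expand] using word13_ok.1)
    rwa [Pc.ev_replicate, ev_nil] at e
  have hne : x ≠ 1 := by
    intro h
    have e : wG (expand [word13] [0]) = wG [] := by
      rw [← coe_ev_xEl _ word13_par, ev_cons, ev_nil, mul_one, ← hx, h]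
      rfl
    have hw : ∀ a, Nat.beq (actS (expand [word13] [0]) (2 ^ a) % 2 ^ 52) (actS [] (2 ^ a) % 2 ^ 52) =
        true := fun a => by
      have := wordKey_congr [a] e
      simp only [wordKey, List.foldl_cons, List.foldl_nil, zero_mul, zero_add] at this
      exact this ▸ Nat.beq_refl _
    have h13 : ((List.range 52).all fun a =>
        Nat.beq (actS (expand [word13] [0]) (2 ^ a) % 2 ^ 52) (actS [] (2 ^ a) % 2 ^ 52)) = false := by
      decide +kernel
    rw [List.all_eq_true.2 fun a _ => hw a] at h13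
    exact Bool.noConfusion h13
  refine ker_eq_bot_of_index_zpowers (by norm_num) x (index_not_dvd (p := 13) (n := 1)
    (N := 2 ^ 11 * 3 ^ 3 * 5 ^ 2) (by norm_num) (by norm_num) ?_ _ ?_) σ hσ hexp
  · rw [card_derived, pow_one, mul_comm]
  · rw [Nat.card_zpowers, orderOf_eq_prime hpow hne, pow_one]

/-- The derived subgroup of ²F₄(2) has trivial Schur multiplier. -/
theorem multiplier_trivial : Cfsg.HasCyclicSchurMultiplier ↥(commutator (TG (ZMod 2))) 1 := by
  haveI : Finite ↥(commutator (TG (ZMod 2))) :=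
    Nat.finite_of_card_ne_zero (by rw [card_derived]; norm_num)
  refine hasCyclicSchurMultiplier_one _ fun p hp hdvd Γ _ _ σ hσ hexp => ?_
  rw [card_derived] at hdvd
  have hp' : p = 2 ∨ p = 3 ∨ p = 5 ∨ p = 13 := by
    rcases (Nat.Prime.dvd_mul hp).1 hdvd with h | h
    · rcases (Nat.Prime.dvd_mul hp).1 h with h | h
      · rcases (Nat.Prime.dvd_mul hp).1 h with h | h
        · exact Or.inl ((Nat.prime_dvd_prime_iff_eq hp Nat.prime_two).1 (hp.dvd_of_dvd_pow h))
        · exact Or.inr (Or.inl
            ((Nat.prime_dvd_prime_iff_eq hp Nat.prime_three).1 (hp.dvd_of_dvd_pow h)))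
      · exact Or.inr (Or.inr (Or.inl
          ((Nat.prime_dvd_prime_iff_eq hp (by norm_num)).1 (hp.dvd_of_dvd_pow h))))
    · exact Or.inr (Or.inr (Or.inr ((Nat.prime_dvd_prime_iff_eq hp (by norm_num)).1 h)))
  rcases hp' with rfl | rfl | rfl | rfl
  · exact ker_eq_bot_two σ hσ hexp
  · have hp3 : cert3.p = 3 := by decide +kernel
    have hn3 : cert3.n = 3 := by decide +kernel
    exact ker_eq_bot_odd cert3 gens3 conj3 base3 cert3_ok (by rw [hp3]; norm_num)
      (N := 2 ^ 11 * 5 ^ 2 * 13) (by rw [hp3, hn3, card_derived]; norm_num)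
      (by rw [hp3]; norm_num) σ hσ (by rw [hp3]; exact hexp)
  · have hp5 : cert5.p = 5 := by decide +kernel
    have hn5 : cert5.n = 2 := by decide +kernel
    exact ker_eq_bot_odd cert5 gens5 conj5 base5 cert5_ok (by rw [hp5]; norm_num)
      (N := 2 ^ 11 * 3 ^ 3 * 13) (by rw [hp5, hn5, card_derived]; norm_num)
      (by rw [hp5]; norm_num) σ hσ (by rw [hp5]; exact hexp)
  · exact ker_eq_bot_thirteen σ hσ hexp

end CfsgLib.ReeF4.Mult
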