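import Cfsg.Agent.ReeF4.MultData
import Cfsg.Agent.ReeF4.Two
import Cfsg.Agent.ReeF4.TitsSimple

/-!
# The Tits group: words in lifts and monomial elements, and certificates read on row vectors
-/

set_option autoImplicit false
set_option maxHeartbeats 1000000
set_option linter.style.haveILetI false

namespace CfsgLib.ReeF4.Mult

open Cfsg.Lie CfsgLib.Chevalley
open CfsgLib.ChevSimple.Two (bit bit_xor)
open CfsgLib.ReeF4.Two (at' at'_lt at'_surj dim_eq vec sum_bits act row rows_ok_a rows_ok_b vec_mul_lift)
open CfsgLib.Schur.Pc (ev ev_cons ev_nil ev_append ev_flatMap ev_replicate tailSubgroup)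
open scoped MatrixGroups

local instance : Fact (Nat.card (ZMod 2) = 2) := ⟨Nat.card_zmod 2⟩

/-- The word of root elements of a monomial element. -/
def monoWord : Bool → List (ℕ × ℤ)
  | false => [(33, 1), (14, 1), (33, 1), (24, 1), (23, 1), (24, 1)]
  | true => [(27, 1), (20, 1), (27, 1), (25, 1), (22, 1), (25, 1), (27, 1), (20, 1), (27, 1), (25, 1),
      (22, 1), (25, 1)]

/-- The table of a monomial element. -/
def monoRow (j : Bool) : List (ℕ × ℕ) := mTab.getD (bif j then 1 else 0) []

/-- The check of the table of a monomial element. -/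
def chkMono (j : Bool) : Bool :=
  let M := wordSMat D (monoWord j)
  M.2 && (monoRow j).all (fun p => decide (p.1 < 52)) &&
    (List.range 52).all fun a => (List.range 52).all fun b =>
      rowVal (Trie.get M.1 a) b % 2 == bif (act (monoRow j) (2 ^ a)).testBit b then 1 else 0

theorem monoRow_ok : ∀ j, chkMono j = true := by decide +kernel

theorem vec_mul_mono (j : Bool) (v : ℕ) :
    Matrix.vecMul (vec v) (nJ (ZMod 2) j : GL D.Idx (ZMod 2)).val = vec (act (monoRow j) v) := by
  have h := monoRow_ok j
  unfold chkMono at h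
  obtain ⟨M, hM⟩ : ∃ M, M = wordSMat D (monoWord j) := ⟨_, rfl⟩
  rw [← hM] at h
  simp only [Bool.and_eq_true, List.all_eq_true, List.mem_range, beq_iff_eq,
    decide_eq_true_eq] at h
  obtain ⟨⟨h1, h2⟩, h3⟩ := h
  subst hM
  have e : nJ (ZMod 2) j = wordGL hW.good ((monoWord j).map fun p => (p.1, ((p.2 : ℤ) : ZMod 2))) := by
    cases j
    · exact n₀_eq_word
    · exact n₁_eq_word
  rw [e, show ((monoWord j).map fun p => (p.1, ((p.2 : ℤ) : ZMod 2))) =
    (monoWord j).map fun p => (p.1, Int.castRingHom (ZMod 2) p.2) from rfl,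
    ← wordGL_map hW.good (Int.castRingHom (ZMod 2)), coe_map_GL,
    ← wordSMat_spec hW.good (monoWord j) h1]
  funext b
  simp only [Matrix.vecMul, dotProduct, vec]
  rw [← sum_bits v (at' b) (at'_lt b) (monoRow j) h2, Finset.sum_range,
    ← Equiv.sum_comp (finSumFinEquiv.trans (finCongr dim_eq))]
  refine Finset.sum_congr rfl fun a _ => ?_
  have h4 := h3 _ (at'_lt a) _ (at'_lt b)
  simp only [Equiv.trans_apply, finCongr_apply, Fin.val_cast]
  change _ = bit v (at' a) * bit (act (monoRow j) (2 ^ at' a)) (at' b)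
  rw [Matrix.map_apply, SMat.toMat_apply, eq_intCast]
  refine congrArg (bit v (at' a) * ·) ?_
  simp only [at', SMat.den] at h4 ⊢
  revert h4
  generalize rowVal (Trie.get (wordSMat D (monoWord j)).1 _) _ = z
  intro h4
  rw [← ZMod.intCast_mod z 2, Nat.cast_ofNat, h4, bit]
  generalize (act (monoRow j) _).testBit _ = c
  cases c <;> simp

/-- The element of a symbol. -/
def symGL (s : ℕ) : GL D.Idx (ZMod 2) :=
  if h : s < 12 then Two.tw.lift ⟨s, h⟩ 1 else nJ (ZMod 2) (s != 12)

/-- The table of a symbol. -/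
def symRow (s : ℕ) : List (ℕ × ℕ) :=
  if h : s < 12 then row ⟨s, h⟩ else monoRow (s != 12)

/-- The parity of a symbol. -/
def symPar (s : ℕ) : ZMod 2 := if s < 12 then phS s else 0

theorem vec_mul_sym (s : ℕ) (v : ℕ) :
    Matrix.vecMul (vec v) (symGL s).val = vec (act (symRow s) v) := by
  unfold symGL symRow
  split_ifs with h
  · refine vec_mul_lift ?_ v
    rcases Nat.lt_or_ge s 6 with h6 | h6
    exacts [rows_ok_a ⟨s, h⟩ h6, rows_ok_b ⟨s, h⟩ h6]
  · exact vec_mul_mono _ v

/-- A symbol in the twisted group. -/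
def symG (s : ℕ) : TG (ZMod 2) :=
  ⟨symGL s, by
    unfold symGL
    split_ifs with h
    · exact (t₂ (ZMod 2)).lift_mem _ 1
    · cases (s != 12)
      · exact (t₂ (ZMod 2)).n₀_mem
      · exact (t₂ (ZMod 2)).n₁_mem⟩

/-- The element of a word. -/
def wG (w : List ℕ) : TG (ZMod 2) := ev symG w

/-- The parity of a word. -/
def wPar (w : List ℕ) : ZMod 2 := (w.map symPar).sum

theorem parHom_symG (s : ℕ) :
    parHom (K := ZMod 2) (symG s) = Multiplicative.ofAdd (symPar s) := by
  change Multiplicative.ofAdd (parG (symGL s)) = _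
  unfold symGL symPar
  split_ifs with h
  · rw [show Two.tw.lift ⟨s, h⟩ 1 = (t₂ (ZMod 2)).lift ⟨s, h⟩ 1 from rfl, lift₂,
      parG_U1 (sw_mem_U1 h), par₂_sw h]
  · rw [parG_nJ]

theorem commutator_eq_ker : commutator (TG (ZMod 2)) = (parHom (K := ZMod 2)).ker := by
  have hle : commutator (TG (ZMod 2)) ≤ (parHom (K := ZMod 2)).ker :=
    Abelianization.commutator_subset_ker _
  refine le_antisymm hle fun g hg => ?_
  have h1 : parHom (K := ZMod 2) (symG 1) = Multiplicative.ofAdd 1 := by
    rw [parHom_symG]; decide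
  have hb : symG 1 = liftG (K := ZMod 2) 1 := rfl
  rcases lift1_comm g with h | h
  · exact h
  · exfalso
    have h2 := hle h
    rw [MonoidHom.mem_ker, map_mul, MonoidHom.mem_ker.1 hg, one_mul, ← hb, h1] at h2
    revert h2
    decide

theorem wG_mem {w : List ℕ} (h : wPar w = 0) : wG w ∈ commutator (TG (ZMod 2)) := by
  rw [commutator_eq_ker, MonoidHom.mem_ker, wG, Schur.Pc.map_ev, ← ofAdd_zero, ← h]
  clear h
  induction w with
  | nil => rfl
  | cons a w ih => rw [ev_cons, parHom_symG, ih, wPar, wPar, List.map_cons, List.sum_cons, ofAdd_add]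

/-- Evaluate a number before going on (for the kernel). -/
def forceN {α : Type} (m : ℕ) (f : ℕ → α) : α :=
  match m with
  | 0 => f 0
  | k + 1 => f (k + 1)

theorem forceN_eq {α : Type} (m : ℕ) (f : ℕ → α) : forceN m f = f m := by cases m <;> rfl

/-- The action of a table, written with the recursor (for the kernel). -/
noncomputable def actR (L : List (ℕ × ℕ)) (v : ℕ) : ℕ :=
  forceN v fun v =>
    List.rec (motive := fun _ => ℕ) v
      (fun p _ r => cond (Nat.beq (Nat.land 1 (Nat.shiftRight v p.1)) 1) (Nat.xor r p.2) r) L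

theorem beq_land_eq_testBit (v i : ℕ) :
    Nat.beq (Nat.land 1 (Nat.shiftRight v i)) 1 = v.testBit i := by
  rw [Nat.testBit, show Nat.land 1 (Nat.shiftRight v i) = 1 &&& v >>> i from rfl, Nat.one_and_eq_mod_two]
  rcases Nat.mod_two_eq_zero_or_one (v >>> i) with h | h <;> simp [h] <;> rfl

theorem actR_eq (L : List (ℕ × ℕ)) (v : ℕ) : actR L v = act L v := by
  rw [actR, forceN_eq]
  induction L with
  | nil => rfl
  | cons p L ih =>
    rw [act]
    simp only [beq_land_eq_testBit] at ih ⊢
    rw [ih]
    rfl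

/-- A word acting on a packed row vector. -/
noncomputable def actS : List ℕ → ℕ → ℕ
  | [], v => v
  | s :: w, v => forceN (actR (symRow s) v) (actS w)

theorem vec_mul_wG : ∀ (w : List ℕ) (v : ℕ),
    Matrix.vecMul (vec v) (wG w : GL D.Idx (ZMod 2)).val = vec (actS w v) := by
  intro w
  induction w with
  | nil => intro v; simp [wG, actS]
  | cons s w ih =>
    intro v
    rw [wG, ev_cons, Subgroup.coe_mul, Units.val_mul, ← Matrix.vecMul_vecMul,
      show ((symG s : TG (ZMod 2)) : GL D.Idx (ZMod 2)) = symGL s from rfl, vec_mul_sym, ← wG, ih,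
      actS, forceN_eq, actR_eq]

/-- Two words give one element. -/
noncomputable def wordEq (u v : List ℕ) : Bool :=
  (List.range 52).all fun a => Nat.beq (actS u (2 ^ a)) (actS v (2 ^ a))

theorem wG_eq {u v : List ℕ} (h : wordEq u v = true) : wG u = wG v := by
  refine Subtype.ext (Units.ext (Matrix.ext fun a b => ?_))
  have e : vec (2 ^ at' a) = Pi.single a 1 := by
    funext c
    rw [vec, Pi.single_apply, bit, Nat.testBit_two_pow]
    by_cases hc : c = a
    · simp [hc]
    · have : at' a ≠ at' c := fun e =>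
        hc (finSumFinEquiv.injective (Fin.ext e.symm))
      simp [hc, this]
  have h1 := congrFun (vec_mul_wG u (2 ^ at' a)) b
  have h2 := congrFun (vec_mul_wG v (2 ^ at' a)) b
  rw [e, Matrix.single_one_vecMul, Matrix.row] at h1 h2
  simp only [wordEq, List.all_eq_true, List.mem_range] at h
  rw [h1, h2, Nat.eq_of_beq_eq_true (h _ (at'_lt a))]

/-- The images of the base vectors under a word, packed. -/
noncomputable def wordKey (base : List ℕ) (w : List ℕ) : ℕ :=
  base.foldl (fun acc b => acc * 2 ^ 52 + actS w (2 ^ b) % 2 ^ 52) 0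

theorem mod_eq_of_vec {x y : ℕ} (h : vec x = vec y) : x % 2 ^ 52 = y % 2 ^ 52 := by
  refine Nat.eq_of_testBit_eq fun j => ?_
  rw [Nat.testBit_mod_two_pow, Nat.testBit_mod_two_pow]
  by_cases hj : j < 52
  · obtain ⟨a, rfl⟩ := at'_surj hj
    have := congrFun h a
    simp only [vec, bit] at this
    revert this
    cases x.testBit (at' a) <;> cases y.testBit (at' a) <;> simp
  · simp [hj]

theorem wordKey_congr (base : List ℕ) {u v : List ℕ} (h : wG u = wG v) :
    wordKey base u = wordKey base v := by
  have hb : ∀ b, actS u (2 ^ b) % 2 ^ 52 = actS v (2 ^ b) % 2 ^ 52 := fun b =>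
    mod_eq_of_vec (by rw [← vec_mul_wG, ← vec_mul_wG, h])
  simp only [wordKey, hb]

/-- No repetition, decided by splitting on binary digits. -/
def distinct : ℕ → List ℕ → Bool
  | 0, L => Nat.ble L.length 1
  | k + 1, L => bif Nat.ble L.length 1 then true else
      distinct k (L.filter fun x => x.testBit k) && distinct k (L.filter fun x => !x.testBit k)

theorem nodup_of_distinct : ∀ (k : ℕ) (L : List ℕ), distinct k L = true → L.Nodup := by
  have small : ∀ L : List ℕ, L.length ≤ 1 → L.Nodup := by
    intro L hL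
    match L, hL with
    | [], _ => exact List.nodup_nil
    | [a], _ => exact List.nodup_singleton a
  intro k
  induction k with
  | zero => intro L h; exact small L (Nat.le_of_ble_eq_true h)
  | succ k ih =>
    intro L h
    rw [distinct] at h
    cases hc : Nat.ble L.length 1 with
    | true => exact small L (Nat.le_of_ble_eq_true hc)
    | false =>
      rw [hc, cond_false, Bool.and_eq_true] at h
      refine (List.filter_append_perm (fun x => x.testBit k) L).nodup_iff.1 ?_
      refine List.nodup_append.2 ⟨ih _ h.1, ih _ h.2, fun a ha b hb e => ?_⟩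
      have h1 := (List.mem_filter.1 ha).2
      have h2 := (List.mem_filter.1 hb).2
      subst e
      simp [h1] at h2

/-- The generators given by words. -/
def xEl (ws : List (List ℕ)) (hws : ws.all (fun w => wPar w == 0) = true) (a : ℕ) :
    ↥(commutator (TG (ZMod 2))) :=
  ⟨wG (ws.getD a []), by
    by_cases h : a < ws.length
    · rw [List.getD_eq_getElem _ _ h]
      exact wG_mem (by simpa using List.all_eq_true.1 hws _ (List.getElem_mem h))
    · rw [List.getD_eq_default _ _ (Nat.le_of_not_lt h)]
      exact one_mem _⟩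

/-- A word in generators as a word in symbols. -/
def expand (ws : List (List ℕ)) (w : List ℕ) : List ℕ := w.flatMap fun a => ws.getD a []

theorem coe_ev_xEl (ws : List (List ℕ)) (hws : ws.all (fun w => wPar w == 0) = true) (w : List ℕ) :
    ((ev (xEl ws hws) w : ↥(commutator (TG (ZMod 2)))) : TG (ZMod 2)) = wG (expand ws w) := by
  rw [wG, expand, ev_flatMap]
  exact Schur.Pc.map_ev (xEl ws hws) (commutator (TG (ZMod 2))).subtype w

theorem xEl_rel {ws : List (List ℕ)} (hws : ws.all (fun w => wPar w == 0) = true) {u v : List ℕ}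
    (h : wordEq (expand ws u) (expand ws v) = true) : ev (xEl ws hws) u = ev (xEl ws hws) v :=
  Subtype.ext (by rw [coe_ev_xEl, coe_ev_xEl, wG_eq h])

/-- The conjugating elements carry the left tuples to the right ones. -/
noncomputable def fusOK (fus : List (List (List ℕ) × List (List ℕ))) (fusW : ℕ) (ws hs : List (List ℕ)) : Bool :=
  Nat.beq hs.length fus.length && hs.all (fun w => wPar w == 0) &&
    (fus.zip hs).all fun F => (List.range fusW).all fun s =>
      wordEq (F.2 ++ expand ws (F.1.1.getD s [])) (expand ws (F.1.2.getD s []) ++ F.2)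

theorem fus_hold {fus : List (List (List ℕ) × List (List ℕ))} {fusW : ℕ} {ws hs : List (List ℕ)}
    (hws : ws.all (fun w => wPar w == 0) = true) (h : fusOK fus fusW ws hs = true) :
    ∀ F ∈ fus, ∃ g : ↥(commutator (TG (ZMod 2))), ∀ s < fusW,
      g * ev (xEl ws hws) (F.1.getD s []) * g⁻¹ = ev (xEl ws hws) (F.2.getD s []) := by
  simp only [fusOK, Bool.and_eq_true, List.all_eq_true] at h
  obtain ⟨⟨hlen, hpar⟩, hall⟩ := h
  have hlen' := Nat.eq_of_beq_eq_true hlen
  intro F hF
  obtain ⟨i, hi, rfl⟩ := List.getElem_of_mem hF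
  have hi' : i < hs.length := hlen'.symm ▸ hi
  refine ⟨⟨wG hs[i], wG_mem (by simpa using hpar _ (List.getElem_mem hi'))⟩, fun s hs' => ?_⟩
  have hmem : (fus[i], hs[i]) ∈ fus.zip hs := by
    refine List.mem_iff_getElem.mpr ⟨i, by rw [List.length_zip]; omega, ?_⟩
    rw [List.getElem_zip]
  have e := wG_eq (hall _ hmem s (List.mem_range.2 hs'))
  rw [mul_inv_eq_iff_eq_mul]
  refine Subtype.ext ?_
  rw [Subgroup.coe_mul, Subgroup.coe_mul, coe_ev_xEl, coe_ev_xEl]
  rw [wG, wG, ev_append, ev_append] at e
  exact e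

theorem card_tail_ge {p n : ℕ} {ws : List (List ℕ)} (hws : ws.all (fun w => wPar w == 0) = true)
    (base : List ℕ) (k : ℕ)
    (h : distinct k ((Schur.Pc.normalWords p n 0).map fun w => wordKey base (expand ws w)) = true) :
    p ^ n ≤ Nat.card (tailSubgroup (xEl ws hws) n 0) := by
  classical
  let key : ↥(commutator (TG (ZMod 2))) → ℕ := fun g =>
    if hg : ∃ u, wG u = (g : TG (ZMod 2)) then wordKey base hg.choose else 0
  have hkey : ∀ w, key (ev (xEl ws hws) w) = wordKey base (expand ws w) := by
    intro w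
    have hg : ∃ u, wG u = ((ev (xEl ws hws) w : ↥(commutator (TG (ZMod 2)))) : TG (ZMod 2)) :=
      ⟨_, (coe_ev_xEl ws hws w).symm⟩
    simp only [key]
    rw [dif_pos hg]
    exact wordKey_congr base (hg.choose_spec.trans (coe_ev_xEl ws hws w))
  refine Schur.Pc.le_card_of_nodup key p n _ ?_
  simpa only [hkey] using nodup_of_distinct k _ h

theorem index_not_dvd {p n N : ℕ} (hp : p.Prime) (hNp : ¬ p ∣ N)
    (hN : Nat.card ↥(commutator (TG (ZMod 2))) = p ^ n * N)
    (H : Subgroup ↥(commutator (TG (ZMod 2)))) (hH : Nat.card H = p ^ n) : ¬ p ∣ H.index := by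
  have := Subgroup.index_mul_card H
  rw [hH, hN, Nat.mul_comm] at this
  rwa [Nat.eq_of_mul_eq_mul_left (pow_pos hp.pos _) this]

theorem actS_append : ∀ (u w : List ℕ) (v : ℕ), actS (u ++ w) v = actS w (actS u v)
  | [], w, v => rfl
  | s :: u, w, v => by simp only [List.cons_append, actS, forceN_eq, actS_append u w]

/-- The images of a vector under all normal words, sharing the common beginnings. -/
noncomputable def imgs (p : ℕ) (ws : List (List ℕ)) : ℕ → ℕ → ℕ → List ℕ
  | 0, _, v => forceN (v % 2 ^ 52) fun x => [x]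
  | d + 1, i, v => (List.range p).flatMap fun e =>
      forceN (actS (expand ws (List.replicate e i)) v) (imgs p ws d (i + 1))

theorem imgs_eq (p : ℕ) (ws : List (List ℕ)) : ∀ d i v,
    imgs p ws d i v =
      (Schur.Pc.normalWords p d i).map fun w => actS (expand ws w) v % 2 ^ 52
  | 0, i, v => by simp [imgs, Schur.Pc.normalWords, expand, actS, forceN_eq]
  | d + 1, i, v => by
    simp only [imgs, Schur.Pc.normalWords, List.map_flatMap, List.map_map, forceN_eq,
      imgs_eq p ws d]
    refine congrArg (fun f => (List.range p).flatMap f) (funext fun e => List.map_congr_left ?_)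
    intro w _
    simp only [Function.comp_apply, expand, List.flatMap_append, actS_append]

theorem wordKey_singleton (b : ℕ) (w : List ℕ) : wordKey [b] w = actS w (2 ^ b) % 2 ^ 52 := by
  simp [wordKey]

end CfsgLib.ReeF4.Mult
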