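import Cfsg.Agent.ReeF4.Collect

/-!
# Certified collection with symbolic parameters

The parameters are polynomials modulo `2` in `v j` and `θ (v j)`; words of lifts are brought to a normal
order by the commutator formula and compared by the kernel.
-/

set_option autoImplicit false
set_option maxHeartbeats 2000000

namespace CfsgLib.ReeF4.Sym

open Cfsg.Lie CfsgLib.Chevalley
open scoped MatrixGroups

/-- A monomial: variable, exponent, exponent under `θ`. -/
abbrev Mon : Type := List (ℕ × ℕ × ℕ)

/-- A polynomial: a sum of monomials. -/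
abbrev Poly : Type := List Mon

/-- Multiply by one power. -/
def mins (e : ℕ × ℕ × ℕ) : Mon → Mon
  | [] => [e]
  | f :: l =>
    if e.1 = f.1 then (e.1, e.2.1 + f.2.1, e.2.2 + f.2.2) :: l
    else if e.1 < f.1 then e :: f :: l else f :: mins e l

/-- Multiply monomials. -/
def mmul (m n : Mon) : Mon := m.foldr mins n

/-- An ordering key. -/
def flat (m : Mon) : List ℕ := m.flatMap fun e => [e.1, e.2.1, e.2.2]

/-- Add one monomial. -/
def tog (m : Mon) : Poly → Poly
  | [] => [m]
  | n :: l =>
    if m = n then l else if flat m < flat n then m :: n :: l else n :: tog m l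

/-- Add polynomials. -/
def padd (p q : Poly) : Poly := p.foldr tog q

/-- Multiply polynomials. -/
def pmul (p q : Poly) : Poly := p.foldr (fun m r => q.foldr (fun n r' => tog (mmul m n) r') r) []

/-- Powers. -/
def ppow (p : Poly) : ℕ → Poly
  | 0 => [[]]
  | n + 1 => pmul (ppow p n) p

/-- `θ` of a monomial, when it is a monomial. -/
def thMon : Mon → Option Mon
  | [] => some []
  | e :: l => if e.2.2 % 2 = 0 then (thMon l).map ((e.1, e.2.2 / 2, e.2.1) :: ·) else none

/-- `θ` of a polynomial. -/
def thP : Poly → Option Poly
  | [] => some []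
  | m :: l =>
    match thMon m, thP l with
    | some a, some b => some (tog a b)
    | _, _ => none

variable {K : Type*} [Field K] [CharP K 2] (T : Tw K) (v : ℕ → K)

/-- The value of a monomial. -/
def mev (m : Mon) : K := (m.map fun e => v e.1 ^ e.2.1 * T.θ (v e.1) ^ e.2.2).prod

/-- The value of a polynomial. -/
def pev (p : Poly) : K := (p.map (mev T v)).sum

theorem mev_mins (e : ℕ × ℕ × ℕ) (m : Mon) :
    mev T v (mins e m) = v e.1 ^ e.2.1 * T.θ (v e.1) ^ e.2.2 * mev T v m := by
  induction m with
  | nil => simp [mins, mev]
  | cons f l ih =>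
    rw [mins]
    split_ifs with h1 h2
    · simp only [mev, List.map_cons, List.prod_cons, h1, pow_add]
      ring
    · simp [mev]
    · simp only [mev, List.map_cons, List.prod_cons] at ih ⊢
      rw [ih]
      ring

theorem mev_mmul (m n : Mon) : mev T v (mmul m n) = mev T v m * mev T v n := by
  induction m with
  | nil => simp [mmul, mev]
  | cons e l ih =>
    rw [mmul, List.foldr_cons, mev_mins]
    rw [mmul] at ih
    rw [ih]
    simp only [mev, List.map_cons, List.prod_cons]
    ring

theorem pev_tog (m : Mon) (p : Poly) : pev T v (tog m p) = mev T v m + pev T v p := by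
  induction p with
  | nil => simp [tog, pev]
  | cons n l ih =>
    rw [tog]
    split_ifs with h1 h2
    · subst h1
      simp only [pev, List.map_cons, List.sum_cons]
      rw [← add_assoc, CharTwo.add_self_eq_zero, zero_add]
    · simp [pev]
    · simp only [pev, List.map_cons, List.sum_cons] at ih ⊢
      rw [ih]
      ring

theorem pev_padd (p q : Poly) : pev T v (padd p q) = pev T v p + pev T v q := by
  induction p with
  | nil => simp [padd, pev]
  | cons m l ih =>
    rw [padd, List.foldr_cons, pev_tog]
    rw [padd] at ih
    rw [ih, ← add_assoc]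
    simp [pev]

theorem pev_pmul (p q : Poly) : pev T v (pmul p q) = pev T v p * pev T v q := by
  have inner : ∀ (m : Mon) (r : Poly) (q : Poly),
      pev T v (q.foldr (fun n r' => tog (mmul m n) r') r) = mev T v m * pev T v q + pev T v r := by
    intro m r q
    induction q with
    | nil => simp [pev]
    | cons n l ih =>
      rw [List.foldr_cons, pev_tog, ih, mev_mmul]
      simp only [pev, List.map_cons, List.sum_cons]
      ring
  induction p with
  | nil => simp [pmul, pev]
  | cons m l ih =>
    rw [pmul, List.foldr_cons, inner]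
    rw [pmul] at ih
    rw [ih]
    simp only [pev, List.map_cons, List.sum_cons]
    ring

theorem pev_ppow (p : Poly) : ∀ n, pev T v (ppow p n) = pev T v p ^ n
  | 0 => by simp [ppow, pev, mev]
  | n + 1 => by rw [ppow, pev_pmul, pev_ppow p n, pow_succ]

theorem mev_thMon : ∀ {m m' : Mon}, thMon m = some m' → T.θ (mev T v m) = mev T v m'
  | [], m', h => by
    obtain rfl := Option.some.inj h
    simp [mev]
  | e :: l, m', h => by
    rw [thMon] at h
    split_ifs at h with he
    obtain ⟨l', hl, rfl⟩ := Option.map_eq_some_iff.1 h
    obtain ⟨c, hc⟩ := Nat.dvd_of_mod_eq_zero he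
    have key : T.θ (T.θ (v e.1)) ^ e.2.2 = v e.1 ^ (e.2.2 / 2) := by
      rw [hc, Nat.mul_div_cancel_left _ (by norm_num), pow_mul, T.θ_θ_sq]
    have ih := mev_thMon hl
    simp only [mev, List.map_cons, List.prod_cons, map_mul, map_pow] at ih ⊢
    rw [key, ih]
    ring

theorem pev_thP : ∀ {p p' : Poly}, thP p = some p' → T.θ (pev T v p) = pev T v p'
  | [], p', h => by
    obtain rfl := Option.some.inj h
    simp [pev]
  | m :: l, p', h => by
    rw [thP] at h
    split at h
    · next a b ha hb =>
      obtain rfl := Option.some.inj h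
      rw [pev_tog, ← mev_thMon T v ha, ← pev_thP hb, ← map_add]
      simp [pev]
    · exact absurd h (by simp)

/-! ### Words -/

/-- A word of root elements. -/
abbrev Wd : Type := List (ℕ × Poly)

/-- The value of a word. -/
def wevP (w : Wd) : GL D.Idx K := (w.map fun e => x K (rt e.1) (pev T v e.2)).prod

/-- The commutator of two root elements. -/
def rhsP (q p : ℕ) (t u : Poly) : Wd :=
  (D.commTerms (rt q) (rt p)).filterMap fun c =>
    if c.2.1 % 2 = 0 then none else some (c.1, pmul (ppow t c.2.2.1) (ppow u c.2.2.2))

/-- One step of the collection. -/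
def stepP : Wd → Option Wd
  | [] => none
  | (p, s) :: l =>
    if s = [] then some l
    else
      match l with
      | [] => none
      | (q, t) :: l' =>
        if okR p && okR q && decide (p = q) then some ((p, padd s t) :: l')
        else if okR p && okR q && decide (nkey q < nkey p) then
          some ((q, t) :: (p, s) :: rhsP q p t s ++ l')
        else (stepP ((q, t) :: l')).map ((p, s) :: ·)

/-- The collection. -/
def nfP : ℕ → Wd → Wd
  | 0, w => w
  | n + 1, w =>
    match stepP w with
    | none => w
    | some w' => nfP n w'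

theorem wevP_cons (e : ℕ × Poly) (w : Wd) :
    wevP T v (e :: w) = x K (rt e.1) (pev T v e.2) * wevP T v w := by
  simp [wevP]

theorem wevP_append (w w' : Wd) : wevP T v (w ++ w') = wevP T v w * wevP T v w' := by
  simp [wevP]

theorem wevP_rhsP {q p : ℕ} (hq : okR q = true) (hp : okR p = true) (t u : Poly) :
    wevP T v (rhsP q p t u) = commRhs hW.good (rt q) (rt p) (pev T v t) (pev T v u) := by
  have hlt : ∀ c ∈ D.commTerms (rt q) (rt p), c.1 < 48 := fun c hc => by
    have h := comm_pos (rt q) (rt p)
    simp only [chkPos, isPos_iff.2 (okR_pos hq).1, isPos_iff.2 (okR_pos hp).1, Bool.not_true,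
      Bool.false_or, List.all_eq_true, Bool.and_eq_true, decide_eq_true_eq] at h
    have h48 : D.nroots = 48 := by decide +kernel
    have := (h c hc).1.1
    omega
  rw [commRhs, rhsP]
  generalize D.commTerms (rt q) (rt p) = L at hlt ⊢
  induction L with
  | nil => simp [wevP, wordGL]
  | cons c L ih =>
    have ih' := ih fun a ha => hlt a (List.mem_cons_of_mem _ ha)
    rw [List.map_cons, List.filterMap_cons, wgl_cons, if_pos (hlt c List.mem_cons_self), ← ih']
    by_cases he : c.2.1 % 2 = 0
    · have : (c.2.1 : K) = 0 := (CharP.intCast_eq_zero_iff K 2 _).2 (Int.dvd_of_emod_eq_zero he)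
      simp [he, this, x_zero]
    · have : (c.2.1 : K) = 1 := by
        have := (CharP.intCast_eq_intCast K 2).2 (show c.2.1 ≡ 1 [ZMOD 2] by
          rw [Int.ModEq]; omega)
        simpa using this
      simp [he, this, CharTwo.neg_eq, wevP_cons, pev_pmul, pev_ppow]

theorem wevP_stepP : ∀ {w w' : Wd}, stepP w = some w' → wevP T v w' = wevP T v w
  | [], _, h => by simp [stepP] at h
  | [(p, s)], w', h => by
    simp only [stepP] at h
    split_ifs at h with hs
    obtain rfl := Option.some.inj h
    subst hs
    simp [wevP, pev, x_zero]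
  | (p, s) :: (q, t) :: l', w', h => by
    simp only [stepP] at h
    split_ifs at h with hs h1 h2
    · obtain rfl := Option.some.inj h
      subst hs
      rw [wevP_cons T v (p, [])]
      simp [pev, x_zero]
    · simp only [Bool.and_eq_true, decide_eq_true_eq] at h1
      obtain ⟨-, rfl⟩ := h1
      obtain rfl := Option.some.inj h
      rw [wevP_cons, wevP_cons, wevP_cons, ← mul_assoc, x_mul, pev_padd]
    · simp only [Bool.and_eq_true, decide_eq_true_eq] at h2
      obtain ⟨⟨hp, hq⟩, hk⟩ := h2
      obtain rfl := Option.some.inj h
      have hne : rt p ≠ rt q := fun e => by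
        have := congrArg (fun r : Root D => (r : ℕ)) e
        simp only [(okR_pos hp).2, (okR_pos hq).2] at this
        subst this; omega
      rw [wevP_append, wevP_cons, wevP_cons, wevP_rhsP T v hq hp, wevP_cons T v (p, s),
        wevP_cons T v (q, t), ← mul_assoc (x K (rt p) _) (x K (rt q) _), x, x,
        X_comm hW.toGoodComm (rt q) (rt p) hne (hW.good.rev_ne_of_key (b := false)
          (by simpa [key] using (okR_pos hq).1) (by simpa [key] using (okR_pos hp).1))
          (pev T v t) (pev T v s)]
      group
    · obtain ⟨u, hu, rfl⟩ := Option.map_eq_some_iff.1 h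
      rw [wevP_cons, wevP_stepP hu, wevP_cons T v (p, s) ((q, t) :: l')]

theorem wevP_nfP : ∀ (n : ℕ) (w : Wd), wevP T v (nfP n w) = wevP T v w
  | 0, _ => rfl
  | n + 1, w => by
    rw [nfP]
    split
    · rfl
    · next w' h => rw [wevP_nfP n w', wevP_stepP T v h]

/-! ### Lifts -/

/-- A product of lifts. -/
abbrev LW : Type := List (Fin 12 × Poly)

/-- The value of a product of lifts. -/
def lev (L : LW) : GL D.Idx K := (L.map fun e => T.lift e.1 (pev T v e.2)).prod

/-- The word of a lift. -/
def liftW (i : Fin 12) (P : Poly) : Option Wd :=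
  (thP P).map fun Q => ((la i : ℕ), Q) :: ((lb i : ℕ), P) ::
    (extra i).map fun r : Root D => ((r : ℕ), pmul Q P)

/-- The word of a product of lifts. -/
def liftsW : LW → Option Wd
  | [] => some []
  | e :: L =>
    match liftW e.1 e.2, liftsW L with
    | some a, some b => some (a ++ b)
    | _, _ => none

/-- Two products of lifts with the same normal form. -/
def chkLW (L R : LW) : Bool :=
  match liftsW L, liftsW R with
  | some a, some b => decide (nfP 40000 a = nfP 40000 b)
  | _, _ => false

theorem rt_val (r : Root D) : rt (r : ℕ) = r := by rw [rt, dif_pos r.isLt]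

theorem wevP_liftW {i : Fin 12} {P : Poly} {w : Wd} (h : liftW i P = some w) :
    wevP T v w = T.lift i (pev T v P) := by
  obtain ⟨Q, hQ, rfl⟩ := Option.map_eq_some_iff.1 h
  rw [Tw.lift, wevP_cons, wevP_cons, rt_val, rt_val, pev_thP T v hQ, wevP, List.map_map, mul_assoc]
  congr 3
  exact List.map_congr_left fun r _ => by simp [rt_val, pev_pmul]

theorem wevP_liftsW : ∀ {L : LW} {w : Wd}, liftsW L = some w → wevP T v w = lev T v L
  | [], w, h => by
    obtain rfl := Option.some.inj h
    simp [wevP, lev]
  | e :: L, w, h => by
    rw [liftsW] at h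
    split at h
    · next a b ha hb =>
      obtain rfl := Option.some.inj h
      rw [wevP_append, wevP_liftW T v ha, wevP_liftsW hb]
      simp [lev]
    · exact absurd h (by simp)

theorem lev_eq_of_chk {L R : LW} (h : chkLW L R = true) : lev T v L = lev T v R := by
  unfold chkLW at h
  split at h
  · next a b ha hb =>
    rw [decide_eq_true_eq] at h
    rw [← wevP_liftsW T v ha, ← wevP_liftsW T v hb, ← wevP_nfP T v 40000 a, h, wevP_nfP]
  · exact absurd h (by simp)

theorem lev_append (L R : LW) : lev T v (L ++ R) = lev T v L * lev T v R := by simp [lev]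

theorem lev_cons (e : Fin 12 × Poly) (L : LW) :
    lev T v (e :: L) = T.lift e.1 (pev T v e.2) * lev T v L := by simp [lev]

end CfsgLib.ReeF4.Sym
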