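import Cfsg.Agent.ReeF4.SymCollect

/-!
# Reduction of involutions of U¹: the checked plans

For each leading slot a list of steps: either the square forces a parameter to vanish, or a conjugation by
a lift kills one, or the square cannot be trivial.
-/

set_option autoImplicit false
set_option maxHeartbeats 2000000

namespace CfsgLib.ReeF4.Sym

open Cfsg.Lie CfsgLib.Chevalley

/-- A step of a reduction. -/
inductive Step
  /-- the parameter at `j` is the coefficient at `o` of the square -/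
  | zero (j o : Fin 12) (sq : LW)
  /-- conjugating by the lift at `k` kills `j` -/
  | kill (j k : Fin 12) (frob : Bool) (new : LW)
  /-- the coefficient at `o` of the square is one -/
  | contra (o : Fin 12) (sq : LW)

/-- The variable of a slot. -/
def varP (j : ℕ) : Poly := [[(j, 1, 0)]]

/-- A positive power of a variable. -/
def isPow (j : ℕ) : Poly → Bool
  | [[(i, a, b)]] => decide (i = j) && decide (a + b ≠ 0)
  | _ => false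

/-- The element of a state. -/
def stLW (i : Fin 12) (S : List (Fin 12)) : LW := (i, [[]]) :: S.map fun (j : Fin 12) => (j, varP (j : ℕ))

/-- The slots increase. -/
def sortedLW : LW → Bool
  | [] => true
  | [_] => true
  | a :: b :: l => decide (a.1 < b.1) && sortedLW (b :: l)

/-- The added term of a kill. -/
def killP : Bool → Poly
  | false => [[(12, 1, 0)]]
  | true => [[(12, 0, 2)]]

/-- The check of a plan, with the slots left. -/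
def chkPlan (i : Fin 12) : List (Fin 12) → List Step → Option (List (Fin 12)) → Bool
  | S, [], fin => decide (fin = some S)
  | S, .contra o sq :: _, fin =>
    chkLW (stLW i S ++ stLW i S) sq && sortedLW sq && decide ((o, [[]]) ∈ sq) && decide (fin = none)
  | S, .zero j o sq :: r, fin =>
    chkLW (stLW i S ++ stLW i S) sq && sortedLW sq && sq.any (fun e => decide (e.1 = o) && isPow (j : ℕ) e.2) &&
      decide (j ∈ S) && chkPlan i (S.erase j) r fin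
  | S, .kill j k fr new :: r, fin =>
    chkLW ((k, [[(12, 1, 0)]]) :: stLW i S) (new ++ [(k, [[(12, 1, 0)]])]) && sortedLW new &&
      decide (new.head? = some (i, [[]])) &&
      new.tail.all (fun e => decide (e.1 ∈ S)) &&
      decide ((j, padd (varP (j : ℕ)) (killP fr)) ∈ new) &&
      chkPlan i (S.erase j) r fin

/-- The slots after `i`. -/
def above (i : Fin 12) : List (Fin 12) := (List.finRange 12).filter fun j => decide (i < j)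

/-- The reduction for the leading slot 0. -/
def plan0 : List Step :=
  [.zero 1 2
    [(2, [[(1, 1, 0)]]),
      (3, [[(1, 1, 2)]]),
      (4, [[(1, 0, 2), (2, 1, 0)], [(1, 1, 2)], [(3, 1, 0)]]),
      (5, [[(1, 1, 0), (3, 1, 0)], [(1, 1, 0), (4, 1, 0)], [(1, 1, 2), (2, 1, 0)], [(1, 2, 2)], [(2, 1, 0), (3, 1, 0)], [(3, 0, 2)]]),
      (6, [[(1, 1, 0), (2, 0, 2)], [(3, 1, 0)]]),
      (7, [[(2, 1, 2)], [(3, 1, 0)], [(4, 1, 0)], [(6, 1, 0)]]),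
      (8, [[(1, 1, 0), (3, 1, 0)], [(1, 1, 0), (4, 1, 0)], [(1, 1, 0), (6, 1, 0)], [(1, 1, 0), (7, 1, 0)], [(1, 2, 2)], [(2, 1, 0), (3, 1, 0)], [(2, 1, 0), (6, 1, 0)], [(3, 0, 2)], [(4, 0, 2)], [(5, 1, 0)]]),
      (9, [[(1, 0, 2), (3, 0, 2)], [(1, 0, 2), (4, 0, 2)], [(1, 0, 2), (5, 1, 0)], [(1, 0, 2), (8, 1, 0)], [(1, 1, 0), (2, 0, 2), (4, 1, 0)], [(1, 2, 4)], [(2, 0, 2), (3, 0, 2)], [(2, 0, 2), (5, 1, 0)], [(3, 1, 0), (4, 1, 0)], [(3, 1, 0), (6, 1, 0)], [(3, 1, 0), (7, 1, 0)], [(4, 1, 0), (6, 1, 0)], [(5, 0, 2)]]),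
      (10, [[(1, 0, 2), (2, 1, 0), (4, 0, 2)], [(1, 1, 0), (2, 0, 2), (3, 0, 2)], [(1, 1, 0), (2, 1, 2), (3, 1, 0)], [(1, 1, 0), (3, 1, 0), (6, 1, 0)], [(1, 1, 0), (3, 1, 0), (7, 1, 0)], [(1, 1, 0), (5, 0, 2)], [(1, 1, 0), (9, 1, 0)], [(1, 1, 2), (4, 0, 2)], [(1, 1, 2), (5, 1, 0)], [(1, 1, 2), (8, 1, 0)], [(1, 2, 0), (2, 0, 2), (3, 1, 0)], [(1, 2, 0), (2, 0, 2), (4, 1, 0)], [(1, 2, 2), (2, 1, 2)], [(1, 2, 2), (3, 1, 0)], [(1, 2, 2), (4, 1, 0)], [(1, 2, 2), (6, 1, 0)], [(1, 2, 2), (7, 1, 0)], [(1, 3, 2), (2, 0, 2)], [(2, 1, 0), (3, 1, 0), (6, 1, 0)], [(2, 1, 0), (5, 0, 2)], [(2, 1, 2), (3, 0, 2)], [(3, 0, 2), (4, 1, 0)], [(3, 0, 2), (6, 1, 0)], [(3, 0, 2), (7, 1, 0)], [(3, 1, 0), (4, 0, 2)], [(3, 1, 0), (5, 1, 0)], [(3, 1, 0), (8, 1, 0)], [(3, 1, 2)], [(4, 1, 2)], [(5, 1, 0), (6, 1, 0)]]),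
      (11, [[(1, 0, 2), (2, 1, 0), (3, 0, 2)], [(1, 0, 2), (2, 1, 0), (4, 0, 2)], [(1, 0, 2), (2, 1, 0), (5, 1, 0)], [(1, 0, 2), (2, 1, 0), (8, 1, 0)], [(1, 1, 0), (2, 0, 2), (3, 0, 2)], [(1, 1, 0), (3, 1, 0), (4, 1, 0)], [(1, 1, 0), (3, 2, 0)], [(1, 1, 0), (4, 1, 0), (6, 1, 0)], [(1, 1, 0), (4, 1, 0), (7, 1, 0)], [(1, 1, 0), (5, 0, 2)], [(1, 1, 0), (8, 0, 2)], [(1, 1, 2), (3, 0, 2)], [(1, 1, 2), (4, 0, 2)], [(1, 1, 2), (6, 0, 2)], [(1, 1, 2), (7, 0, 2)], [(1, 2, 2), (3, 1, 0)], [(1, 2, 4), (2, 1, 0)], [(2, 1, 0), (3, 2, 0)], [(2, 1, 0), (4, 1, 0), (6, 1, 0)], [(2, 1, 0), (5, 0, 2)], [(2, 1, 0), (9, 1, 0)], [(2, 1, 2), (5, 1, 0)], [(3, 1, 0), (4, 0, 2)], [(3, 1, 0), (6, 0, 2)], [(3, 1, 0), (7, 0, 2)], [(3, 1, 2)], [(4, 1, 0), (5, 1, 0)], [(4, 1, 0), (8, 1, 0)], [(5, 1, 0), (6, 1, 0)], [(5, 1, 0), (7, 1, 0)], [(6, 1, 2)], [(10, 1, 0)]])],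
   .zero 3 4
    [(4, [[(3, 1, 0)]]),
      (5, [[(2, 1, 0), (3, 1, 0)], [(3, 0, 2)]]),
      (6, [[(3, 1, 0)]]),
      (7, [[(2, 1, 2)], [(3, 1, 0)], [(4, 1, 0)], [(6, 1, 0)]]),
      (8, [[(2, 1, 0), (3, 1, 0)], [(2, 1, 0), (6, 1, 0)], [(3, 0, 2)], [(4, 0, 2)], [(5, 1, 0)]]),
      (9, [[(2, 0, 2), (3, 0, 2)], [(2, 0, 2), (5, 1, 0)], [(3, 1, 0), (4, 1, 0)], [(3, 1, 0), (6, 1, 0)], [(3, 1, 0), (7, 1, 0)], [(4, 1, 0), (6, 1, 0)], [(5, 0, 2)]]),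
      (10, [[(2, 1, 0), (3, 1, 0), (6, 1, 0)], [(2, 1, 0), (5, 0, 2)], [(2, 1, 2), (3, 0, 2)], [(3, 0, 2), (4, 1, 0)], [(3, 0, 2), (6, 1, 0)], [(3, 0, 2), (7, 1, 0)], [(3, 1, 0), (4, 0, 2)], [(3, 1, 0), (5, 1, 0)], [(3, 1, 0), (8, 1, 0)], [(3, 1, 2)], [(4, 1, 2)], [(5, 1, 0), (6, 1, 0)]]),
      (11, [[(2, 1, 0), (3, 2, 0)], [(2, 1, 0), (4, 1, 0), (6, 1, 0)], [(2, 1, 0), (5, 0, 2)], [(2, 1, 0), (9, 1, 0)], [(2, 1, 2), (5, 1, 0)], [(3, 1, 0), (4, 0, 2)], [(3, 1, 0), (6, 0, 2)], [(3, 1, 0), (7, 0, 2)], [(3, 1, 2)], [(4, 1, 0), (5, 1, 0)], [(4, 1, 0), (8, 1, 0)], [(5, 1, 0), (6, 1, 0)], [(5, 1, 0), (7, 1, 0)], [(6, 1, 2)], [(10, 1, 0)]])],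
   .kill 2 1 false
    [(0, [[]]),
      (2, [[(2, 1, 0)], [(12, 1, 0)]]),
      (4, [[(2, 1, 0), (12, 0, 2)], [(4, 1, 0)], [(12, 1, 2)]]),
      (5, [[(4, 1, 0), (12, 1, 0)], [(5, 1, 0)], [(12, 2, 2)]]),
      (6, [[(2, 0, 2), (12, 1, 0)], [(6, 1, 0)]]),
      (7, [[(2, 0, 2), (12, 1, 0)], [(7, 1, 0)]]),
      (8, [[(2, 1, 2), (12, 1, 0)], [(7, 1, 0), (12, 1, 0)], [(8, 1, 0)], [(12, 2, 2)]]),
      (9, [[(2, 0, 2), (4, 1, 0), (12, 1, 0)], [(2, 0, 2), (12, 2, 2)], [(2, 1, 2), (12, 1, 2)], [(7, 1, 0), (12, 1, 2)], [(8, 1, 0), (12, 0, 2)], [(9, 1, 0)], [(12, 2, 4)]]),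
      (10, [[(2, 0, 2), (4, 1, 0), (12, 2, 0)], [(2, 0, 2), (5, 1, 0), (12, 1, 0)], [(2, 0, 2), (12, 3, 2)], [(2, 1, 0), (4, 0, 2), (12, 0, 2)], [(2, 1, 0), (12, 2, 4)], [(4, 0, 2), (12, 1, 2)], [(7, 1, 0), (12, 2, 2)], [(9, 1, 0), (12, 1, 0)], [(10, 1, 0)], [(12, 3, 4)]]),
      (11, [[(2, 0, 2), (4, 1, 0), (12, 2, 0)], [(2, 0, 2), (5, 1, 0), (12, 1, 0)], [(2, 0, 2), (6, 0, 2), (12, 1, 0)], [(2, 0, 2), (12, 3, 2)], [(2, 1, 2), (4, 1, 0), (12, 1, 0)], [(2, 1, 2), (12, 2, 2)], [(4, 1, 0), (12, 2, 2)], [(8, 0, 2), (12, 1, 0)], [(11, 1, 0)]])],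
   .kill 4 3 false
    [(0, [[]]),
      (4, [[(4, 1, 0)], [(12, 1, 0)]]),
      (5, [[(5, 1, 0)], [(12, 0, 2)]]),
      (6, [[(6, 1, 0)], [(12, 1, 0)]]),
      (7, [[(7, 1, 0)], [(12, 1, 0)]]),
      (8, [[(8, 1, 0)], [(12, 0, 2)]]),
      (9, [[(4, 1, 0), (12, 1, 0)], [(7, 1, 0), (12, 1, 0)], [(9, 1, 0)]]),
      (10, [[(4, 0, 2), (12, 1, 0)], [(5, 1, 0), (12, 1, 0)], [(7, 1, 0), (12, 0, 2)], [(8, 1, 0), (12, 1, 0)], [(10, 1, 0)], [(12, 1, 2)]]),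
      (11, [[(4, 1, 0), (12, 0, 2)], [(5, 1, 0), (12, 1, 0)], [(6, 0, 2), (12, 1, 0)], [(7, 0, 2), (12, 1, 0)], [(11, 1, 0)], [(12, 1, 2)]])],
   .zero 6 7
    [(7, [[(6, 1, 0)]]),
      (8, [[(5, 1, 0)]]),
      (9, [[(5, 0, 2)]]),
      (10, [[(5, 1, 0), (6, 1, 0)]]),
      (11, [[(5, 1, 0), (6, 1, 0)], [(5, 1, 0), (7, 1, 0)], [(6, 1, 2)], [(10, 1, 0)]])],
   .zero 5 8
    [(8, [[(5, 1, 0)]]),
      (9, [[(5, 0, 2)]]),
      (11, [[(5, 1, 0), (7, 1, 0)], [(10, 1, 0)]])],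
   .zero 10 11
    [(11, [[(10, 1, 0)]])],
   .kill 7 4 false
    [(0, [[]]),
      (7, [[(7, 1, 0)], [(12, 1, 0)]]),
      (8, [[(8, 1, 0)], [(12, 0, 2)]]),
      (9, [[(9, 1, 0)]]),
      (11, [[(8, 1, 0), (12, 1, 0)], [(11, 1, 0)]])],
   .kill 8 5 false
    [(0, [[]]),
      (8, [[(8, 1, 0)], [(12, 1, 0)]]),
      (9, [[(9, 1, 0)], [(12, 0, 2)]]),
      (11, [[(11, 1, 0)]])],
   .kill 11 10 false
    [(0, [[]]),
      (9, [[(9, 1, 0)]]),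
      (11, [[(11, 1, 0)], [(12, 1, 0)]])]]

/-- The reduction for the leading slot 1. -/
def plan1 : List Step :=
  [.contra 3
    [(3, [[]]),
      (4, [[(2, 1, 0)]]),
      (5, [[(2, 1, 0)], [(2, 1, 0), (3, 1, 0)], [(4, 1, 0)]]),
      (6, [[(2, 0, 2)]]),
      (7, [[(2, 1, 2)]]),
      (8, [[(2, 1, 0), (6, 1, 0)], [(7, 1, 0)]]),
      (9, [[(2, 0, 2), (4, 1, 0)], [(2, 0, 2), (5, 1, 0)], [(3, 1, 0), (7, 1, 0)], [(4, 1, 0), (6, 1, 0)], [(8, 1, 0)]]),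
      (10, [[(2, 0, 2), (4, 1, 0)], [(2, 1, 0), (3, 1, 0), (6, 1, 0)], [(2, 1, 0), (4, 0, 2)], [(2, 1, 0), (5, 0, 2)], [(2, 1, 2)], [(2, 1, 2), (3, 0, 2)], [(2, 1, 2), (3, 1, 0)], [(3, 0, 2), (7, 1, 0)], [(3, 1, 0), (7, 1, 0)], [(3, 1, 0), (8, 1, 0)], [(4, 1, 2)], [(5, 1, 0), (6, 1, 0)], [(7, 1, 0)], [(8, 1, 0)], [(9, 1, 0)]]),
      (11, [[(2, 1, 0), (4, 1, 0), (6, 1, 0)], [(2, 1, 0), (8, 1, 0)], [(2, 1, 0), (9, 1, 0)], [(2, 1, 2), (5, 1, 0)], [(3, 1, 0), (7, 0, 2)], [(4, 1, 0), (7, 1, 0)], [(4, 1, 0), (8, 1, 0)], [(5, 1, 0), (7, 1, 0)], [(6, 1, 2)], [(7, 0, 2)], [(8, 0, 2)]])]]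

/-- The reduction for the leading slot 2. -/
def plan2 : List Step :=
  [.contra 7
    [(5, [[(3, 1, 0)]]),
      (7, [[]]),
      (8, [[(6, 1, 0)]]),
      (9, [[(3, 1, 0), (7, 1, 0)], [(4, 1, 0), (6, 1, 0)], [(5, 1, 0)]]),
      (10, [[(3, 0, 2)], [(3, 0, 2), (7, 1, 0)], [(3, 1, 0), (6, 1, 0)], [(3, 1, 0), (8, 1, 0)], [(4, 1, 2)], [(5, 0, 2)], [(5, 1, 0), (6, 1, 0)]]),
      (11, [[(3, 1, 0), (7, 0, 2)], [(4, 1, 0), (6, 1, 0)], [(4, 1, 0), (8, 1, 0)], [(5, 1, 0)], [(5, 1, 0), (7, 1, 0)], [(6, 1, 2)], [(9, 1, 0)]])]]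

/-- The reduction for the leading slot 3. -/
def plan3 : List Step :=
  [.kill 4 0 false
    [(3, [[]]),
      (4, [[(4, 1, 0)], [(12, 1, 0)]]),
      (5, [[(5, 1, 0)], [(12, 1, 0)]]),
      (6, [[(6, 1, 0)], [(12, 0, 2)]]),
      (7, [[(4, 1, 0), (12, 0, 2)], [(6, 1, 0), (12, 1, 0)], [(7, 1, 0)], [(12, 1, 2)]]),
      (8, [[(4, 0, 2), (12, 1, 0)], [(5, 1, 0), (12, 0, 2)], [(8, 1, 0)], [(12, 1, 2)]]),
      (9, [[(4, 1, 0), (12, 0, 2)], [(5, 0, 2), (12, 1, 0)], [(9, 1, 0)], [(12, 1, 2)]]),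
      (10, [[(4, 0, 2), (12, 1, 0)], [(5, 1, 0), (12, 0, 2)], [(10, 1, 0)], [(12, 1, 2)]]),
      (11, [[(4, 1, 0), (5, 1, 0), (12, 0, 2)], [(4, 1, 0), (12, 1, 2)], [(4, 1, 2), (12, 1, 0)], [(5, 1, 0), (12, 1, 2)], [(6, 0, 2), (12, 0, 2)], [(10, 1, 0), (12, 1, 0)], [(11, 1, 0)]])],
   .zero 7 9
    [(9, [[(7, 1, 0)]]),
      (10, [[(5, 1, 0), (6, 1, 0)], [(7, 1, 0)], [(8, 1, 0)]]),
      (11, [[(5, 1, 0), (7, 1, 0)], [(6, 1, 2)], [(7, 0, 2)]])],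
   .zero 6 11
    [(10, [[(5, 1, 0), (6, 1, 0)], [(8, 1, 0)]]),
      (11, [[(6, 1, 2)]])],
   .zero 8 10
    [(10, [[(8, 1, 0)]])],
   .kill 5 2 false
    [(3, [[]]),
      (5, [[(5, 1, 0)], [(12, 1, 0)]]),
      (9, [[(5, 1, 0), (12, 0, 2)], [(9, 1, 0)], [(12, 1, 2)]]),
      (10, [[(5, 0, 2), (12, 1, 0)], [(10, 1, 0)]]),
      (11, [[(9, 1, 0), (12, 1, 0)], [(11, 1, 0)], [(12, 2, 2)]])],
   .kill 9 7 false
    [(3, [[]]),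
      (9, [[(9, 1, 0)], [(12, 1, 0)]]),
      (10, [[(10, 1, 0)], [(12, 1, 0)]]),
      (11, [[(11, 1, 0)], [(12, 0, 2)]])],
   .kill 10 8 false
    [(3, [[]]),
      (10, [[(10, 1, 0)], [(12, 1, 0)]]),
      (11, [[(11, 1, 0)]])]]

/-- The reduction for the leading slot 4. -/
def plan4 : List Step :=
  [.zero 6 9
    [(9, [[(6, 1, 0)]]),
      (10, [[], [(5, 1, 0), (6, 1, 0)]]),
      (11, [[(5, 1, 0), (7, 1, 0)], [(6, 1, 2)], [(8, 1, 0)]])],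
   .contra 10
    [(10, [[]]),
      (11, [[(5, 1, 0), (7, 1, 0)], [(8, 1, 0)]])]]

/-- The reduction for the leading slot 5. -/
def plan5 : List Step :=
  [.zero 6 10
    [(10, [[(6, 1, 0)]]),
      (11, [[(6, 1, 2)], [(7, 1, 0)]])],
   .zero 7 11
    [(11, [[(7, 1, 0)]])],
   .kill 8 0 true
    [(5, [[]]),
      (8, [[(8, 1, 0)], [(12, 0, 2)]]),
      (9, [[(9, 1, 0)], [(12, 1, 0)]]),
      (10, [[(10, 1, 0)]]),
      (11, [[(10, 1, 0), (12, 1, 0)], [(11, 1, 0)]])],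
   .kill 9 2 true
    [(5, [[]]),
      (9, [[(9, 1, 0)], [(12, 0, 2)]]),
      (10, [[(10, 1, 0)], [(12, 1, 0)]]),
      (11, [[(9, 1, 0), (12, 1, 0)], [(11, 1, 0)]])],
   .kill 10 6 false
    [(5, [[]]),
      (10, [[(10, 1, 0)], [(12, 1, 0)]]),
      (11, [[(11, 1, 0)]])],
   .kill 11 7 false
    [(5, [[]]),
      (11, [[(11, 1, 0)], [(12, 1, 0)]])]]

/-- The reduction for the leading slot 6. -/
def plan6 : List Step :=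
  [.contra 11
    [(11, [[]])]]

/-- The reduction for the leading slot 7. -/
def plan7 : List Step :=
  [.kill 8 1 false
    [(7, [[]]),
      (8, [[(8, 1, 0)], [(12, 1, 0)]]),
      (9, [[(8, 1, 0), (12, 0, 2)], [(9, 1, 0)], [(12, 1, 2)]]),
      (10, [[(9, 1, 0), (12, 1, 0)], [(10, 1, 0)], [(12, 2, 2)]]),
      (11, [[(8, 0, 2), (12, 1, 0)], [(11, 1, 0)]])],
   .kill 9 3 false
    [(7, [[]]),
      (9, [[(9, 1, 0)], [(12, 1, 0)]]),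
      (10, [[(10, 1, 0)], [(12, 0, 2)]]),
      (11, [[(11, 1, 0)], [(12, 1, 0)]])],
   .kill 11 5 false
    [(7, [[]]),
      (10, [[(10, 1, 0)]]),
      (11, [[(11, 1, 0)], [(12, 1, 0)]])]]

/-- The reduction for the leading slot 8. -/
def plan8 : List Step :=
  [.kill 9 1 true
    [(8, [[]]),
      (9, [[(9, 1, 0)], [(12, 0, 2)]]),
      (10, [[(9, 1, 0), (12, 1, 0)], [(10, 1, 0)]]),
      (11, [[(11, 1, 0)], [(12, 1, 0)]])],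
   .kill 10 3 false
    [(8, [[]]),
      (10, [[(10, 1, 0)], [(12, 1, 0)]]),
      (11, [[(11, 1, 0)]])],
   .kill 11 4 false
    [(8, [[]]),
      (11, [[(11, 1, 0)], [(12, 1, 0)]])]]

/-- The reduction for the leading slot 9. -/
def plan9 : List Step :=
  [.kill 10 1 false
    [(9, [[]]),
      (10, [[(10, 1, 0)], [(12, 1, 0)]]),
      (11, [[(11, 1, 0)]])],
   .kill 11 2 false
    [(9, [[]]),
      (11, [[(11, 1, 0)], [(12, 1, 0)]])]]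

/-- The reduction for the leading slot 10. -/
def plan10 : List Step :=
  [.kill 11 0 false
    [(10, [[]]),
      (11, [[(11, 1, 0)], [(12, 1, 0)]])]]

/-- The reduction for the leading slot 11. -/
def plan11 : List Step :=
  []

theorem plans_ok :
    (chkPlan 0 (above 0) plan0 (some [9]) && chkPlan 1 (above 1) plan1 none &&
      chkPlan 2 (above 2) plan2 none && chkPlan 3 (above 3) plan3 (some [11]) &&
      chkPlan 4 (above 4) plan4 none && chkPlan 5 (above 5) plan5 (some []) &&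
      chkPlan 6 (above 6) plan6 none && chkPlan 7 (above 7) plan7 (some [10]) &&
      chkPlan 8 (above 8) plan8 (some []) && chkPlan 9 (above 9) plan9 (some []) &&
      chkPlan 10 (above 10) plan10 (some []) && chkPlan 11 (above 11) plan11 (some [])) = true := by
  decide +kernel

end CfsgLib.ReeF4.Sym
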