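import Cfsg.Agent.ReeF4.Data
import Cfsg.Agent.Chevalley.BruhatUnique
import Mathlib.Algebra.CharP.Two
import Mathlib.FieldTheory.Finite.Basic

/-!
# The twisting endomorphism `σ` of F₄ in characteristic 2

`σ x_r(t) = x_{ρ r}(t ^ (2^m e_r))`, an involution when `t ^ (2^(2m+1)) = t`.
-/

set_option autoImplicit false

namespace CfsgLib.ReeF4

open Cfsg.Lie CfsgLib.Chevalley
open scoped MatrixGroups

/-- A field of characteristic 2 with `θ = 2^m`-th power such that `2θ² = 1`. -/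
structure Tw (K : Type*) [Field K] [CharP K 2] where
  /-- the exponent -/
  m : ℕ
  per : ∀ x : K, x ^ (2 ^ (2 * m + 1)) = x

namespace Tw

variable {K : Type*} [Field K] [CharP K 2] (T : Tw K)

/-- The map `θ`. -/
def θ : K →+* K := iterateFrobenius K 2 T.m

theorem θ_def (x : K) : T.θ x = x ^ (2 ^ T.m) := iterateFrobenius_def 2 T.m x

theorem θ_θ_sq (x : K) : T.θ (T.θ x) ^ 2 = x := by
  rw [θ_def, θ_def, ← pow_mul, ← pow_mul]
  convert T.per x using 2
  ring

theorem θ_sq_θ (x : K) : T.θ (T.θ x ^ 2) = x := by rw [map_pow, θ_θ_sq]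

/-- The parameter map of a root. -/
def par (r : Root D) (t : K) : K := T.θ t ^ ex r

theorem par_par (r : Root D) (t : K) : T.par (rho r) (T.par r t) = t := by
  rw [par, par, map_pow, ← pow_mul, (rho_facts r).2.2.2.1, θ_θ_sq]

theorem par_zero (r : Root D) : T.par r 0 = 0 := by
  have h : ex r ≠ 0 := fun e => by
    have := (rho_facts r).2.2.2.1
    simp [e] at this
  simp [par, zero_pow h]

theorem par_one (r : Root D) : T.par r 1 = 1 := by simp [par]

end Tw

/-- The root elements. -/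
abbrev x (K : Type*) [Field K] (r : Root D) (t : K) : GL D.Idx K := X hW.good r t

/-- The Chevalley group of type F₄. -/
abbrev G (K : Type*) [Field K] : Subgroup (GL D.Idx K) := D.group K

section

variable {K : Type*} [Field K]

theorem x_mem (r : Root D) (t : K) : x K r t ∈ G K := X_mem_group _ r t

theorem x_mul (r : Root D) (s t : K) : x K r s * x K r t = x K r (s + t) := X_mul _ r s t

theorem x_zero (r : Root D) : x K r (0 : K) = 1 := X_zero _ r

theorem rho_pos (r : Root D) : half D ≤ (rho r : ℕ) ↔ half D ≤ (r : ℕ) := by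
  have := (rho_facts r).2.1
  rw [← isPos_iff, ← isPos_iff, this]

theorem rho_neg (r : Root D) : (rho r : ℕ) < half D ↔ (r : ℕ) < half D := by
  have := rho_pos r
  omega

theorem ex_rev : ∀ r : Root D, ex r.rev = ex r := by decide +kernel

theorem rootGen_le_group (S : Set (Root D)) : rootGen hW.good K S ≤ G K :=
  rootGen_le _ fun r _ t => X_mem_group _ r t

theorem nElt_mem (r : Root D) (a : Kˣ) : nElt hW.good r a ∈ G K :=
  mul_mem (mul_mem (x_mem _ _) (x_mem _ _)) (x_mem _ _)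

/-- The symmetry as a permutation. -/
def rhoP : Equiv.Perm (Root D) :=
  ⟨rho, rho, fun r => (rho_facts r).1, fun r => (rho_facts r).1⟩

theorem rhoP_apply (r : Root D) : rhoP r = rho r := rfl

end

namespace Tw

variable {K : Type*} [Field K] [CharP K 2] (T : Tw K)

theorem fieldMap_mem {g : GL D.Idx K} (hg : g ∈ G K) :
    Matrix.GeneralLinearGroup.map T.θ g ∈ G K := by
  have h : G K ≤ (G K).comap (Matrix.GeneralLinearGroup.map T.θ) := by
    conv_lhs => rw [G, group_eq_closure hW.good]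
    rw [Subgroup.closure_le]
    rintro _ ⟨r, t, rfl⟩
    rw [SetLike.mem_coe, Subgroup.mem_comap, X_map]
    exact X_mem_group _ _ _
  exact h hg

/-- The twisting endomorphism. -/
def sigma : ↥(G K) →* ↥(G K) :=
  letI : CharP K ExcIsogeny.isoF4.p := ‹CharP K 2›
  (ExcIsogeny.alpha ExcIsogeny.isoF4_ok).comp
    (((Matrix.GeneralLinearGroup.map T.θ).comp (G K).subtype).codRestrict _
      fun g => T.fieldMap_mem g.2)

theorem sigma_x (r : Root D) (t : K) :
    T.sigma ⟨x K r t, x_mem r t⟩ = ⟨x K (rho r) (T.par r t), x_mem _ _⟩ := by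
  letI : CharP K ExcIsogeny.isoF4.p := ‹CharP K 2›
  have h : (((Matrix.GeneralLinearGroup.map T.θ).comp (G K).subtype).codRestrict _
      fun g => T.fieldMap_mem g.2) ⟨x K r t, x_mem r t⟩ =
      (⟨x K r (T.θ t), x_mem _ _⟩ : ↥(G K)) := Subtype.ext (X_map hW.good T.θ r t)
  rw [sigma, MonoidHom.comp_apply, h]
  exact ExcIsogeny.alpha_X ExcIsogeny.isoF4_ok r (T.θ t)

open Classical in
/-- `σ` read in `GL`; outside the group it is `1`. -/
noncomputable def sig (g : GL D.Idx K) : GL D.Idx K :=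
  if h : g ∈ G K then (T.sigma ⟨g, h⟩ : GL D.Idx K) else 1

theorem sig_coe (g : ↥(G K)) : T.sig g = (T.sigma g : GL D.Idx K) := by
  rw [sig, dif_pos g.2]

theorem sig_mem (g : GL D.Idx K) : T.sig g ∈ G K := by
  by_cases h : g ∈ G K
  · rw [sig, dif_pos h]
    exact (T.sigma ⟨g, h⟩).2
  · rw [sig, dif_neg h]
    exact one_mem _

theorem sig_mul {g h : GL D.Idx K} (hg : g ∈ G K) (hh : h ∈ G K) :
    T.sig (g * h) = T.sig g * T.sig h := by
  rw [T.sig_coe ⟨g, hg⟩, T.sig_coe ⟨h, hh⟩, ← Subgroup.coe_mul, ← map_mul, ← sig_coe]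
  rfl

theorem sig_inv {g : GL D.Idx K} (hg : g ∈ G K) : T.sig g⁻¹ = (T.sig g)⁻¹ := by
  rw [T.sig_coe ⟨g, hg⟩, ← Subgroup.coe_inv, ← map_inv, ← sig_coe]
  rfl

theorem sig_one : T.sig 1 = 1 := by
  rw [show (1 : GL D.Idx K) = ((1 : ↥(G K)) : GL D.Idx K) from rfl, sig_coe, map_one]

theorem sig_x (r : Root D) (t : K) : T.sig (x K r t) = x K (rho r) (T.par r t) := by
  rw [T.sig_coe ⟨x K r t, x_mem r t⟩, sigma_x]

/-- The fixed points of `σ`. -/
def fix : Subgroup (GL D.Idx K) where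
  carrier := {g | g ∈ G K ∧ T.sig g = g}
  one_mem' := ⟨one_mem _, T.sig_one⟩
  mul_mem' {a b} ha hb := ⟨mul_mem ha.1 hb.1, by rw [T.sig_mul ha.1 hb.1, ha.2, hb.2]⟩
  inv_mem' {a} ha := ⟨inv_mem ha.1, by rw [T.sig_inv ha.1, ha.2]⟩

theorem mem_fix {g : GL D.Idx K} : g ∈ T.fix ↔ g ∈ G K ∧ T.sig g = g := Iff.rfl

theorem fix_le_group : T.fix ≤ G K := fun _ h => h.1

theorem sig_rootGen {S S' : Set (Root D)} (h : ∀ r ∈ S, rho r ∈ S') {g : GL D.Idx K}
    (hg : g ∈ rootGen hW.good K S) : T.sig g ∈ rootGen hW.good K S' := by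
  induction hg using Subgroup.closure_induction with
  | mem y hy =>
    obtain ⟨r, hr, t, rfl⟩ := hy
    rw [T.sig_x]
    exact X_mem_rootGen _ (h r hr) _
  | one => rw [sig_one]; exact one_mem _
  | mul a b ha hb iha ihb =>
    rw [T.sig_mul (rootGen_le_group S ha) (rootGen_le_group S hb)]
    exact mul_mem iha ihb
  | inv a ha iha =>
    rw [T.sig_inv (rootGen_le_group S ha)]
    exact inv_mem iha

theorem sig_pos {g : GL D.Idx K} (hg : g ∈ D.posUnipotent K) : T.sig g ∈ D.posUnipotent K := by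
  rw [posUnipotent_eq_rootGen hW.good] at hg ⊢
  exact T.sig_rootGen (fun r hr => (rho_pos r).2 hr) hg

/-- The parameter map on units. -/
def parU (r : Root D) (a : Kˣ) : Kˣ := Units.map T.θ.toMonoidHom a ^ ex r

theorem coe_parU (r : Root D) (a : Kˣ) : (T.parU r a : K) = T.par r a := by
  simp [parU, par]

theorem sig_nElt (r : Root D) (a : Kˣ) :
    T.sig (nElt hW.good r a) = nElt hW.good (rho r) (T.parU r a) := by
  have hp : T.par r.rev (-((a⁻¹ : Kˣ) : K)) = -(((T.parU r a)⁻¹ : Kˣ) : K) := by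
    rw [CharTwo.neg_eq, CharTwo.neg_eq, Units.val_inv_eq_inv_val, Units.val_inv_eq_inv_val,
      coe_parU, par, par, map_inv₀, inv_pow]
    congr 2
    exact ex_rev r
  rw [nElt, T.sig_mul (mul_mem (x_mem _ _) (x_mem _ _)) (x_mem _ _),
    T.sig_mul (x_mem _ _) (x_mem _ _), T.sig_x, T.sig_x, (rho_facts r).2.2.1, hp, ← coe_parU]
  rfl

omit T in
theorem neg_one_units : (-1 : Kˣ) = 1 := Units.ext (by simp [CharTwo.neg_eq])

theorem sig_hT (r : Root D) (a : Kˣ) : T.sig (hT K r a) = hT K (rho r) (T.parU r a) := by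
  rw [← hElt_eq hW, ← hElt_eq hW, T.sig_mul (nElt_mem _ _) (nElt_mem _ _), T.sig_nElt,
    T.sig_nElt, neg_one_units, show T.parU r (1 : Kˣ) = 1 by simp [parU]]

theorem sig_diag {g : GL D.Idx K} (hg : g ∈ D.diagonalSubgroup K) :
    T.sig g ∈ D.diagonalSubgroup K := by
  have hle : D.diagonalSubgroup K ≤ G K := diag_le_group hW
  rw [diagonalSubgroup_eq hW] at hg
  induction hg using Subgroup.closure_induction with
  | mem y hy =>
    obtain ⟨r, t, rfl⟩ := hy
    rw [sig_hT]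
    exact hT_mem_diagonal hW _ _
  | one => rw [sig_one]; exact one_mem _
  | mul a b ha hb iha ihb =>
    rw [← diagonalSubgroup_eq hW] at ha hb
    rw [T.sig_mul (hle ha) (hle hb)]
    exact mul_mem iha ihb
  | inv a ha iha =>
    rw [← diagonalSubgroup_eq hW] at ha
    rw [T.sig_inv (hle ha)]
    exact inv_mem iha

theorem sig_borel {g : GL D.Idx K} (hg : g ∈ D.borelSubgroup K) :
    T.sig g ∈ D.borelSubgroup K := by
  obtain ⟨u, hu, h, hh, rfl⟩ := (mem_borel_iff hW).1 hg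
  rw [T.sig_mul (borel_le_group hW (pos_le_borel D hu)) (borel_le_group hW (diag_le_borel D hh))]
  exact mul_mem (pos_le_borel D (T.sig_pos hu)) (diag_le_borel D (T.sig_diag hh))

theorem sig_nR_mem (i : Fin D.rank) : T.sig (nR hW i) ∈ D.monomialSubgroup K := by
  rw [← nElt_one hW i, T.sig_nElt, show T.parU (pRoot hW i) (1 : Kˣ) = 1 by simp [parU]]
  exact Subgroup.mem_sup_right (Subgroup.subset_closure
    ⟨_, (rho (pRoot hW i)).isLt, coe_nElt_one hW _⟩)

theorem sig_monomial {g : GL D.Idx K} (hg : g ∈ D.monomialSubgroup K) :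
    T.sig g ∈ D.monomialSubgroup K := by
  refine (monomial_induction hW (P := fun g => g ∈ G K ∧ T.sig g ∈ D.monomialSubgroup K) hg
    (fun h hh => ⟨diag_le_group hW hh, diag_le_monomial D (T.sig_diag hh)⟩)
    (fun i => ⟨nR_mem_group hW i, T.sig_nR_mem i⟩)
    (fun a b ha hb => ⟨mul_mem ha.1 hb.1, ?_⟩) fun a ha => ⟨inv_mem ha.1, ?_⟩).2
  · rw [T.sig_mul ha.1 hb.1]; exact mul_mem ha.2 hb.2
  · rw [T.sig_inv ha.1]; exact inv_mem ha.2

theorem sig_monBy {g : GL D.Idx K} (hgG : g ∈ G K) {π : Equiv.Perm (Root D)}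
    (hg : MonBy hW g π) : ∀ r, ∃ c : K, c ≠ 0 ∧
      T.sig g * x K r 1 * (T.sig g)⁻¹ = x K (rhoP (π (rhoP r))) c := by
  intro r
  obtain ⟨c, hc⟩ := hg.conj_X (rho r)
  refine ⟨T.par (π (rho r)) c, ?_, ?_⟩
  · rw [← coe_parU]; exact (T.parU _ c).ne_zero
  have h := congrArg T.sig (hc 1)
  rw [T.sig_mul (mul_mem hgG (x_mem _ _)) (inv_mem hgG), T.sig_mul hgG (x_mem _ _),
    T.sig_inv hgG] at h
  simp only [T.sig_x, (rho_facts r).1, T.par_one, mul_one] at h
  rw [rhoP_apply, rhoP_apply]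
  exact h

/-- The permutation of `σ g` is the conjugate by `ρ`. -/
theorem sig_monBy_eq {g : GL D.Idx K} (hgG : g ∈ G K) {π π' : Equiv.Perm (Root D)}
    (hg : MonBy hW g π) (hg' : MonBy hW (T.sig g) π') : π' = rhoP * π * rhoP := by
  refine Equiv.ext fun r => ?_
  obtain ⟨c, hc, e⟩ := T.sig_monBy hgG hg r
  obtain ⟨d, hd⟩ := hg'.conj_X r
  rw [hd, mul_one] at e
  simp only [Equiv.Perm.mul_apply]
  by_contra hne
  exact X_ne hW.toGoodUni hne d.ne_zero c e

end Tw

end CfsgLib.ReeF4
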