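import Cfsg.Agent.ReeF4.Gens

/-!
# The fixed points of `σ` in unipotent subgroups

For a checked set `S` of positive roots, `rootGen S` has a chain indexed by the twelve slots, and its
fixed points are the ordered products of lifts: there are `q` to the number of slots in `S`.
-/

set_option autoImplicit false

namespace CfsgLib.ReeF4

open Cfsg.Lie CfsgLib.Chevalley
open scoped MatrixGroups

variable {K : Type*} [Field K]

/-- The roots of `S` in slots at least `i`. -/
def sTail (S : Root D → Bool) (i : ℕ) : Set (Root D) := {r | S r = true ∧ i ≤ pos r}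

/-- The subgroup of those roots. -/
def uS (K : Type*) [Field K] (S : Root D → Bool) (i : ℕ) : Subgroup (GL D.Idx K) :=
  rootGen hW.good K (sTail S i)

/-- The leading element of a slot. -/
def lead (i : Fin 12) (a b : K) : GL D.Idx K := x K (la i) a * x K (lb i) b

section Set

variable {S : Root D → Bool} (hS : chkSet S = true)
include hS

theorem set_root {r : Root D} (hr : S r = true) :
    half D ≤ (r : ℕ) ∧ S (rho r) = true ∧
      ∀ s, S s = true → ∀ c ∈ D.commTerms r s, S (rt c.1) = true := by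
  simp only [chkSet, Bool.and_eq_true, List.all_eq_true, Bool.or_eq_true, Bool.not_eq_true'] at hS
  have := (hS.1 r (List.mem_finRange r)).resolve_left (by simp [hr])
  exact ⟨isPos_iff.1 this.1.1, this.1.2,
    fun s hs => (this.2 s (List.mem_finRange s)).resolve_left (by simp [hs])⟩

theorem set_slot {i : Fin 12} (hi : S (lb i) = true) :
    S (la i) = true ∧ ∀ r ∈ extra i, S r = true := by
  refine ⟨(slot_facts i).2.2.1 ▸ (set_root hS hi).2.1, ?_⟩
  simp only [chkSet, Bool.and_eq_true, List.all_eq_true, Bool.or_eq_true, Bool.not_eq_true'] at hS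
  exact (hS.2 i (List.mem_finRange i)).resolve_left (by simp [hi])

theorem pos_lt {r : Root D} (hr : S r = true) : pos r < 12 := by
  obtain ⟨i, e, -⟩ := pos_cases r (isPos_iff.2 (set_root hS hr).1)
  omega

theorem uS_eq_bot {i : ℕ} (hi : 12 ≤ i) : uS K S i = ⊥ := by
  rw [eq_bot_iff]
  refine rootGen_le _ fun r ⟨hr, hr'⟩ t => ?_
  have := pos_lt hS hr
  omega

omit hS in
theorem uS_anti {i j : ℕ} (h : i ≤ j) : uS K S j ≤ uS K S i :=
  rootGen_mono _ fun _ hr => ⟨hr.1, h.trans hr.2⟩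

theorem comm_term {r s : Root D} (hr : S r = true) (hs : S s = true) {c : ℕ × ℤ × ℕ × ℕ}
    (hc : c ∈ D.commTerms r s) :
    ∃ h : c.1 < D.nroots, S ⟨c.1, h⟩ = true ∧ min (pos r) (pos s) < pos ⟨c.1, h⟩ ∧
      (r : ℕ) < c.1 := by
  have h1 := comm_pos r s
  simp only [chkPos, isPos_iff.2 (set_root hS hr).1, isPos_iff.2 (set_root hS hs).1, Bool.not_true,
    Bool.false_or, List.all_eq_true, Bool.and_eq_true, decide_eq_true_eq] at h1
  obtain ⟨⟨hlt, -⟩, hp⟩ := h1 c hc
  have hS' := (set_root hS hr).2.2 s hs c hc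
  have e : rt c.1 = ⟨c.1, hlt⟩ := by rw [rt, dif_pos hlt]
  rw [e] at hS' hp
  obtain ⟨_, hk, -⟩ := Good.commTerms_key (b := false) hW.toGoodComm (r := r) (s := s)
    (by simpa [key] using (set_root hS hr).1) (by simpa [key] using (set_root hS hs).1) hc
  exact ⟨hlt, hS', hp, by simpa [key] using hk⟩

theorem commRhs_mem {r s : Root D} (hr : S r = true) (hs : S s = true) {i : ℕ}
    (hri : i ≤ pos r) (hsi : i ≤ pos s) (t u : K) :
    commRhs hW.good r s t u ∈ uS K S (i + 1) := by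
  refine Subgroup.list_prod_mem _ fun y hy => ?_
  simp only [List.map_map, List.mem_map, Function.comp_apply] at hy
  obtain ⟨c, hc, rfl⟩ := hy
  obtain ⟨h, h1, h2, -⟩ := comm_term hS hr hs hc
  rw [dif_pos h]
  exact X_mem_rootGen _ (S := sTail S (i + 1)) ⟨h1, by omega⟩ _

theorem conj_mem_next {i : ℕ} {s : Root D} (hs : S s = true) (hsi : i ≤ pos s) (v : K)
    {g : GL D.Idx K} (hg : g ∈ uS K S (i + 1)) :
    x K s v * g * (x K s v)⁻¹ ∈ uS K S (i + 1) := by
  suffices H : ∀ n k, D.nroots ≤ k + n →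
      ∀ {g : GL D.Idx K}, g ∈ rootGen hW.good K {r | r ∈ sTail S (i + 1) ∧ k ≤ (r : ℕ)} →
      x K s v * g * (x K s v)⁻¹ ∈ rootGen hW.good K {r | r ∈ sTail S (i + 1) ∧ k ≤ (r : ℕ)} by
    have e : {r : Root D | r ∈ sTail S (i + 1) ∧ 0 ≤ (r : ℕ)} = sTail S (i + 1) := by ext; simp
    have := H D.nroots 0 (by omega) (g := g) (by rw [e]; exact hg)
    rwa [e] at this
  intro n
  induction n with
  | zero =>
    intro k hk g hg
    have : g = 1 := Subgroup.mem_bot.1 ((rootGen_le hW.good (K := ⊥) fun r hr => by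
      have := r.isLt; have := hr.2; omega) hg)
    simp [this]
  | succ n ih =>
    intro k hk g hg
    refine (rootGen_le hW.good (K := (rootGen hW.good K
        {r | r ∈ sTail S (i + 1) ∧ k ≤ (r : ℕ)}).comap (MulAut.conj (x K s v)).toMonoidHom)
      fun r hr t => ?_) hg
    show x K s v * x K r t * (x K s v)⁻¹ ∈
      rootGen hW.good K {r | r ∈ sTail S (i + 1) ∧ k ≤ (r : ℕ)}
    obtain ⟨⟨hrS, hri⟩, hrk⟩ := hr
    rcases eq_or_ne s r with rfl | hne
    · rw [x_mul, X_inv, x_mul, show v + t + -v = t by ring]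
      exact X_mem_rootGen _ (S := {r | r ∈ sTail S (i + 1) ∧ k ≤ (r : ℕ)}) ⟨⟨hrS, hri⟩, hrk⟩ t
    have hne' : s ≠ r.rev := hW.good.rev_ne_of_key (b := false)
      (by simpa [key] using (set_root hS hrS).1) (by simpa [key] using (set_root hS hs).1)
    rw [x, x, X_comm hW.toGoodComm r s hne hne' t v,
      show ∀ p q w : GL D.Idx K, p * q * w * q⁻¹ = p * (q * w * q⁻¹) from fun p q w => by group]
    refine mul_mem (X_mem_rootGen _ (S := {r | r ∈ sTail S (i + 1) ∧ k ≤ (r : ℕ)})
      ⟨⟨hrS, hri⟩, hrk⟩ t) (rootGen_mono hW.good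
        (fun a (ha : a ∈ sTail S (i + 1) ∧ k + 1 ≤ (a : ℕ)) =>
          (⟨ha.1, by omega⟩ : a ∈ sTail S (i + 1) ∧ k ≤ (a : ℕ))) (ih (k + 1)
          (by omega) ?_))
    refine Subgroup.list_prod_mem _ fun y hy => ?_
    simp only [List.map_map, List.mem_map, Function.comp_apply] at hy
    obtain ⟨c, hc, rfl⟩ := hy
    obtain ⟨h, h1, h2, h3⟩ := comm_term hS hrS hs hc
    rw [dif_pos h]
    exact X_mem_rootGen _ (S := {a | a ∈ sTail S (i + 1) ∧ k + 1 ≤ (a : ℕ)})
      ⟨⟨h1, by omega⟩, show k + 1 ≤ c.1 by omega⟩ _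

theorem le_normalizer_next (i : ℕ) :
    uS K S i ≤ Subgroup.normalizer (uS K S (i + 1) : Set (GL D.Idx K)) := by
  refine rootGen_le _ fun s hs v => Subgroup.mem_normalizer_iff.2 fun g =>
    ⟨conj_mem_next hS hs.1 hs.2 v, fun h => ?_⟩
  have := conj_mem_next hS hs.1 hs.2 (-v) h
  rwa [show x K s (-v) = (X hW.good s v)⁻¹ from (X_inv _ _ _).symm,
    show ∀ q h : GL D.Idx K, q⁻¹ * (q * h * q⁻¹) * q⁻¹⁻¹ = h from
    fun q h => by group] at this

theorem lead_mem {i : Fin 12} {a b : K} (h : S (lb i) = true ∨ (a = 0 ∧ b = 0)) :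
    lead i a b ∈ uS K S i := by
  rcases h with h | ⟨rfl, rfl⟩
  · exact mul_mem
      (X_mem_rootGen _ (S := sTail S i) ⟨(set_slot hS h).1, (slot_facts i).2.2.2.2.2.2.2.1.ge⟩ _)
      (X_mem_rootGen _ (S := sTail S i) ⟨h, (slot_facts i).2.2.2.2.2.2.1.ge⟩ _)
  · simp [lead, x_zero]

/-- The splitting of a step of the chain. -/
theorem exists_split (i : Fin 12) {g : GL D.Idx K} (hg : g ∈ uS K S i) :
    ∃ a b, ∃ z ∈ uS K S ((i : ℕ) + 1), g = lead i a b * z ∧ (S (lb i) = false → a = 0 ∧ b = 0) := by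
  let P : GL D.Idx K → Prop := fun g =>
    ∃ a b, ∃ z ∈ uS K S ((i : ℕ) + 1), g = lead i a b * z ∧ (S (lb i) = false → a = 0 ∧ b = 0)
  have hn : ∀ {a : GL D.Idx K}, a ∈ uS K S i → ∀ {z}, z ∈ uS K S ((i : ℕ) + 1) →
      a⁻¹ * z * a ∈ uS K S ((i : ℕ) + 1) := fun {a} ha {z} hz => by
    have := (Subgroup.mem_normalizer_iff.1 (le_normalizer_next hS (i : ℕ) (inv_mem ha)) z).1 hz
    rwa [inv_inv] at this
  have hmul : ∀ {g h}, P g → P h → P (g * h) := by
    rintro g h ⟨a, b, z, hz, rfl, hab⟩ ⟨a', b', z', hz', rfl, hab'⟩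
    have hl : lead i a' b' ∈ uS K S i := lead_mem hS (by
      by_cases h : S (lb i) = true
      · exact Or.inl h
      · exact Or.inr (hab' (by simpa using h)))
    by_cases hb : S (lb i) = true
    · refine ⟨a + a', b + b',
        (x K (lb i) b')⁻¹ * commRhs hW.good (la i) (lb i) a' b * x K (lb i) b' *
          ((lead i a' b')⁻¹ * z * lead i a' b') * z', ?_, ?_, fun h => absurd hb (by simp [h])⟩
      · refine mul_mem (mul_mem (hn ?_ (commRhs_mem hS (set_slot hS hb).1 hb
          (slot_facts i).2.2.2.2.2.2.2.1.ge (slot_facts i).2.2.2.2.2.2.1.ge a' b)) (hn hl hz)) hz'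
        exact X_mem_rootGen _ (S := sTail S i) ⟨hb, (slot_facts i).2.2.2.2.2.2.1.ge⟩ b'
      · have hc := X_comm hW.toGoodComm (la i) (lb i) (slot_facts i).2.2.2.2.2.1.symm
          (hW.good.rev_ne_of_key (b := false)
            (by simpa [key] using isPos_iff.1 (slot_facts i).2.1)
            (by simpa [key] using isPos_iff.1 (slot_facts i).1)) a' b
        rw [lead, lead, lead, ← x_mul (la i), ← x_mul (lb i)]
        calc x K (la i) a * x K (lb i) b * z * (x K (la i) a' * x K (lb i) b' * z')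
            = x K (la i) a * (X hW.good (lb i) b * X hW.good (la i) a') * x K (lb i) b' *
              ((x K (la i) a' * x K (lb i) b')⁻¹ * z * (x K (la i) a' * x K (lb i) b')) * z' := by
              group
          _ = _ := by rw [hc]; group
    · obtain ⟨rfl, rfl⟩ := hab (by simpa using hb)
      obtain ⟨rfl, rfl⟩ := hab' (by simpa using hb)
      exact ⟨0, 0, z * z', mul_mem hz hz', by simp [lead, x_zero], fun _ => ⟨rfl, rfl⟩⟩
  suffices H : P g from H
  have hgen : ∀ r ∈ sTail S i, ∀ t : K, P (x K r t) := by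
    intro r hr t
    rcases Nat.eq_or_lt_of_le hr.2 with e | hlt
    · obtain ⟨j, hj, hr'⟩ := pos_cases r (isPos_iff.2 (set_root hS hr.1).1)
      obtain rfl : j = i := Fin.ext (by omega)
      have hne : S (lb j) = false → False := fun h => by
        rcases hr' with rfl | rfl
        · have := (set_root hS hr.1).2.1
          rw [← (slot_facts j).2.2.1, (rho_facts _).1, h] at this
          exact Bool.false_ne_true this
        · rw [hr.1] at h; exact Bool.false_ne_true h.symm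
      rcases hr' with rfl | rfl
      · exact ⟨t, 0, 1, one_mem _, by simp [lead, x_zero], fun h => (hne h).elim⟩
      · exact ⟨0, t, 1, one_mem _, by simp [lead, x_zero], fun h => (hne h).elim⟩
    · exact ⟨0, 0, _, X_mem_rootGen _ (S := sTail S ((i : ℕ) + 1)) ⟨hr.1, hlt⟩ t,
        by simp [lead, x_zero], fun _ => ⟨rfl, rfl⟩⟩
  have h2 : P g ∧ P g⁻¹ := by
    induction hg using Subgroup.closure_induction with
    | mem y hy =>
      obtain ⟨r, hr, t, rfl⟩ := hy
      exact ⟨hgen r hr t, by rw [X_inv]; exact hgen r hr _⟩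
    | one =>
      have : P 1 := ⟨0, 0, 1, one_mem _, by simp [lead, x_zero], fun _ => ⟨rfl, rfl⟩⟩
      exact ⟨this, by rwa [inv_one]⟩
    | mul a b _ _ iha ihb => exact ⟨hmul iha.1 ihb.1, by rw [mul_inv_rev]; exact hmul ihb.2 iha.2⟩
    | inv a _ iha => exact ⟨iha.2, by rw [inv_inv]; exact iha.1⟩
  exact h2.1

end Set

/-! ### Uniqueness -/

/-- The factor of a slot. -/
def fac (t : ℕ → K × K) (j : ℕ) : GL D.Idx K :=
  if h : j < 12 then lead ⟨j, h⟩ (t j).1 (t j).2 else 1

/-- The product of the factors from the `i`-th on. -/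
def tl (t : ℕ → K × K) (i : ℕ) : GL D.Idx K := ((List.range' i (12 - i)).map (fac t)).prod

theorem tl_twelve (t : ℕ → K × K) : tl t 12 = 1 := rfl

theorem tl_succ (t : ℕ → K × K) (i : Fin 12) :
    tl t i = lead i (t i).1 (t i).2 * tl t ((i : ℕ) + 1) := by
  rw [tl, show 12 - (i : ℕ) = (12 - ((i : ℕ) + 1)) + 1 by omega, List.range'_succ, List.map_cons,
    List.prod_cons, fac, dif_pos i.2]
  rfl

theorem tl_congr {t u : ℕ → K × K} {i : ℕ} (h : ∀ j, i ≤ j → j < 12 → t j = u j) :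
    tl t i = tl u i := by
  refine congrArg List.prod (List.map_congr_left fun j hj => ?_)
  rw [List.mem_range'_1] at hj
  rw [fac, fac]
  split
  · next hlt => rw [h j hj.1 hlt]
  · rfl

theorem exists_tl : ∀ (n i : ℕ), i + n = 12 → ∀ g ∈ uS K allS i, ∃ t, tl t i = g := by
  intro n
  induction n with
  | zero =>
    intro i hi g hg
    obtain rfl : i = 12 := by omega
    rw [uS_eq_bot allS_ok le_rfl, Subgroup.mem_bot] at hg
    exact ⟨fun _ => (0, 0), by rw [tl_twelve, hg]⟩
  | succ n ih =>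
    intro i hi g hg
    obtain ⟨a, b, z, hz, rfl, -⟩ := exists_split allS_ok ⟨i, by omega⟩ hg
    obtain ⟨u, rfl⟩ := ih (i + 1) (by omega) z hz
    refine ⟨fun j => if j = i then (a, b) else u j, ?_⟩
    rw [tl_succ _ ⟨i, by omega⟩]
    simp only [if_pos]
    congr 1
    exact tl_congr fun j hj _ => if_neg (by omega)

theorem pos_eq_uS : D.posUnipotent K = uS K allS 0 := by
  rw [posUnipotent_eq_rootGen hW.good, uS]
  congr 1
  ext r
  simp [posSet, sTail, allS, isPos]

theorem tl_mem (t : ℕ → K × K) : tl t 0 ∈ uS K allS 0 := by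
  refine Subgroup.list_prod_mem _ fun y hy => ?_
  obtain ⟨j, -, rfl⟩ := List.mem_map.1 hy
  rw [fac]
  split
  · next h =>
    exact uS_anti (Nat.zero_le _) (lead_mem allS_ok (i := ⟨j, h⟩) (Or.inl (slot_facts _).1))
  · exact one_mem _

theorem tl_injective [Finite K] {t u : ℕ → K × K} (h : tl t 0 = tl u 0) {j : ℕ} (hj : j < 12) :
    t j = u j := by
  let ext' : (Fin 12 → K × K) → ℕ → K × K := fun v j => if h : j < 12 then v ⟨j, h⟩ else (0, 0)
  let φ : (Fin 12 → K × K) → ↥(uS K allS 0) := fun v => ⟨_, tl_mem (ext' v)⟩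
  have hsurj : Function.Surjective φ := by
    rintro ⟨g, hg⟩
    obtain ⟨t, rfl⟩ := exists_tl 12 0 rfl g hg
    exact ⟨fun i => t i, Subtype.ext (tl_congr fun j _ hj => by simp [ext', hj])⟩
  have hcard : Nat.card (Fin 12 → K × K) = Nat.card ↥(uS K allS 0) := by
    rw [← pos_eq_uS, posUnipotent_eq hW.good, natCard_uGe hW.toGoodUni, Nat.card_fun,
      Nat.card_prod, half_eq, Nat.card_fin, ← sq, ← pow_mul]
  have hinj := ((Nat.bijective_iff_surjective_and_card φ).2 ⟨hsurj, hcard⟩).1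
  have := hinj (a₁ := fun i => t i) (a₂ := fun i => u i) (Subtype.ext (by
    refine (tl_congr fun j _ hj => ?_).trans (h.trans (tl_congr fun j _ hj => ?_)) <;>
      simp [ext', hj]))
  exact congrFun this ⟨j, hj⟩

theorem tl_of_zero {t : ℕ → K × K} : ∀ {i : ℕ}, i ≤ 12 → (∀ j < i, t j = (0, 0)) →
    tl t 0 = tl t i := by
  intro i
  induction i with
  | zero => intros; rfl
  | succ i ih =>
    intro hi h
    rw [ih (by omega) (fun j hj => h j (by omega)), tl_succ t ⟨i, hi⟩]
    simp [h i (by omega), lead, x_zero]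

theorem uS_le_allS {S : Root D → Bool} (hS : chkSet S = true) (i : ℕ) :
    uS K S i ≤ uS K allS i :=
  rootGen_mono _ fun _ hr => ⟨isPos_iff.2 (set_root hS hr.1).1, hr.2⟩

/-- The leading parameters are determined. -/
theorem lead_unique [Finite K] {i : Fin 12} {a b a' b' : K} {z z' : GL D.Idx K}
    (hz : z ∈ uS K allS ((i : ℕ) + 1)) (hz' : z' ∈ uS K allS ((i : ℕ) + 1))
    (e : lead i a b * z = lead i a' b' * z') : a = a' ∧ b = b' := by
  have key : ∀ (a b : K) (z : GL D.Idx K), z ∈ uS K allS ((i : ℕ) + 1) →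
      ∃ t : ℕ → K × K, t i = (a, b) ∧ tl t 0 = lead i a b * z := by
    intro a b z hz
    obtain ⟨u, rfl⟩ := exists_tl (12 - ((i : ℕ) + 1)) _ (by omega) z hz
    refine ⟨fun j => if j < i then (0, 0) else if j = i then (a, b) else u j, by simp, ?_⟩
    rw [tl_of_zero (i := i) (by omega) fun j hj => if_pos hj, tl_succ]
    simp only [lt_irrefl, if_false, if_true]
    congr 1
    exact tl_congr fun j hj _ => by rw [if_neg (by omega), if_neg (by omega)]
  obtain ⟨t, ht, et⟩ := key a b z hz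
  obtain ⟨u, hu, eu⟩ := key a' b' z' hz'
  have := tl_injective (et.trans (e.trans eu.symm)) i.2
  rw [ht, hu] at this
  exact ⟨congrArg Prod.fst this, congrArg Prod.snd this⟩

/-! ### Fixed points -/

variable [CharP K 2] (T : Tw K)

theorem Tw.lift_eq_lead {S : Root D → Bool} (hS : chkSet S = true) (i : Fin 12) (t : K)
    (h : S (lb i) = true) :
    ∃ z ∈ uS K S ((i : ℕ) + 1), T.lift i t = lead i (T.θ t) t * z := by
  refine ⟨_, Subgroup.list_prod_mem _ fun y hy => ?_, rfl⟩
  obtain ⟨r, hr, rfl⟩ := List.mem_map.1 hy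
  have := List.all_eq_true.1 (slot_facts i).2.2.2.2.2.2.2.2 r hr
  simp only [Bool.and_eq_true, decide_eq_true_eq] at this
  exact X_mem_rootGen _ (S := sTail S ((i : ℕ) + 1)) ⟨(set_slot hS h).2 r hr, this.2⟩ _

theorem Tw.lift_mem_uS {S : Root D → Bool} (hS : chkSet S = true) (i : Fin 12) (t : K)
    (h : S (lb i) = true) : T.lift i t ∈ uS K S i := by
  obtain ⟨z, hz, e⟩ := T.lift_eq_lead hS i t h
  rw [e]
  exact mul_mem (lead_mem hS (Or.inl h)) (uS_anti (Nat.le_succ _) hz)

theorem Tw.lift_zero (i : Fin 12) : T.lift i 0 = 1 := by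
  simp [Tw.lift, x_zero]

theorem Tw.sig_uS {S : Root D → Bool} (hS : chkSet S = true) {i : ℕ} {g : GL D.Idx K}
    (hg : g ∈ uS K S i) : T.sig g ∈ uS K S i := by
  refine T.sig_rootGen (S' := sTail S i) (fun r hr => ⟨(set_root hS hr.1).2.1, ?_⟩) hg
  obtain ⟨j, hj, hr'⟩ := pos_cases r (isPos_iff.2 (set_root hS hr.1).1)
  have h := hr.2
  obtain ⟨-, -, h3, -, -, -, h7, h8, -⟩ := slot_facts j
  rcases hr' with rfl | rfl
  · rw [← h3, (rho_facts _).1, h7]; omega
  · rw [h3, h8]; omega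

/-- The fixed points in a step of the chain. -/
def Tw.uF (S : Root D → Bool) (i : ℕ) : Subgroup (GL D.Idx K) := uS K S i ⊓ T.fix

variable [Finite K]

theorem Tw.exists_split_fix {S : Root D → Bool} (hS : chkSet S = true) (i : Fin 12)
    {g : GL D.Idx K} (hg : g ∈ T.uF S i) :
    ∃ t, (S (lb i) = false → t = 0) ∧ ∃ z ∈ T.uF S ((i : ℕ) + 1), g = T.lift i t * z := by
  obtain ⟨hgu, hgf⟩ := Subgroup.mem_inf.1 hg
  obtain ⟨a, b, z, hz, rfl, hab⟩ := exists_split hS i hgu
  obtain ⟨-, -, h3, h4, h5, h6, -⟩ := slot_facts i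
  have hzG : z ∈ G K := rootGen_le_group _ hz
  have h3' : rho (la i) = lb i := by rw [← h3, (rho_facts _).1]
  have hpa : T.par (la i) a = T.θ a ^ 2 := by rw [Tw.par, h5]
  have hpb : T.par (lb i) b = T.θ b := by rw [Tw.par, h4, pow_one]
  have hs := hgf.2
  rw [lead, T.sig_mul (mul_mem (x_mem _ _) (x_mem _ _)) hzG, T.sig_mul (x_mem _ _) (x_mem _ _),
    T.sig_x, T.sig_x, h3, h3', hpa, hpb] at hs
  have hw := commRhs_mem allS_ok (S := allS) (slot_facts i).2.1 (slot_facts i).1
    (i := (i : ℕ)) (slot_facts i).2.2.2.2.2.2.2.1.ge (slot_facts i).2.2.2.2.2.2.1.ge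
    (T.θ b) (T.θ a ^ 2)
  rw [x, x, X_comm hW.toGoodComm (la i) (lb i) h6.symm (hW.good.rev_ne_of_key (b := false)
    (by simpa [key] using isPos_iff.1 (slot_facts i).2.1)
    (by simpa [key] using isPos_iff.1 (slot_facts i).1)) (T.θ b) (T.θ a ^ 2),
    mul_assoc _ (commRhs _ _ _ _ _)] at hs
  obtain ⟨rfl, -⟩ := lead_unique (mul_mem hw (uS_le_allS hS _ (T.sig_uS hS hz)))
    (uS_le_allS hS _ hz) hs
  obtain ⟨y, hy, e⟩ : ∃ y ∈ uS K S ((i : ℕ) + 1), T.lift i b = lead i (T.θ b) b * y := by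
    by_cases h : S (lb i) = true
    · exact T.lift_eq_lead hS i b h
    · obtain ⟨-, rfl⟩ := hab (by simpa using h)
      exact ⟨1, one_mem _, by simp [T.lift_zero, lead, x_zero]⟩
  refine ⟨b, fun h => (hab h).2, y⁻¹ * z, Subgroup.mem_inf.2 ⟨mul_mem (inv_mem hy) hz, ?_⟩,
    by rw [e]; group⟩
  have h := mul_mem (inv_mem (T.lift_fix i b)) hgf
  rw [e] at h
  convert h using 1
  group

theorem Tw.uF_le {S : Root D → Bool} (hS : chkSet S = true) {L : Subgroup (GL D.Idx K)}
    (h : ∀ i : Fin 12, S (lb i) = true → ∀ t, T.lift i t ∈ L) (i : ℕ) : T.uF S i ≤ L := by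
  suffices H : ∀ n i, 12 ≤ i + n → T.uF S i ≤ L from H 12 i (by omega)
  intro n
  induction n with
  | zero =>
    intro i hi g hg
    have : g = 1 := Subgroup.mem_bot.1 (uS_eq_bot (K := K) hS (i := i) (by omega) ▸
      (Subgroup.mem_inf.1 hg).1)
    rw [this]; exact one_mem L
  | succ n ih =>
    intro i hi g hg
    by_cases h12 : i < 12
    · obtain ⟨t, ht, z, hz, rfl⟩ := T.exists_split_fix hS ⟨i, h12⟩ hg
      refine mul_mem ?_ (ih (i + 1) (by omega) hz)
      by_cases hb : S (lb ⟨i, h12⟩) = true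
      · exact h _ hb t
      · rw [ht (by simpa using hb), T.lift_zero]; exact one_mem L
    · exact ih i (by omega) hg

theorem Tw.uF_le_G1 {S : Root D → Bool} (hS : chkSet S = true) (i : ℕ) : T.uF S i ≤ T.G1 :=
  T.uF_le hS (fun i _ t => T.lift_mem i t) i

/-- The number of fixed points. -/
theorem Tw.natCard_uF {S : Root D → Bool} (hS : chkSet S = true) :
    Nat.card ↥(T.uF S 0) = Nat.card K ^ nSlots S := by
  have key : ∀ n i, i + n = 12 → Nat.card ↥(T.uF S i) = Nat.card K ^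
      (((List.finRange 12).drop i).filter fun j => S (lb j)).length := by
    intro n
    induction n with
    | zero =>
      intro i hi
      obtain rfl : i = 12 := by omega
      rw [Tw.uF, uS_eq_bot hS le_rfl, bot_inf_eq, Subgroup.card_bot]
      rfl
    | succ n ih =>
      intro i hi
      have hlt : i < 12 := by omega
      have hd : (List.finRange 12).drop i = ⟨i, hlt⟩ :: (List.finRange 12).drop (i + 1) := by
        rw [List.drop_eq_getElem_cons (by simp; omega)]
        simp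
      rw [hd]
      by_cases hb : S (lb ⟨i, hlt⟩) = true
      · rw [List.filter_cons_of_pos (by simp [hb]), List.length_cons, pow_succ',
          ← ih (i + 1) (by omega), ← Nat.card_prod]
        let φ : K × ↥(T.uF S (i + 1)) → ↥(T.uF S i) := fun p => ⟨T.lift ⟨i, hlt⟩ p.1 * p.2,
          mul_mem (Subgroup.mem_inf.2 ⟨T.lift_mem_uS hS ⟨i, hlt⟩ p.1 hb, T.lift_fix _ _⟩)
            ⟨uS_anti (Nat.le_succ i) p.2.2.1, p.2.2.2⟩⟩
        refine (Nat.card_eq_of_bijective φ ⟨?_, ?_⟩).symm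
        · rintro ⟨t, ⟨z, hz⟩⟩ ⟨t', ⟨z', hz'⟩⟩ e
          have e' : T.lift ⟨i, hlt⟩ t * z = T.lift ⟨i, hlt⟩ t' * z' := congrArg Subtype.val e
          obtain ⟨y, hy, ey⟩ := T.lift_eq_lead hS ⟨i, hlt⟩ t hb
          obtain ⟨y', hy', ey'⟩ := T.lift_eq_lead hS ⟨i, hlt⟩ t' hb
          have e2 := e'
          rw [ey, ey', mul_assoc, mul_assoc] at e2
          obtain ⟨-, rfl⟩ := lead_unique (uS_le_allS hS _ (mul_mem hy hz.1))
            (uS_le_allS hS _ (mul_mem hy' hz'.1)) e2
          obtain rfl : z = z' := mul_left_cancel e'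
          rfl
        · rintro ⟨g, hg⟩
          obtain ⟨t, -, z, hz, rfl⟩ := T.exists_split_fix hS ⟨i, hlt⟩ hg
          exact ⟨(t, ⟨z, hz⟩), rfl⟩
      · rw [List.filter_cons_of_neg (by simp [hb]), ← ih (i + 1) (by omega)]
        suffices e : T.uF S i = T.uF S (i + 1) by rw [e]
        refine le_antisymm (fun g hg => ?_)
          (inf_le_inf_right _ (uS_anti (Nat.le_succ i)))
        obtain ⟨t, ht, z, hz, rfl⟩ := T.exists_split_fix hS ⟨i, hlt⟩ hg
        rwa [ht (by simpa using hb), T.lift_zero, one_mul]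
  rw [key 12 0 rfl, List.drop_zero, nSlots]

omit [Finite K] in
theorem Tw.pos_inf_fix : D.posUnipotent K ⊓ T.fix = T.uF allS 0 := by rw [pos_eq_uS]; rfl

end CfsgLib.ReeF4
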